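import Cfsg.Agent.H810.RC.Core_mg_m3
import Cfsg.Agent.H202.RC.Point_mg_m3
import Mathlib.Algebra.QuadraticAlgebra.Defs
import Cfsg.Agent.H93.RC.BoxB3_m3
import Cfsg.Agent.H578.RC.One_m3
import Cfsg.Agent.H236.RC.Ident
import Cfsg.Agent.H385.RC.Dec_mg_m3
import Cfsg.Agent.H208.SgAut_mg
import Cfsg.Agent.H31.RC.Spor.Gen
import Cfsg.Agent.H126.TriRigid
import Cfsg.Agent.H39.Tri3
import Cfsg.Agent.H752.SemiNormal
import Cfsg.Agent.H578.RC.Lin_m3
import Cfsg.Agent.ClassicalGeometry.Universal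
import Cfsg.Agent.ClassicalGeometry.OrthDickson
import Cfsg.Agent.FastGrp
import Cfsg.Agent.Prune
set_option linter.all false

section
prune_inst 0x7ffcfcf9ebb8bfffdfff7e77f7dfcffc39911fffe6dff94bffe0ebff0bdf03004bc5fbaf0de010fe0ff7e21410b87853fffffeffe26fdc7ffffd5ff41ffbee0ff5f7b50851959c340fbc0fff03f0778e7f3fffffffffffffffffffffffffffbeffbfffffffff

-- part: H566/RC/KillRC
section
prune_inst 0x303001006000000000008080030000200400000200400000c000050008098040000008000a200500000004000000000000000010020000000a000000000400000000100420000000000000000080000000000000000000000000000000000000000000000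
set_option linter.all false
open scoped Cfsg.Agent.FastGrp

-- part: H566/RC/Kill1
section
/-!
# S3510, triality: the rotation `r_a r_b` and its images under the triality automorphism (helper566)
-/

set_option autoImplicit false
set_option linter.unusedSectionVars false

namespace Cfsg.Agent.H566.RC

open Module QuadraticMap Cfsg.Agent.LieClassical.OrthCore Cfsg.Agent.LieClassical.OrthTrans
  Cfsg.Agent.LieClassical.OrthSimple Cfsg.Agent.ClassicalGeometry.OrthAut1
  Cfsg.Agent.ClassicalGeometry.OrthSemi Cfsg.Agent.H198.Classes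
  Cfsg.Agent.LieClassical.QuadForms Cfsg.Agent.H198.ClassesPlus
  Cfsg.Agent.ClassicalGeometry.TrialityOct Cfsg.Agent.ClassicalGeometry.Triality
  Cfsg.Agent.ClassicalGeometry.TrialitySpaces Cfsg.Agent.H198.TriBase Cfsg.Agent.H198.TriAut
  Cfsg.Agent.H198.TriDia Cfsg.Agent.H198.TriTC Cfsg.Agent.H106.RC Cfsg.Agent.H93.RC

universe u

variable {F : Type u} [Field F]

section

variable {τ : G8 F} (h : Au τ) {a b : V8 F} (k : Kp τ a b)

theorem refl_refl_gm (ha : plusForm 4 F a ≠ 0) (hb : plusForm 4 F b ≠ 0) (v : V8 F) :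
    refl (plusForm 4 F) a ha (refl (plusForm 4 F) b hb v) = gm a b v := by
  unfold gm
  rw [refl_apply, refl_apply, polar_comm _ b v, polar_comm _ a, div_eq_inv_mul, div_eq_inv_mul]

/-- the rotation as an element of `E Q` -/
theorem exists_rot (hG : Good (plusForm 4 F)) (k : Kp τ a b) :
    ∃ β : ↥(E (plusForm 4 F)), ∀ v, (β : V8 F ≃ₗ[F] V8 F) v = gm a b v := by
  have hb : plusForm 4 F b ≠ 0 := by rw [k.norm]; exact k.ne
  refine ⟨⟨_, hG.refl_mul_refl_mem hb k.ne k.norm⟩, fun v => ?_⟩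
  change refl (plusForm 4 F) a k.ne (refl (plusForm 4 F) b hb v) = gm a b v
  exact refl_refl_gm k.ne hb v

theorem inv_app (M : G8 F) (x : V8 F) : M⁻¹.1 (M.1 x) = x := M.1.symm_apply_apply x

theorem mulG (M N : G8 F) (v : V8 F) : (M * N).1 v = M.1 (N.1 v) := rfl

theorem tg_coe (β : ↥(E (plusForm 4 F))) (v : V8 F) : (tg (plusForm 4 F) β).1 v = (β : V8 F ≃ₗ[F] V8 F) v := rfl

private theorem gen_3 {G H : Type*} [Group G] [Group H] (f : G →* H) {r : H} {t m n : G} (e : r * f m * r⁻¹ = f n) :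
    f t * r * f m * (f t * r)⁻¹ = f (t * n * t⁻¹) := by
  rw [map_mul, map_mul, map_inv, ← e]; group

private theorem gen_4 {G H : Type*} [Group G] [Group H] (f : G →* H) {r z : H} {t m : G}
    (e : r⁻¹ * f (t⁻¹ * m * t) * r = z) : (f t * r)⁻¹ * f m * (f t * r) = z := by
  rw [← e, map_mul, map_mul, map_inv]; group

include h k in
/-- the images of the rotation under the triality automorphism -/
theorem exists_H (hG : Good (plusForm 4 F)) (β : ↥(E (plusForm 4 F)))
    (hβ : ∀ v, (β : V8 F ≃ₗ[F] V8 F) v = gm a b v) :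
    ∃ H1 H2 : G8 F, (∀ v, H1.1 v = ((plusForm 4 F a)⁻¹ ^ 2) • Sm τ a b v) ∧ (∀ v, H2.1 v = Rm τ a b v) ∧
      xt hG τ * Psi _ (tg _ β) * (xt hG τ)⁻¹ = Psi _ H1 ∧ (xt hG τ)⁻¹ * Psi _ (tg _ β) * xt hG τ = Psi _ H2 := by
  have ha := k.ne
  have hb : plusForm 4 F b ≠ 0 := by rw [k.norm]; exact k.ne
  set! c := scal (plusForm 4 F) (Units.mk0 (-(plusForm 4 F a)⁻¹) (neg_ne_zero.2 (inv_ne_zero ha))) with hc
  set! d := scal (plusForm 4 F) (Units.mk0 (-(plusForm 4 F b)⁻¹) (neg_ne_zero.2 (inv_ne_zero hb))) with hd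
  have hc' : ∀ v, c.1 v = (-(plusForm 4 F a)⁻¹ : F) • v := fun v => rfl
  have hd' : ∀ v, d.1 v = (-(plusForm 4 F b)⁻¹ : F) • v := fun v => rfl
  clear_value c d
  have eg : tg _ β = gamO _ ⟨refl (plusForm 4 F) a ha, refl_mem_O ha⟩ *
        gamO _ ⟨refl (plusForm 4 F) b hb, refl_mem_O hb⟩ := by
      apply Subtype.ext
      ext1 v
      change (β : V8 F ≃ₗ[F] V8 F) v = refl (plusForm 4 F) a ha (refl (plusForm 4 F) b hb v)
      rw [refl_refl_gm, hβ]
  rw [gamO_refl, gamO_refl, ← hc, ← hd] at eg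
  have eg' : tg _ β = c * bG a ha * (d * (kapG F * bG b hb * kapG F)) := by
    rw [eg]
    apply Subtype.ext
    ext1 v
    simp only [mulG, hc', hd', bG_apply, kapG_apply, oconj_smul]
  clear eg
  have ht : TriS (tg _ β) (c * lG a ha * (d * (kapG F * rG b hb * kapG F)))
      (1 * rG a ha * (1 * (kapG F * lG b hb * kapG F))) := by
    rw [eg', hc, hd]
    exact ((tri_scal _).mul (tri_bG a ha)).mul ((tri_scal _).mul (tri_bG b hb).kap)
  have ht' : TriS (τ⁻¹ * tg _ β * τ) (τ⁻¹ * (c * lG a ha * (d * (kapG F * rG b hb * kapG F))) * τ)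
      (τ⁻¹ * (1 * rG a ha * (1 * (kapG F * lG b hb * kapG F))) * τ) := (h.tri.inv.mul ht).mul h.tri
  have hi : ∀ x, τ⁻¹.1 x = τ.1 (τ.1 x) := h.inv_eq
  refine ⟨τ * (kapG F * (c * lG a ha * (d * (kapG F * rG b hb * kapG F))) * kapG F) * τ⁻¹,
    kapG F * (τ⁻¹ * (1 * rG a ha * (1 * (kapG F * lG b hb * kapG F))) * τ) * kapG F, ?_, ?_, ?_, ?_⟩
  · intro v
    simp only [mulG, hc', hd', lG_apply, rG_apply, kapG_apply]
    unfold Sm
    rw [h.dia_eq (dia τ b v) a, h.dia_eq b v]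
    simp only [hi, oconj_oconj, omul_smul, smul_smul, oconj_smul, h.smul, oconj_omul, h.mul, h.conj, h.t3, k.norm]
    congr 1
    ring
  · intro v
    simp only [mulG, one_mul, lG_apply, rG_apply, kapG_apply]
    unfold Rm
    rw [h.dia_eq a, h.dia_eq v b]
    simp only [hi, oconj_oconj, oconj_omul, h.mul, h.conj, h.t3]
  · exact gen_3 (Psi (plusForm 4 F)) (rho_conj hG ht)
  · exact gen_4 (Psi (plusForm 4 F)) (rho_inv_conj hG ht')

end

end Cfsg.Agent.H566.RC
end

-- part: H566/RC/Kill2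
section
/-!
# S3510, triality: linear algebra of the rotation of a composition plane (helper566)
-/

set_option autoImplicit false
set_option linter.unusedSectionVars false

namespace Cfsg.Agent.H566.RC

open Module QuadraticMap Cfsg.Agent.LieClassical.OrthCore Cfsg.Agent.LieClassical.OrthTrans
  Cfsg.Agent.LieClassical.OrthSimple Cfsg.Agent.ClassicalGeometry.OrthAut1
  Cfsg.Agent.ClassicalGeometry.OrthSemi Cfsg.Agent.H198.Classes
  Cfsg.Agent.LieClassical.QuadForms Cfsg.Agent.H198.ClassesPlus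
  Cfsg.Agent.ClassicalGeometry.TrialityOct Cfsg.Agent.ClassicalGeometry.Triality
  Cfsg.Agent.ClassicalGeometry.TrialitySpaces Cfsg.Agent.H198.TriBase Cfsg.Agent.H198.TriAut
  Cfsg.Agent.H198.TriDia Cfsg.Agent.H198.TriTC Cfsg.Agent.H106.RC Cfsg.Agent.H93.RC

universe u

variable {F : Type u} [Field F]

/-- the plane -/
def InK (a b v : V8 F) : Prop := ∃ α β : F, v = α • a + β • b

/-- the quadratic algebra generated by `S` -/
abbrev QA (a b : V8 F) := QuadraticAlgebra F (-(plusForm 4 F a) ^ 2) (polar (plusForm 4 F) a b)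

theorem qa_reduced {a b : V8 F} (hd : polar (plusForm 4 F) a b ^ 2 ≠ 4 * plusForm 4 F a ^ 2)
    (z : QA a b) (hz : z * z = 0) : z = 0 := by
  have h1 := congrArg QuadraticAlgebra.re hz
  have h2 := congrArg QuadraticAlgebra.im hz
  rw [QuadraticAlgebra.re_mul, QuadraticAlgebra.re_zero] at h1
  rw [QuadraticAlgebra.im_mul, QuadraticAlgebra.im_zero] at h2
  have h3 : z.im = 0 := by
    by_contra h0
    apply hd
    have h4 : 2 * z.re + polar (plusForm 4 F) a b * z.im = 0 := by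
      have : z.im * (2 * z.re + polar (plusForm 4 F) a b * z.im) = 0 := by linear_combination h2
      exact (mul_eq_zero.1 this).resolve_left h0
    have h5 : z.im ^ 2 * (polar (plusForm 4 F) a b ^ 2 - 4 * plusForm 4 F a ^ 2) = 0 := by
      linear_combination (polar (plusForm 4 F) a b * z.im - 2 * z.re) * h4 + 4 * h1
    exact sub_eq_zero.1 ((mul_eq_zero.1 h5).resolve_left (pow_ne_zero 2 h0))
  have h6 : z.re = 0 := by
    rw [h3] at h1
    have : z.re * z.re = 0 := by linear_combination h1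
    exact mul_self_eq_zero.1 this
  exact QuadraticAlgebra.ext h6 h3

theorem qa_pow {a b : V8 F} (hd : polar (plusForm 4 F) a b ^ 2 ≠ 4 * plusForm 4 F a ^ 2) {p : ℕ} [hp : Fact p.Prime]
    [CharP F p] (z : QA a b) (hz : z ^ p = 1) : z = 1 := by
  have hred : IsReduced (QA a b) := (isReduced_iff_pow_one_lt 2 one_lt_two).2 fun x hx =>
    qa_reduced hd x (by rw [← pow_two]; exact hx)
  have hch : CharP (QA a b) p := charP_of_injective_algebraMap (R := F) QuadraticAlgebra.algebraMap_injective p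
  have h1 : (z - 1) ^ p = 0 := by rw [sub_pow_char, hz, one_pow, sub_self]
  exact sub_eq_zero.1 (pow_eq_zero_iff hp.out.ne_zero |>.1 h1)

/-- the action of the quadratic algebra on the plane -/
def ac (τ : G8 F) (a b : V8 F) (z : QA a b) (v : V8 F) : V8 F := z.re • v + z.im • Sm τ a b v

section

variable {τ : G8 F} (h : Au τ) {a b : V8 F} (k : Kp τ a b)

theorem InK.add {v w : V8 F} (hv : InK a b v) (hw : InK a b w) : InK a b (v + w) := by
  obtain ⟨α, β, rfl⟩ := hv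
  obtain ⟨γ, δ, rfl⟩ := hw
  exact ⟨α + γ, β + δ, by module⟩

theorem InK.smul {v : V8 F} (hv : InK a b v) (c : F) : InK a b (c • v) := by
  obtain ⟨α, β, rfl⟩ := hv
  exact ⟨c * α, c * β, by module⟩

theorem inK_a : InK a b a := ⟨1, 0, by module⟩

include h k

theorem InK.S {v : V8 F} (hv : InK a b v) : InK a b (Sm τ a b v) := by
  obtain ⟨α, β, rfl⟩ := hv
  rw [Sm_add h, Sm_smul h, Sm_smul h, S_a h k, S_b h k]
  refine ⟨-β * plusForm 4 F a, α * plusForm 4 F a + β * polar (plusForm 4 F) a b, by module⟩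

theorem ac_mul (z w : QA a b) {v : V8 F} (hv : InK a b v) : ac τ a b (z * w) v = ac τ a b z (ac τ a b w v) := by
  unfold ac
  rw [Sm_add h, Sm_smul h, Sm_smul h, SS h k hv, QuadraticAlgebra.re_mul, QuadraticAlgebra.im_mul]
  module

omit h k in
theorem ac_one (v : V8 F) : ac τ a b 1 v = v := by
  unfold ac
  rw [QuadraticAlgebra.re_one, QuadraticAlgebra.im_one]
  module

theorem InK.ac {v : V8 F} (hv : InK a b v) (z : QA a b) : InK a b (ac τ a b z v) :=
  (hv.smul _).add ((hv.S h k).smul _)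

/-- the rotation as an element of the quadratic algebra -/
noncomputable def zg (a b : V8 F) : QA a b :=
  ⟨polar (plusForm 4 F) a b ^ 2 / plusForm 4 F a ^ 2 - 1, -(polar (plusForm 4 F) a b / plusForm 4 F a ^ 2)⟩

theorem gm_ac {v : V8 F} (hv : InK a b v) : gm a b v = ac τ a b (zg a b) v := by
  obtain ⟨α, β, rfl⟩ := hv
  have hne := k.ne
  rw [gm_add, gm_smul, gm_smul, gm_a k, gm_b k]
  unfold ac zg
  dsimp only
  rw [Sm_add h, Sm_smul h, Sm_smul h, S_a h k, S_b h k]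
  generalize polar (plusForm 4 F) a b = c at *
  generalize plusForm 4 F a = κ at *
  match_scalars <;> field_simp <;> ring

theorem gm_iter {v : V8 F} (hv : InK a b v) (n : ℕ) : (gm a b)^[n] v = ac τ a b (zg a b ^ n) v := by
  induction n with
  | zero => rw [pow_zero, ac_one]; rfl
  | succ n ih => rw [Function.iterate_succ_apply', ih, gm_ac h k (hv.ac h k _), ← ac_mul h k _ _ hv, ← pow_succ']

omit h in
theorem indep {α β : F} (he : α • a + β • b = 0) : α = 0 ∧ β = 0 := by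
  have h1 := congrArg (fun v => polar (plusForm 4 F) v a) he
  have h2 := congrArg (fun v => polar (plusForm 4 F) v b) he
  simp only [polar_add_left, polar_smul_left, polar_self', k.norm, polar_comm _ b a, polar_zero_left, smul_eq_mul] at h1 h2
  have hd := sub_ne_zero.2 k.disc
  have h3 : α * (polar (plusForm 4 F) a b ^ 2 - 4 * plusForm 4 F a ^ 2) = 0 := by
    linear_combination polar (plusForm 4 F) a b * h2 - 2 * plusForm 4 F a * h1
  have h4 : β * (polar (plusForm 4 F) a b ^ 2 - 4 * plusForm 4 F a ^ 2) = 0 := by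
    linear_combination polar (plusForm 4 F) a b * h1 - 2 * plusForm 4 F a * h2
  exact ⟨(mul_eq_zero.1 h3).resolve_right hd, (mul_eq_zero.1 h4).resolve_right hd⟩

theorem ac_eq {z : QA a b} {c : F} (hz : ac τ a b z a = c • a) : z = QuadraticAlgebra.C c := by
  unfold ac at hz
  rw [S_a h k] at hz
  have h1 : (z.re - c) • a + (z.im * plusForm 4 F a) • b = 0 := by
    rw [sub_smul, mul_smul, ← hz]
    abel
  obtain ⟨h2, h3⟩ := indep k h1
  exact QuadraticAlgebra.ext (sub_eq_zero.1 h2) ((mul_eq_zero.1 h3).resolve_right k.ne)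

theorem gm_b_ne : gm a b b ≠ b := by
  intro he
  rw [gm_b k] at he
  have h1 : (polar (plusForm 4 F) a b / plusForm 4 F a) • a + (-2 : F) • b = 0 := by
    have : (polar (plusForm 4 F) a b / plusForm 4 F a) • a + (-2 : F) • b =
      ((polar (plusForm 4 F) a b / plusForm 4 F a) • a - b) - b := by module
    rw [this, he, sub_self]
  obtain ⟨h2, h3⟩ := indep k h1
  apply k.disc
  have h4 : polar (plusForm 4 F) a b = 0 := (div_eq_zero_iff.1 h2).resolve_right k.ne
  have h5 : (4 : F) = 0 := by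
    have : (4 : F) = (-2) * (-2) := by norm_num
    rw [this, h3, zero_mul]
  rw [h4, h5]
  ring

/-- an element of `p`-power order is trivial -/
theorem iter_p {p : ℕ} [Fact p.Prime] [CharP F p] {n : ℕ} (hn : ∀ v, (gm a b)^[n * p] v = v) (v : V8 F) :
    (gm a b)^[n] v = v := by
  have h1 : zg a b ^ n = 1 := by
    apply qa_pow k.disc (p := p)
    rw [← pow_mul]
    have h2 := hn a
    rw [gm_iter h k inK_a] at h2
    have h3 : ac τ a b (zg a b ^ (n * p)) a = (1 : F) • a := by rw [h2, one_smul]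
    rw [ac_eq h k h3, QuadraticAlgebra.C_one]
  obtain ⟨α, β, w, rfl, hwa, hwb⟩ := exists_dec h k v
  have hadd : ∀ (n : ℕ) (x y : V8 F), (gm a b)^[n] (x + y) = (gm a b)^[n] x + (gm a b)^[n] y := by
    intro n x y
    induction n with
    | zero => rfl
    | succ n ih => rw [Function.iterate_succ_apply', ih, gm_add, Function.iterate_succ_apply',
        Function.iterate_succ_apply']
  have hw : (gm a b)^[n] w = w := Function.iterate_fixed (gm_w hwa hwb) n
  rw [hadd, hw, gm_iter h k ⟨α, β, rfl⟩, h1, ac_one]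

end

/-! ### The orthogonal complement -/

section

variable {τ : G8 F} (h : Au τ) {a b : V8 F} (k : Kp τ a b)

/-- the orthogonal complement -/
def Wp (a b : V8 F) : Submodule F (V8 F) where
  carrier := {v | polar (plusForm 4 F) v a = 0 ∧ polar (plusForm 4 F) v b = 0}
  add_mem' := by
    rintro v w ⟨h1, h2⟩ ⟨h3, h4⟩
    exact ⟨by rw [polar_add_left, h1, h3, add_zero], by rw [polar_add_left, h2, h4, add_zero]⟩
  zero_mem' := ⟨polar_zero_left _ _, polar_zero_left _ _⟩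
  smul_mem' := by
    rintro c v ⟨h1, h2⟩
    exact ⟨by rw [polar_smul_left, h1, smul_zero], by rw [polar_smul_left, h2, smul_zero]⟩

theorem mem_Wp {v : V8 F} : v ∈ Wp a b ↔ polar (plusForm 4 F) v a = 0 ∧ polar (plusForm 4 F) v b = 0 := Iff.rfl

include k

theorem Wp_facts (hG : Good (plusForm 4 F)) [Finite F] :
    Good ((plusForm 4 F).comp (Wp a b).subtype) ∧ finrank F (Wp a b) = 6 ∧ Wp a b ≠ ⊤ := by
  have hdet : 4 * plusForm 4 F a * plusForm 4 F b - polar (plusForm 4 F) a b * polar (plusForm 4 F) a b ≠ 0 := by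
    intro h0
    apply k.disc
    rw [k.norm] at h0
    linear_combination -h0
  obtain ⟨α, β, hsp, hW1, hW2⟩ := Cfsg.Agent.H236.RC.split_of_det hdet
  have hW : Wp a b = Cfsg.Agent.GenOrth.Comp α β := by
    ext v
    rw [mem_Wp, Cfsg.Agent.GenOrth.mem_Comp, polar_comm _ v a, polar_comm _ v b]
    exact ⟨fun h => hW2 v h.1 h.2, fun h => hW1 v h.1 h.2⟩
  have hWnd : Nondeg ((plusForm 4 F).comp (Wp a b).subtype) := by
    rw [hW]
    exact Cfsg.Agent.GenOrth.nondeg_restr hG.nondeg hsp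
  have hV : finrank F (V8 F) = 8 := by
    rw [Module.finrank_pi]
    rfl
  have hWd : finrank F (Wp a b) = 6 := by
    have h1 := Cfsg.Agent.GenOrth.finrank_Comp hsp
    rw [← hW] at h1
    have h2 : finrank F (Wp a b) + 2 = 8 := h1.trans hV
    omega
  refine ⟨Cfsg.Agent.LieClassical.OrthFinite.good_of_finite hWnd (le_of_le_of_eq (by norm_num) hWd.symm), hWd, ?_⟩
  intro h0
  rw [h0, finrank_top, hV] at hWd
  omega

/-- a nonsingular vector of `W` -/
theorem exists_w (hG : Good (plusForm 4 F)) [Finite F] : ∃ w ∈ Wp a b, plusForm 4 F w ≠ 0 := by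
  obtain ⟨h1, h2, h3⟩ := Wp_facts k hG
  by_contra hcon
  push Not at hcon
  obtain ⟨v, hv⟩ : ∃ v : Wp a b, v ≠ 0 := by
    by_contra h4
    push Not at h4
    have h5 : Subsingleton (Wp a b) := ⟨fun x y => by rw [h4 x, h4 y]⟩
    rw [finrank_zero_of_subsingleton] at h2
    omega
  apply hv
  apply h1.nondeg
  intro y
  rw [QuadraticMap.polar]
  have e : ∀ z : Wp a b, (plusForm 4 F).comp (Wp a b).subtype z = 0 := fun z => (hcon z z.2 :)
  rw [e, e, e]
  ring

include h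

theorem exists_not_inK (hG : Good (plusForm 4 F)) [Finite F] {w : V8 F} (hQ : plusForm 4 F w ≠ 0) :
    ∃ w' ∈ Wp a b, ¬ InK a b (dia τ w w') := by
  obtain ⟨h1, h2, h3⟩ := Wp_facts k hG
  by_contra hcon
  push Not at hcon
  let L : V8 F →ₗ[F] V8 F :=
    { toFun := fun v => dia τ w v
      map_add' := fun x y => h.dia_add_right w x y
      map_smul' := fun c x => h.dia_smul_right c w x }
  have hinj : Function.Injective L := by
    rw [injective_iff_map_eq_zero]
    intro v hv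
    have h4 := h.dia_dia w v
    have h5 : dia τ w v = 0 := hv
    have h6 : dia τ (0 : V8 F) w = 0 := by
      have := h.dia_smul_left 0 0 w
      rwa [zero_smul, zero_smul] at this
    rw [h5, h6] at h4
    exact (smul_eq_zero.1 h4.symm).resolve_left hQ
  have h7 : (Wp a b).map L ≤ Submodule.span F {a, b} := by
    rintro _ ⟨v, hv, rfl⟩
    obtain ⟨α, β, h8⟩ := hcon v hv
    rw [Submodule.mem_span_pair]
    exact ⟨α, β, h8.symm⟩
  have h8 := Submodule.finrank_mono h7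
  have h9 : finrank F ((Wp a b).map L) = finrank F (Wp a b) :=
    (Submodule.equivMapOfInjective L hinj (Wp a b)).finrank_eq.symm
  have h10 : finrank F (Submodule.span F {a, b}) ≤ 2 := by
    classical
    refine (finrank_span_le_card ({a, b} : Set (V8 F))).trans ?_
    rw [Set.toFinset_insert, Set.toFinset_singleton]
    exact Finset.card_le_two
  rw [h9, h2] at h8
  omega

/-- an automorphism of the product which fixes `a`, `b` and is scalar on `W` is trivial -/
theorem eq_one_of_scalOn (hG : Good (plusForm 4 F)) [Finite F] {M : G8 F} (hl : Cfsg.Agent.H93.RC.IsLin M)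
    (hd : ∀ u w, M.1 (dia τ u w) = dia τ (M.1 u) (M.1 w)) (ha : M.1 a = a) (hb : M.1 b = b)
    (hs : ScalOn M (Wp a b)) (v : V8 F) : M.1 v = v := by
  obtain ⟨s, hs0, hs⟩ := hs
  obtain ⟨w, hw, hQ⟩ := exists_w k hG
  have hadd : ∀ x y : V8 F, M.1 (x + y) = M.1 x + M.1 y := add_of_mem M.2
  have e1 : s * s = 1 := by
    have h1 : dia τ w a ∈ Wp a b := perp_right h k hw.1 hw.2 (Or.inl rfl)
    have h2 := hd (dia τ w a) w
    rw [h.dia_dia, hl, ha, hs _ h1, hs _ hw, h.dia_smul_left, h.dia_smul_right, h.dia_dia, smul_smul, smul_smul] at h2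
    have h3 : (plusForm 4 F w * (1 - s * s)) • a + (0 : F) • b = 0 := by
      rw [zero_smul, add_zero]
      have : (plusForm 4 F w * (1 - s * s)) • a = plusForm 4 F w • a - (s * (s * plusForm 4 F w)) • a := by module
      rw [this, h2, sub_eq_zero]
      module
    have h4 := ((mul_eq_zero.1 (indep k h3).1).resolve_left hQ)
    exact (sub_eq_zero.1 h4).symm
  obtain ⟨w', hw', hnot⟩ := exists_not_inK h k hG hQ
  obtain ⟨α, β, u, hu, hua, hub⟩ := exists_dec h k (dia τ w w')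
  have hu0 : u ≠ 0 := by
    rintro rfl
    exact hnot ⟨α, β, by rw [hu, add_zero]⟩
  have e2 : s = 1 := by
    have h2 := hd w w'
    rw [hs _ hw, hs _ hw', h.dia_smul_left, h.dia_smul_right, smul_smul, e1, one_smul, hu, hadd, hadd, hl, hl, ha, hb,
      hs u ⟨hua, hub⟩] at h2
    have h3 : (s - 1) • u = 0 := by
      rw [sub_smul, one_smul, sub_eq_zero]
      exact add_left_cancel h2
    exact sub_eq_zero.1 ((smul_eq_zero.1 h3).resolve_right hu0)
  obtain ⟨γ, δ, x, rfl, hxa, hxb⟩ := exists_dec h k v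
  rw [hadd, hadd, hl, hl, ha, hb, hs x ⟨hxa, hxb⟩, e2, one_smul]

end

end Cfsg.Agent.H566.RC
end

-- part: H566/RC/Kill3
section
/-!
# S3510, triality: the KL lemma (helper566)

`kill` : a cover consisting of a triality element `x i₁` (`xt hG τ`, `τ` linear) and commuting elements of different
prime orders whose lifts are automorphisms of `dia τ` fixing a composition plane `⟨a, b⟩` does not exist
(if `RC` holds for the orthogonal group of the complement).
-/

set_option autoImplicit false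
set_option linter.unusedSectionVars false

namespace Cfsg.Agent.H566.RC

open Module QuadraticMap Cfsg.Agent.LieClassical.OrthCore Cfsg.Agent.LieClassical.OrthTrans
  Cfsg.Agent.LieClassical.OrthSimple Cfsg.Agent.ClassicalGeometry.OrthAut1
  Cfsg.Agent.ClassicalGeometry.OrthSemi Cfsg.Agent.H198.Classes
  Cfsg.Agent.LieClassical.QuadForms Cfsg.Agent.H198.ClassesPlus
  Cfsg.Agent.ClassicalGeometry.TrialityOct Cfsg.Agent.ClassicalGeometry.Triality
  Cfsg.Agent.ClassicalGeometry.TrialitySpaces Cfsg.Agent.H198.TriBase Cfsg.Agent.H198.TriAut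
  Cfsg.Agent.H198.TriDia Cfsg.Agent.H198.TriTC Cfsg.Agent.H106.RC Cfsg.Agent.H93.RC

universe u

variable {F : Type u} [Field F]

theorem pow_app (M : G8 F) (n : ℕ) (v : V8 F) : (M ^ n).1 v = (M.1)^[n] v := by
  induction n generalizing v with
  | zero => rfl
  | succ n ih => rw [pow_succ, mulG, ih, Function.iterate_succ_apply]

theorem tg_pow {a b : V8 F} {β : ↥(E (plusForm 4 F))} (hβ : ∀ v, (β : V8 F ≃ₗ[F] V8 F) v = gm a b v) (n : ℕ)
    (v : V8 F) : (tg (plusForm 4 F) (β ^ n)).1 v = (gm a b)^[n] v := by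
  rw [map_pow, pow_app]
  have : ((tg (plusForm 4 F) β).1 : V8 F → V8 F) = gm a b := funext fun v => hβ v
  rw [this]

theorem iter_W {a b v : V8 F} (hv : v ∈ Wp a b) (n : ℕ) : (gm a b)^[n] v = v :=
  Function.iterate_fixed (gm_w hv.1 hv.2) n

/-- a linear similitude fixing a nonsingular vector is an isometry -/
theorem isom_of_fix {M : G8 F} (hl : Cfsg.Agent.H198.TriDia.IsLin M) {a : V8 F} (ha : M.1 a = a)
    (hne : plusForm 4 F a ≠ 0) : IsSS (plusForm 4 F) (RingEquiv.refl F) 1 M.1 := by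
  obtain ⟨c, hc⟩ := hl
  have h1 := hc.form a
  rw [ha, RingEquiv.refl_apply] at h1
  have h2 : c = 1 := by
    have h3 : (c - 1) * plusForm 4 F a = 0 := by rw [sub_mul, one_mul, ← h1, sub_self]
    exact sub_eq_zero.1 ((mul_eq_zero.1 h3).resolve_right hne)
  rwa [h2] at hc

theorem gm_comm {M : G8 F} (hM : IsSS (plusForm 4 F) (RingEquiv.refl F) 1 M.1) {a b : V8 F} (ha : M.1 a = a)
    (hb : M.1 b = b) (v : V8 F) : gm a b (M.1 v) = M.1 (gm a b v) := by
  have hp : ∀ u w, polar (plusForm 4 F) (M.1 u) (M.1 w) = polar (plusForm 4 F) u w := by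
    intro u w
    have := hM.polar u w
    rwa [one_mul] at this
  have hsub := hM.sub
  have hsm : ∀ (c : F) u, M.1 (c • u) = c • M.1 u := fun c u => hM.smul c u
  have e1 : ∀ c : F, M.1 v - c • b = M.1 (v - c • b) := by
    intro c
    rw [hsub, hsm, hb]
  have e2 : polar (plusForm 4 F) (M.1 v) b = polar (plusForm 4 F) v b := by
    rw [← hp v b, hb]
  unfold gm
  rw [e2, e1]
  set v' := v - (polar (plusForm 4 F) v b / plusForm 4 F b) • b
  have e3 : polar (plusForm 4 F) (M.1 v') a = polar (plusForm 4 F) v' a := by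
    rw [← hp v' a, ha]
  clear_value v'
  rw [e3, hsub, hsm, ha]

section

variable {τ : G8 F} (h : Au τ) {a b : V8 F} (k : Kp τ a b)
variable {G : Type*} [Group G] {N : Subgroup G} {σ : P8 F →* G}

include h k

/-- powers of the rotation which are trivial in `G` -/
theorem pow_one_iff [Finite F] (hG : Good (plusForm 4 F)) (hσ : Rp (plusForm 4 F) N σ) {β : ↥(E (plusForm 4 F))}
    (hβ : ∀ v, (β : V8 F ≃ₗ[F] V8 F) v = gm a b v) (n : ℕ) :
    up σ β ^ n = 1 ↔ ∀ v, (gm a b)^[n] v = v := by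
  rw [← map_pow]
  constructor
  · intro h1
    have h2 : β ^ n ∈ Subgroup.center ↥(E (plusForm 4 F)) := by
      rw [← hσ.rep.ker]; exact h1
    obtain ⟨c, hc⟩ := center_scalar hG h2
    obtain ⟨w, hw, hQ⟩ := exists_w k hG
    have hc' : ∀ v, (gm a b)^[n] v = c • v := by
      intro v
      rw [← hc v, ← tg_pow hβ]
      rfl
    have h3 := hc' w
    rw [iter_W hw] at h3
    have hw0 : w ≠ 0 := by rintro rfl; exact hQ (QuadraticMap.map_zero _)
    have h4 : c = 1 := by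
      have : (c - 1) • w = 0 := by rw [sub_smul, one_smul, ← h3, sub_self]
      exact sub_eq_zero.1 ((smul_eq_zero.1 this).resolve_right hw0)
    intro v
    rw [hc', h4, one_smul]
  · intro h1
    have h2 : β ^ n = 1 := by
      apply Subtype.ext
      apply LinearEquiv.ext
      intro v
      have := tg_pow hβ n v
      rw [h1] at this
      exact this
    rw [h2, map_one]

end

/-- the cubes -/
theorem coprime_one {G : Type*} [Group G] {g : G} {m n : ℕ} (h : m.Coprime n) (h1 : g ^ m = 1) (h2 : g ^ n = 1) :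
    g = 1 := by
  have h3 := pow_gcd_eq_one.2 ⟨h1, h2⟩
  rwa [h, pow_one] at h3

section main

variable {τ : G8 F} (h : Au τ) {a b : V8 F} (k : Kp τ a b)
variable {G Ω : Type*} [Group G] [Finite G] [MulAction G Ω] [Nonempty Ω] {N : Subgroup G} {σ : P8 F →* G}

include h k

/-- the elements of `G` attached to the rotation -/
theorem exists_B [Finite F] (hG : Good (plusForm 4 F)) (hE : Env G Ω N) (hσ : Rp (plusForm 4 F) N σ)
    {x₁ : G} (hL : La σ x₁ (xt hG τ)) :
    ∃ (B : G) (β : ↥(E (plusForm 4 F))) (H1 : G8 F), (∀ v, (β : V8 F ≃ₗ[F] V8 F) v = gm a b v) ∧ B = up σ β ∧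
      (∀ v, H1.1 v = ((plusForm 4 F a)⁻¹ ^ 2) • Sm τ a b v) ∧ Lf (up σ) (x₁ * B * x₁⁻¹) H1 ∧
      B * (x₁ * B * x₁⁻¹) = x₁ * B * x₁⁻¹ * B ∧
      B * (x₁ * B * x₁⁻¹) * (x₁ * (x₁ * B * x₁⁻¹) * x₁⁻¹) = 1 := by
  obtain ⟨β, hβ⟩ := exists_rot hG k
  obtain ⟨H1, H2, hH1, hH2, e1, e2⟩ := exists_H h k hG β hβ
  have hLB : La σ (up σ β) (Psi _ (tg _ β)) := La.lf.2 (Lf.tg β)
  have hx3 : x₁ ^ 3 = 1 := by
    have h1 := hL.pow 3
    rw [xt_pow_three hG h.tri h.cube] at h1
    exact h1.eq hE hσ La.one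
  have l1 : Lf (up σ) (x₁ * up σ β * x₁⁻¹) H1 := by
    rw [← La.lf, ← e1]
    exact (hL.mul hLB).mul hL.inv
  have l2 : Lf (up σ) (x₁⁻¹ * up σ β * x₁) H2 := by
    rw [← La.lf, ← e2]
    exact (hL.inv.mul hLB).mul hL
  have e3 : x₁ * (x₁ * up σ β * x₁⁻¹) * x₁⁻¹ = x₁⁻¹ * up σ β * x₁ := by
    have h1 : x₁ * x₁ = x₁⁻¹ := by
      rw [eq_inv_iff_mul_eq_one, ← pow_two, ← pow_succ, hx3]
    calc x₁ * (x₁ * up σ β * x₁⁻¹) * x₁⁻¹ = (x₁ * x₁) * up σ β * (x₁ * x₁)⁻¹ := by group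
      _ = _ := by rw [h1, inv_inv]
  have hsc : ∀ (c : F) v, gm a b (c • v) = c • gm a b v := fun c v => gm_smul c v
  refine ⟨up σ β, β, H1, hβ, rfl, hH1, l1, ?_, ?_⟩
  · have m1 : Lf (up σ) (up σ β * (x₁ * up σ β * x₁⁻¹)) (tg _ β * H1) := (Lf.tg β).mul l1
    have m2 : Lf (up σ) (x₁ * up σ β * x₁⁻¹ * up σ β) (H1 * tg _ β) := l1.mul (Lf.tg β)
    have e4 : tg _ β * H1 = H1 * tg _ β := by
      apply Subtype.ext
      ext1 v
      change (tg _ β * H1).1 v = (H1 * tg _ β).1 v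
      rw [mulG, mulG, tg_coe, tg_coe, hβ, hβ, hH1, hH1, hsc, gS h k]
    rw [← e4] at m2
    exact (La.lf.2 m1).eq hE hσ (La.lf.2 m2)
  · have m1 := (((Lf.tg (ρ := up σ) β).mul l1).mul l2)
    rw [e3, (m1.eq_one_iff hG hE hσ.rep)]
    refine ⟨1, one_ne_zero, fun v => ?_⟩
    rw [mulG, mulG, tg_coe, hβ, hH1, hH2, hsc, gSR h k, smul_smul, ← mul_pow, inv_mul_cancel₀ k.ne, one_pow]

end main

end Cfsg.Agent.H566.RC
end

-- part: H566/RC/Kill4
section
/-!
# S3510, triality: the KL lemma (helper566)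

`kill` : a cover consisting of a triality element `x i₁` (`xt hG τ`, `τ` linear) and commuting elements of different
prime orders whose lifts are automorphisms of `dia τ` fixing a composition plane `⟨a, b⟩` does not exist
(if `RC` holds for the orthogonal group of the complement).
-/

set_option autoImplicit false
set_option linter.unusedSectionVars false

namespace Cfsg.Agent.H566.RC

open Module QuadraticMap Cfsg.Agent.LieClassical.OrthCore Cfsg.Agent.LieClassical.OrthTrans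
  Cfsg.Agent.LieClassical.OrthSimple Cfsg.Agent.ClassicalGeometry.OrthAut1
  Cfsg.Agent.ClassicalGeometry.OrthSemi Cfsg.Agent.H198.Classes
  Cfsg.Agent.LieClassical.QuadForms Cfsg.Agent.H198.ClassesPlus
  Cfsg.Agent.ClassicalGeometry.TrialityOct Cfsg.Agent.ClassicalGeometry.Triality
  Cfsg.Agent.ClassicalGeometry.TrialitySpaces Cfsg.Agent.H198.TriBase Cfsg.Agent.H198.TriAut
  Cfsg.Agent.H198.TriDia Cfsg.Agent.H198.TriTC Cfsg.Agent.H106.RC Cfsg.Agent.H93.RC

universe u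

variable {F : Type u} [Field F]

theorem iter_H {τ : G8 F} (h : Au τ) {a b : V8 F} (k : Kp τ a b) {H1 : G8 F}
    (hH1 : ∀ v, H1.1 v = ((plusForm 4 F a)⁻¹ ^ 2) • Sm τ a b v) (n : ℕ) :
    ∀ v ∈ Wp a b, (H1 ^ n).1 v ∈ Wp a b := by
  induction n with
  | zero => intro v hv; rw [pow_zero]; exact hv
  | succ n ih =>
    intro v hv
    rw [pow_succ, mulG]
    apply ih
    rw [hH1]
    exact (Wp a b).smul_mem _ (S_perp h k hv.1 hv.2)

/-- a `ρ`-fixed power of the rotation of order three is trivial -/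
theorem fixed_triv [Finite F] (hG : Good (plusForm 4 F)) {τ : G8 F} (h : Au τ) {a b : V8 F} (k : Kp τ a b)
    {β : ↥(E (plusForm 4 F))} (hβ : ∀ v, (β : V8 F ≃ₗ[F] V8 F) v = gm a b v) {n : ℕ}
    (h3 : ∀ v, (gm a b)^[n * 3] v = v)
    (hc : Psi (plusForm 4 F) (tg _ (β ^ n)) * xt hG τ = xt hG τ * Psi (plusForm 4 F) (tg _ (β ^ n))) (v : V8 F) :
    (gm a b)^[n] v = v := by
  -- the scalar
  obtain ⟨N₁, N₂, hN⟩ : tg (plusForm 4 F) (β ^ n) ∈ T1 F := by
    have h1 := gamO_mem_T1 hG (x := ⟨((β ^ n : ↥(E (plusForm 4 F))) : V8 F ≃ₗ[F] V8 F), E_le_O (β ^ n).2⟩) (β ^ n).2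
    exact h1
  obtain ⟨c, hc0, hc⟩ := comm_mo hG h.tri hN hc
  have hmo : ∀ u w, mo τ τ u w = dia τ u w := by
    intro u w
    unfold mo dia
    rw [aut_oconj h.tri.inv]
  have hc' : ∀ u w, (gm a b)^[n] (dia τ u w) = c • dia τ ((gm a b)^[n] u) ((gm a b)^[n] w) := by
    intro u w
    have := hc u w
    rwa [hmo, hmo, tg_pow hβ, tg_pow hβ, tg_pow hβ] at this
  obtain ⟨w, hw, hQ⟩ := exists_w k hG
  have hsm : ∀ (n : ℕ) (c : F) (x : V8 F), (gm a b)^[n] (c • x) = c • (gm a b)^[n] x := by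
    intro n c x
    induction n with
    | zero => rfl
    | succ n ih => rw [Function.iterate_succ_apply', ih, gm_smul, Function.iterate_succ_apply']
  have key : ∀ y, y = a ∨ y = b → (gm a b)^[n] y = c • y := by
    intro y hy
    have h1 : dia τ w y ∈ Wp a b := perp_right h k hw.1 hw.2 hy
    have h2 := hc' (dia τ w y) w
    rw [h.dia_dia, iter_W h1, iter_W hw, h.dia_dia, hsm, smul_comm c] at h2
    have h4 := congrArg (fun z => (plusForm 4 F w)⁻¹ • z) h2
    simp only [smul_smul, inv_mul_cancel₀ hQ, one_smul] at h4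
    rw [← mul_assoc, inv_mul_cancel₀ hQ, one_mul] at h4
    exact h4
  have hz : zg a b ^ n = QuadraticAlgebra.C c := by
    apply ac_eq h k
    rw [← gm_iter h k inK_a]
    exact key a (Or.inl rfl)
  have hz3 : c ^ 3 = 1 := by
    have h1 : zg a b ^ (n * 3) = QuadraticAlgebra.C 1 := by
      apply ac_eq h k
      rw [← gm_iter h k inK_a, h3, one_smul]
    rw [pow_mul, hz, ← QuadraticAlgebra.C_pow] at h1
    exact QuadraticAlgebra.C_injective h1
  have hc2 : c ^ 2 = 1 := by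
    have h1 : plusForm 4 F ((gm a b)^[n] a) = plusForm 4 F a := by
      rw [← tg_pow hβ]
      exact E_le_O (β ^ n).2 a
    rw [key a (Or.inl rfl), QuadraticMap.map_smul, smul_eq_mul] at h1
    have h2 : (c ^ 2 - 1) * plusForm 4 F a = 0 := by linear_combination h1
    exact sub_eq_zero.1 ((mul_eq_zero.1 h2).resolve_right k.ne)
  have hc1 : c = 1 := by
    have : c ^ 3 = c ^ 2 * c := pow_succ c 2
    rw [hz3, hc2, one_mul] at this
    exact this.symm
  obtain ⟨α, β', w', rfl, hwa, hwb⟩ := exists_dec h k v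
  have hadd : ∀ (n : ℕ) (x y : V8 F), (gm a b)^[n] (x + y) = (gm a b)^[n] x + (gm a b)^[n] y := by
    intro n x y
    induction n with
    | zero => rfl
    | succ n ih => rw [Function.iterate_succ_apply', ih, gm_add, Function.iterate_succ_apply',
        Function.iterate_succ_apply']
  have hw : (gm a b)^[n] w' = w' := iter_W ⟨hwa, hwb⟩ n
  rw [hadd, hadd, hsm, hsm, hw, key a (Or.inl rfl), key b (Or.inr rfl), hc1, one_smul, one_smul]

/-- **KL lemma** -/
theorem kill [Finite F] {G Ω : Type*} [Group G] [Finite G] [MulAction G Ω] [Nonempty Ω] {N : Subgroup G}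
    {σ : P8 F →* G} (hG : Good (plusForm 4 F)) (hE : Env G Ω N) (hσ : Rp (plusForm 4 F) N σ) {p : ℕ} [CharP F p]
    {ι : Type*} [Finite ι] {x : ι → G} {r : ι → ℕ} {i₁ : ι}
    (hr : ∀ j, j ≠ i₁ → (r j).Prime) (hx : ∀ j, j ≠ i₁ → x j ^ r j = 1) (hx1 : ∀ j, j ≠ i₁ → x j ≠ 1)
    (hc : ∀ i j, x i * x j = x j * x i) (hcov : Cov Ω x)
    {τ : G8 F} (h : Au τ) (hL : La σ (x i₁) (xt hG τ))
    {M : ι → G8 F} (hM : ∀ j, j ≠ i₁ → Lf (up σ) (x j) (M j))
    (hl : ∀ j, j ≠ i₁ → Cfsg.Agent.H198.TriDia.IsLin (M j))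
    (hd : ∀ j, j ≠ i₁ → ∀ u w, (M j).1 (dia τ u w) = dia τ ((M j).1 u) ((M j).1 w))
    {a b : V8 F} (k : Kp τ a b) (ha : ∀ j, j ≠ i₁ → (M j).1 a = a) (hb : ∀ j, j ≠ i₁ → (M j).1 b = b)
    (hinj : ∀ i j, i ≠ i₁ → j ≠ i₁ → r i = r j → i = j) (h3 : ∀ j, j ≠ i₁ → r j = 3 → p = 3)
    (hex : ∃ j, j ≠ i₁)
    (hRC : RC (P ((plusForm 4 F).comp (Wp a b).subtype))) : False := by
  classical
  obtain ⟨hWG, hWd, hWt⟩ := Wp_facts k hG
  obtain ⟨B, β, H1, hβ, rfl, hH1, hl1, hcm, hBBB⟩ := exists_B h k hG hE hσ hL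
  have hpw := pow_one_iff h k hG hσ hβ
  have hp : p.Prime := CharP.char_is_prime F p
  have hpf : Fact p.Prime := ⟨hp⟩
  set! B := up σ β with hB; rewrite [← hB] at hpw hBBB hcm hl1
  have hB1 : B ≠ 1 := by
    intro h1
    have h2 := (hpw 1).1 (by rw [pow_one]; exact h1) b
    exact gm_b_ne h k h2
  -- `B` commutes with the other members
  have hiso : ∀ j, j ≠ i₁ → IsSS (plusForm 4 F) (RingEquiv.refl F) 1 (M j).1 := fun j hj =>
    isom_of_fix (hl j hj) (ha j hj) k.ne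
  have hBx : ∀ j, j ≠ i₁ → Commute B (x j) := by
    intro j hj
    have h1 : conjE (plusForm 4 F) (M j) β = β := by
      apply Subtype.ext
      rw [coe_conjE]
      apply LinearEquiv.ext
      intro v
      obtain ⟨v, rfl⟩ := (M j).1.surjective v
      rw [conjLin_apply', hβ, hβ, gm_comm (hiso j hj) (ha j hj) (hb j hj)]
    have h2 := hM j hj β
    rw [h1] at h2
    exact (mul_inv_eq_iff_eq_mul.1 h2).symm
  -- a prime divisor of the order
  obtain ⟨r₀, hr₀, hdvd⟩ : ∃ r₀, r₀.Prime ∧ r₀ ∣ orderOf B :=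
    Nat.exists_prime_and_dvd (by rwa [Ne, orderOf_eq_one_iff])
  obtain ⟨m, hm⟩ := hdvd
  have hm1 : B ^ m ≠ 1 := by
    intro h1
    have h2 := orderOf_dvd_of_pow_eq_one h1
    rw [hm] at h2
    have hm0 : 0 < m := by
      rcases Nat.eq_zero_or_pos m with h0 | h0
      · rw [h0, mul_zero] at hm
        exact absurd hm (orderOf_pos B).ne'
      · exact h0
    have h3 := Nat.le_of_dvd hm0 h2
    have := hr₀.two_le
    nlinarith only [hm0, h3, this]
  have hmr : B ^ (m * r₀) = 1 := by rw [mul_comm, ← hm, pow_orderOf_eq_one]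
  have hrp : r₀ ≠ p := by
    rintro rfl
    apply hm1
    rw [hpw]
    exact iter_p h k (p := r₀) ((hpw _).1 hmr)
  -- the new element
  set! B₁ := x i₁ * B * (x i₁)⁻¹ with hB₁; rewrite [← hB₁] at hBBB hcm hl1
  have hBm : B₁ ^ m = x i₁ * B ^ m * (x i₁)⁻¹ := by rw [hB₁, conj_pow]
  have hcomm : Commute B B₁ := hcm
  have hB1x : ∀ j, j ≠ i₁ → Commute B₁ (x j) := by
    intro j hj
    have e1 : Commute (x i₁) (x j) := hc i₁ j
    exact (e1.mul_left (hBx j hj)).mul_left e1.inv_left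
  have hbx : ∀ j, j ≠ i₁ → B ^ m * x j = x j * B ^ m := fun j hj => ((hBx j hj).pow_left m).eq
  obtain ⟨y, L, hy1, hyr, hyx, hyL, hLW, hcov', hsc⟩ : ∃ (y : G) (L : G8 F), y ≠ 1 ∧ y ^ r₀ = 1 ∧
      (∀ j, j ≠ i₁ → Commute y (x j)) ∧ Lf (up σ) y L ∧ (∀ v ∈ Wp a b, L.1 v ∈ Wp a b) ∧
      Cov Ω (Function.update x i₁ y) ∧ (r₀ = 3 ∨ ScalOn L (Wp a b)) := by
    by_cases hr3 : r₀ = 3
    · -- order three
      refine ⟨(B ^ m)⁻¹ * B₁ ^ m, (tg _ (β ^ m))⁻¹ * H1 ^ m, ?_, ?_, ?_, ?_, ?_, ?_, Or.inl hr3⟩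
      · intro h0
        apply hm1
        have h1 : B ^ m = x i₁ * B ^ m * (x i₁)⁻¹ := by
          rw [← hBm]
          exact inv_mul_eq_one.1 h0
        have h2 : La σ (B ^ m) (Psi _ (tg _ (β ^ m))) := by
          simp only [hB, ← map_pow]
          exact La.lf.2 (Lf.tg _)
        have h4 : Psi (plusForm 4 F) (tg _ (β ^ m)) * xt hG τ = xt hG τ * Psi (plusForm 4 F) (tg _ (β ^ m)) := by
          have h5 := h2.mul hL
          have h6 := hL.mul h2
          have h7 : B ^ m * x i₁ = x i₁ * B ^ m := by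
            nth_rw 1 [h1]
            rw [inv_mul_cancel_right]
          ((conv at h5 => enter [@10]; rw [h7]))
          exact La.unique hσ h5 h6
        rw [hpw]
        refine fixed_triv hG h k hβ ((hpw _).1 ?_) h4
        rw [← hr3]
        exact hmr
      · have h1 : Commute ((B ^ m)⁻¹) (B₁ ^ m) := (hcomm.pow_pow m m).inv_left
        rw [h1.mul_pow, inv_pow, ← pow_mul, hmr, inv_one, one_mul, hBm, conj_pow, ← pow_mul, hmr, mul_one, mul_inv_cancel]
      · intro j hj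
        exact ((hBx j hj).pow_left m).inv_left.mul_left ((hB1x j hj).pow_left m)
      · apply Lf.mul
        · apply Lf.inv
          rw [hB, ← map_pow]
          exact Lf.tg _
        · exact hl1.pow m
      · intro v hv
        rw [mulG]
        have h1 := iter_H h k hH1 m v hv
        have h2 : (tg _ (β ^ m))⁻¹.1 ((H1 ^ m).1 v) = (H1 ^ m).1 v := by
          conv_lhs => rw [← iter_W h1 m, ← tg_pow hβ m]
          rw [inv_app]
        rw [h2]
        exact h1
      · exact mv_one hcov hbx hBm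
    · refine ⟨(B ^ m) ^ 3, tg _ (β ^ (m * 3)), ?_, ?_, ?_, ?_, ?_, ?_, Or.inr ?_⟩
      · intro h0
        apply hm1
        have hco : (3 : ℕ).Coprime r₀ := (Nat.coprime_primes Nat.prime_three hr₀).2 (Ne.symm hr3)
        exact coprime_one hco h0 (by rw [← pow_mul, hmr])
      · rw [← pow_mul, mul_comm 3 r₀, pow_mul, ← pow_mul B m r₀, hmr, one_pow]
      · intro j hj
        exact ((hBx j hj).pow_left m).pow_left 3
      · rw [← pow_mul, hB, ← map_pow]
        exact Lf.tg _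
      · intro v hv
        rw [tg_pow hβ, iter_W hv]
        exact hv
      · refine mv_cube hcov hbx (fun j => hc i₁ j) hBm (hcomm.pow_pow m m).eq ?_
        have e1 : x i₁ * B₁ ^ m * (x i₁)⁻¹ = (x i₁ * B₁ * (x i₁)⁻¹) ^ m := conj_pow.symm
        have e2 : x i₁ * B₁ * (x i₁)⁻¹ = (B * B₁)⁻¹ := (inv_eq_of_mul_eq_one_right hBBB).symm
        rw [e1, e2, inv_pow, hcomm.mul_pow, mul_inv_cancel]
      · refine ⟨1, one_ne_zero, fun v hv => ?_⟩
        rw [tg_pow hβ, iter_W hv, one_smul]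
  -- the other members are not scalar on `W`
  have hns : ∀ j, j ≠ i₁ → ¬ ScalOn (M j) (Wp a b) := by
    intro j hj hs
    apply hx1 j hj
    rw [(hM j hj).eq_one_iff hG hE hσ.rep]
    refine ⟨1, one_ne_zero, fun v => ?_⟩
    rw [one_smul]
    exact eq_one_of_scalOn h k hG (fun a v => (hiso j hj).smul a v) (hd j hj) (ha j hj) (hb j hj) hs v
  have hinv : ∀ j, j ≠ i₁ → ∀ v ∈ Wp a b, (M j).1 v ∈ Wp a b := by
    intro j hj v hv
    have hpl : ∀ u w, polar (plusForm 4 F) ((M j).1 u) ((M j).1 w) = polar (plusForm 4 F) u w := by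
      intro u w
      have := (hiso j hj).polar u w
      rwa [one_mul] at this
    refine ⟨?_, ?_⟩
    · have := hpl v a
      rw [ha j hj] at this
      rw [this]; exact hv.1
    · have := hpl v b
      rw [hb j hj] at this
      rw [this]; exact hv.2
  refine H188.RC.box_A (p := p) hG hE hσ.rep (x := Function.update x i₁ y) (M := Function.update M i₁ L)
    (r := Function.update r i₁ r₀) ?_ ?_ ?_ ?_ ?_ hcov' (Wp a b) hWG hWt ?_ ?_ ?_ ?_ (Or.inl hRC)
  · intro i
    by_cases hi : i = i₁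
    · subst hi
      rw [Function.update_self, Function.update_self]
      exact hyL
    · rw [Function.update_of_ne hi, Function.update_of_ne hi]
      exact hM i hi
  · intro i
    by_cases hi : i = i₁
    · subst hi
      rw [Function.update_self]
      exact hr₀
    · rw [Function.update_of_ne hi]
      exact hr i hi
  · intro i
    by_cases hi : i = i₁
    · subst hi
      rw [Function.update_self, Function.update_self]
      exact hyr
    · rw [Function.update_of_ne hi, Function.update_of_ne hi]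
      exact hx i hi
  · intro i
    by_cases hi : i = i₁
    · subst hi
      rw [Function.update_self]
      exact hy1
    · rw [Function.update_of_ne hi]
      exact hx1 i hi
  · intro i j
    by_cases hi : i = i₁
    · subst hi
      by_cases hj : j = i
      · rw [hj]
      · rw [Function.update_self, Function.update_of_ne hj]
        exact (hyx j hj).eq
    · by_cases hj : j = i₁
      · subst hj
        rw [Function.update_self, Function.update_of_ne hi]
        exact (hyx i hi).eq.symm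
      · rw [Function.update_of_ne hi, Function.update_of_ne hj]
        exact hc i j
  · intro i
    by_cases hi : i = i₁
    · subst hi
      rw [Function.update_self]
      exact hLW
    · rw [Function.update_of_ne hi]
      exact hinv i hi
  · obtain ⟨j, hj⟩ := hex
    refine ⟨j, ?_⟩
    rw [Function.update_of_ne hj]
    exact hns j hj
  · intro i hi j hj hij
    have aux : ∀ j, j ≠ i₁ → ¬ ScalOn (Function.update M i₁ L i₁) (Wp a b) → r₀ ≠ r j := by
      intro j hj hn he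
      rw [Function.update_self] at hn
      have h1 : r₀ = 3 := hsc.resolve_right hn
      apply hrp
      rw [h3 j hj (he ▸ h1), h1]
    by_cases hi' : i = i₁
    · by_cases hj' : j = i₁
      · rw [hi', hj']
      · exfalso
        subst hi'
        rw [Function.update_self, Function.update_of_ne hj'] at hij
        exact aux j hj' hi hij
    · by_cases hj' : j = i₁
      · exfalso
        subst hj'
        rw [Function.update_self, Function.update_of_ne hi'] at hij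
        exact aux i hi' hj hij.symm
      · rw [Function.update_of_ne hi', Function.update_of_ne hj'] at hij
        exact hinj i j hi' hj' hij
  · intro i hs
    by_cases hi : i = i₁
    · subst hi
      rw [Function.update_self]
      exact hrp
    · rw [Function.update_of_ne hi] at hs
      exact absurd hs (hns i hi)

end Cfsg.Agent.H566.RC
end

-- part: H566/RC/KillRC
section
/-!
# S3510, triality: the induction hypothesis for the complement of a composition plane (helper566)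

`rc_W` : `IH` implies `RC (P (Q|W))`, `W = ⟨a, b⟩^⊥` (for `q = 2` the plane is anisotropic, so `W` is of minus type).
-/

set_option autoImplicit false
set_option linter.unusedSectionVars false

namespace Cfsg.Agent.H566.RC

open Module QuadraticMap Cfsg.Agent.LieClassical.OrthCore Cfsg.Agent.LieClassical.OrthTrans
  Cfsg.Agent.LieClassical.OrthSimple Cfsg.Agent.ClassicalGeometry.OrthAut1
  Cfsg.Agent.ClassicalGeometry.OrthSemi Cfsg.Agent.H198.Classes
  Cfsg.Agent.LieClassical.QuadForms Cfsg.Agent.H198.ClassesPlus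
  Cfsg.Agent.ClassicalGeometry.TrialityOct Cfsg.Agent.ClassicalGeometry.Triality
  Cfsg.Agent.ClassicalGeometry.TrialitySpaces Cfsg.Agent.H198.TriBase Cfsg.Agent.H198.TriAut
  Cfsg.Agent.H198.TriDia Cfsg.Agent.H198.TriTC Cfsg.Agent.H106.RC Cfsg.Agent.H93.RC

variable {F : Type} [Field F] [Finite F]

theorem eq_one_of_card (h2 : Nat.card F = 2) {x : F} (hx : x ≠ 0) : x = 1 := by
  have := Fintype.ofFinite F
  rw [Nat.card_eq_fintype_card] at h2
  have h1 := FiniteField.pow_card_sub_one_eq_one x hx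
  rwa [h2, pow_one] at h1

/-- for `q = 2` the plane is anisotropic -/
theorem aniso_two (h2 : Nat.card F = 2) {τ : G8 F} {a b : V8 F} (k : Kp τ a b) {α β : F}
    (h0 : plusForm 4 F (α • a + β • b) = 0) : α = 0 ∧ β = 0 := by
  have hch : (2 : F) = 0 := by
    have := Fintype.ofFinite F
    have h3 : (Fintype.card F : F) = 0 := FiniteField.cast_card_eq_zero F
    rw [← Nat.card_eq_fintype_card, h2] at h3
    exact_mod_cast h3
  have ha : plusForm 4 F a = 1 := eq_one_of_card h2 k.ne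
  have hb : plusForm 4 F b = 1 := by rw [k.norm, ha]
  have hc : polar (plusForm 4 F) a b = 1 := by
    apply eq_one_of_card h2
    intro h3
    apply k.disc
    have h4 : (4 : F) = 0 := by linear_combination (2 : F) * hch
    rw [h3, h4]
    ring
  rw [Q_add, QuadraticMap.map_smul, QuadraticMap.map_smul, polar_smul_left, polar_smul_right, ha, hb, hc] at h0
  simp only [smul_eq_mul, mul_one] at h0
  by_cases hα : α = 0
  · rw [hα] at h0
    refine ⟨hα, ?_⟩
    have : β * β = 0 := by linear_combination h0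
    exact mul_self_eq_zero.1 this
  · by_cases hβ : β = 0
    · rw [hβ] at h0
      refine ⟨?_, hβ⟩
      have : α * α = 0 := by linear_combination h0
      exact mul_self_eq_zero.1 this
    · exfalso
      rw [eq_one_of_card h2 hα, eq_one_of_card h2 hβ] at h0
      have : (1 : F) = 0 := by linear_combination h0 - hch
      exact one_ne_zero this

/-- **RC for the complement** -/
theorem rc_W (hG : Good (plusForm 4 F)) {τ : G8 F} (h : Au τ) {a b : V8 F} (k : Kp τ a b)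
    (hIH : IH (Nat.card (P (plusForm 4 F)))) : RC (P ((plusForm 4 F).comp (Wp a b).subtype)) := by
  obtain ⟨hWG, hWd, hWt⟩ := Wp_facts k hG
  have hfin : Finite (P ((plusForm 4 F).comp (Wp a b).subtype)) := Cfsg.Agent.H236.RC.finite_P
  obtain ⟨h1, h2, h3, h4⟩ := Cfsg.Agent.H236.RC.box_id hWG
  refine hIH _ h1 h2 h3 ?_ (Cfsg.Agent.H236.RC.box_card hG _ hWG hWt)
  refine h4.resolve_left ?_
  rintro ⟨hc2, hd6, U, hU, hU3⟩
  have hn : Neutral ((plusForm 4 F).comp (Wp a b).subtype) 3 := ⟨hWG.nondeg, inferInstance, hd6, U, hU3, hU⟩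
  have hUl : Lag ((plusForm 4 F).comp (Wp a b).subtype) 3 U := ⟨hU3, hU⟩
  -- the image in `V`
  have hdim : finrank F (U.map (Wp a b).subtype) = 3 := by
    rw [← hU3]
    exact (Submodule.equivMapOfInjective _ (Submodule.injective_subtype _) U).finrank_eq.symm
  have hts : ∀ w ∈ U.map (Wp a b).subtype, plusForm 4 F w = 0 := by
    rintro _ ⟨u, hu, rfl⟩
    exact hU u hu
  have hnm : ¬ ∀ W' : Submodule F (V8 F), (∀ w ∈ W', plusForm 4 F w = 0) → U.map (Wp a b).subtype ≤ W' →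
      W' = U.map (Wp a b).subtype := by
    intro hmax
    have h5 := lag_of_max (neutral_plus 4 F) hts hmax
    exact absurd (hdim.symm.trans h5.1) (by norm_num)
  push Not at hnm
  obtain ⟨W', hW', hle, hne⟩ := hnm
  apply hne
  refine le_antisymm (fun v hv => ?_) hle
  obtain ⟨α, β, w, rfl, hwa, hwb⟩ := exists_dec h k v
  have hort : ∀ u ∈ U, polar (plusForm 4 F) (u : V8 F) w = 0 := by
    intro u hu
    have e1 : polar (plusForm 4 F) (u : V8 F) (α • a + β • b + w) = 0 := by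
      have hu' : (u : V8 F) ∈ W' := hle ⟨u, hu, rfl⟩
      rw [QuadraticMap.polar, hW' _ (W'.add_mem hu' hv), hW' _ hu', hW' _ hv]
      ring
    have e2 := u.2.1
    have e3 := u.2.2
    rw [polar_add_right, polar_add_right, polar_smul_right, polar_smul_right, e2, e3, smul_zero, smul_zero, zero_add,
      zero_add] at e1
    exact e1
  have hwU : (⟨w, hwa, hwb⟩ : Wp a b) ∈ U := mem_of_orth hn hUl fun u hu => hort u hu
  have hwW : w ∈ U.map (Wp a b).subtype := ⟨_, hwU, rfl⟩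
  have hK : α • a + β • b ∈ W' := by
    have := W'.sub_mem hv (hle hwW)
    rwa [add_sub_cancel_right] at this
  obtain ⟨rfl, rfl⟩ := aniso_two hc2 k (hW' _ hK)
  rw [zero_smul, zero_smul, add_zero, zero_add]
  exact hwW

end Cfsg.Agent.H566.RC
end

private theorem dce_a4c3988232f2 : _root_.True := by
  try have : _root_.True := by simp only [_root_.Cfsg.Agent.H198.TriBase.lG.congr_simp]
  try have : _root_.True := by simp only [_root_.Cfsg.Agent.H198.TriBase.rG.congr_simp]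
  exact _root_.True.intro
end

-- part: H566/RC/TypeI
section
prune_inst 0x2004000000000000000000001c468200009000080000000000400480400000000020a00000000000800400300000000000000000000000000000011800800000020000000000000000000000000000000000000000000000000000000000000000000
set_option linter.all false
open scoped Cfsg.Agent.FastGrp

-- part: H103/RC/FixFam
section
/-!
# Fixed octonions of a commuting family of semisimple linear octonion automorphisms (helper103, S3510 triality, box iA)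

* `fix_pair_family` : `fix_pair` for a commuting family of elements of different prime orders `≠ p`.
-/

set_option autoImplicit false

namespace Cfsg.Agent.H103.RC

open Module QuadraticMap Cfsg.Agent.LieClassical.OrthCore Cfsg.Agent.LieClassical.OrthTrans
  Cfsg.Agent.LieClassical.OrthSimple Cfsg.Agent.ClassicalGeometry.OrthAut1
  Cfsg.Agent.ClassicalGeometry.OrthSemi Cfsg.Agent.H198.Classes
  Cfsg.Agent.LieClassical.QuadForms Cfsg.Agent.H198.ClassesPlus
  Cfsg.Agent.ClassicalGeometry.TrialityOct Cfsg.Agent.ClassicalGeometry.Triality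
  Cfsg.Agent.ClassicalGeometry.TrialitySpaces Cfsg.Agent.H198.TriBase Cfsg.Agent.H198.TriAut
  Cfsg.Agent.H206.Balance Cfsg.Agent.H198.BalVar Cfsg.Agent.H198.TriDia Cfsg.Agent.H198.TriSpec
  Cfsg.Agent.H161.TriLin

universe u

/-- commuting elements of distinct prime orders lie in one cyclic group, of order dividing the product -/
theorem exists_gen' {G ι : Type*} [Group G] [Finite ι] (x : ι → G) (r : ι → ℕ)
    (hr : ∀ i, (r i).Prime) (hinj : Function.Injective r) (hx : ∀ i, x i ^ r i = 1)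
    (hc : ∀ i j, x i * x j = x j * x i) (P : ℕ → Prop) (hP1 : P 1) (hPm : ∀ i n, P n → P (n * r i)) :
    ∃ g ∈ Subgroup.closure (Set.range x), (∀ i, x i ∈ Subgroup.zpowers g) ∧ ∃ m, P m ∧ g ^ m = 1 := by
  classical
  cases nonempty_fintype ι
  have key : ∀ s : Finset ι, ∃ g ∈ Subgroup.closure (Set.range x), (∀ i ∈ s, x i ∈ Subgroup.zpowers g) ∧
      (orderOf g ∣ ∏ i ∈ s, r i) ∧ (∀ j, Commute g (x j)) ∧ P (∏ i ∈ s, r i) := by
    intro s
    induction s using Finset.induction_on with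
    | empty => exact ⟨1, Subgroup.one_mem _, by simp, by simp, fun j => Commute.one_left _, by simpa using hP1⟩
    | insert a s ha ih =>
      obtain ⟨g, hgc, hg1, hg2, hg3, hg4⟩ := ih
      have hcop : Nat.Coprime (orderOf g) (orderOf (x a)) := by
        have h1 : orderOf (x a) ∣ r a := orderOf_dvd_of_pow_eq_one (hx a)
        refine Nat.Coprime.coprime_dvd_left hg2 (Nat.Coprime.coprime_dvd_right h1 ?_)
        refine Nat.Coprime.prod_left fun i hi => ?_
        rw [Nat.coprime_primes (hr i) (hr a)]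
        intro h
        exact ha (hinj h ▸ hi)
      have hcomm : Commute g (x a) := hg3 a
      have hmem : g ∈ Subgroup.zpowers (g * x a) ∧ x a ∈ Subgroup.zpowers (g * x a) := by
        obtain ⟨k, hk⟩ := Nat.chineseRemainder hcop 1 0
        obtain ⟨l, hl⟩ := Nat.chineseRemainder hcop 0 1
        constructor
        · refine Subgroup.mem_zpowers_iff.2 ⟨(k : ℤ), ?_⟩
          rw [zpow_natCast, hcomm.mul_pow]
          have h1 : g ^ k = g := by
            conv_rhs => rw [← pow_one g]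
            exact pow_eq_pow_iff_modEq.2 hk.1
          have h2 : x a ^ k = 1 := by
            rw [← pow_zero (x a)]
            exact pow_eq_pow_iff_modEq.2 hk.2
          rw [h1, h2, mul_one]
        · refine Subgroup.mem_zpowers_iff.2 ⟨(l : ℤ), ?_⟩
          rw [zpow_natCast, hcomm.mul_pow]
          have h1 : g ^ l = 1 := by
            rw [← pow_zero g]
            exact pow_eq_pow_iff_modEq.2 hl.1
          have h2 : x a ^ l = x a := by
            conv_rhs => rw [← pow_one (x a)]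
            exact pow_eq_pow_iff_modEq.2 hl.2
          rw [h1, h2, one_mul]
      refine ⟨g * x a, Subgroup.mul_mem _ hgc (Subgroup.subset_closure ⟨a, rfl⟩), ?_, ?_, ?_, ?_⟩
      · intro i hi
        rcases Finset.mem_insert.1 hi with rfl | hi
        · exact hmem.2
        · exact (Subgroup.zpowers_le.2 hmem.1) (hg1 i hi)
      · rw [Finset.prod_insert ha, hcomm.orderOf_mul_eq_mul_orderOf_of_coprime hcop, mul_comm]
        exact Nat.mul_dvd_mul (orderOf_dvd_of_pow_eq_one (hx a)) hg2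
      · intro j
        exact Commute.mul_left (hg3 j) (hc a j)
      · rw [Finset.prod_insert ha, mul_comm]
        exact hPm a _ hg4
  obtain ⟨g, h1, h2, h3, -, h5⟩ := key Finset.univ
  exact ⟨g, h1, fun i => h2 i (Finset.mem_univ i), _, h5, orderOf_dvd_iff_pow_eq_one.1 h3⟩

variable {F : Type u} [Field F]

local notation "B" => polar (plusForm 4 F)

/-- the linear octonion automorphisms -/
def AutL (F : Type u) [Field F] : Subgroup (G8 F) where
  carrier := {M | TriS M M M ∧ IsLin M}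
  one_mem' := ⟨TriS.one, ⟨1, ⟨one_ne_zero, fun _ _ => rfl, fun _ _ => rfl, fun v => by rw [one_mul]; rfl⟩⟩⟩
  mul_mem' := by
    rintro M N ⟨h1, c, h2⟩ ⟨k1, d, k2⟩
    exact ⟨h1.mul k1, _, h2.mul k2⟩
  inv_mem' := by
    rintro M ⟨h1, c, h2⟩
    exact ⟨h1.inv, _, h2.inv⟩

/-- the stabilizer of a vector -/
def St (v : V8 F) : Subgroup (G8 F) where
  carrier := {M | M.1 v = v}
  one_mem' := rfl
  mul_mem' := by
    intro M N h k
    show M.1 (N.1 v) = v
    rw [show N.1 v = v from k]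
    exact h
  inv_mem' := by
    intro M h
    show M.1.symm v = v
    rw [Equiv.symm_apply_eq]
    exact (show M.1 v = v from h).symm

/-- **Box iA** for a family -/
theorem fix_pair_family [Finite F] (hG : _root_.Cfsg.Agent.LieClassical.OrthTrans.Good (plusForm 4 F)) {ι : Type*} [Finite ι] (M : ι → G8 F) (r : ι → ℕ)
    (hM : ∀ j, TriS (M j) (M j) (M j)) (hl : ∀ j, IsLin (M j)) (hr : ∀ j, (r j).Prime) (hinj : Function.Injective r)
    (hp : ∀ j, (r j : F) ≠ 0) (hpow : ∀ j, M j ^ r j = 1) (hc : ∀ i j, M i * M j = M j * M i) :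
    (∃ b : V8 F, (∀ j, (M j).1 b = b) ∧ plusForm 4 F b = 1 ∧ B b (one8 F) ^ 2 ≠ 4) ∨
    (Nat.card F ≤ 3 ∧ ∃ e : V8 F, (∀ j, (M j).1 e = e) ∧ omul e e = e ∧ plusForm 4 F e = 0 ∧ B e (one8 F) = 1 ∧
      ∀ v : V8 F, (∀ j, (M j).1 v = v) → ∃ a c : F, v = a • one8 F + c • e) := by
  obtain ⟨s, hs, hz, m, hm, hsm⟩ := exists_gen' M r hr hinj hpow hc (fun n => (n : F) ≠ 0) (by simp only [_root_.Nat.cast_one, _root_.ne_eq, _root_.one_ne_zero, _root_.not_false_eq_true])
    (fun i n h => by push_cast; exact mul_ne_zero h (hp i))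
  have h1 : s ∈ AutL F := by
    refine (Subgroup.closure_le _).2 ?_ hs
    rintro _ ⟨j, rfl⟩
    exact ⟨hM j, hl j⟩
  have h2 : ∀ v : V8 F, s.1 v = v ↔ ∀ j, (M j).1 v = v := by
    intro v
    constructor
    · intro hv j
      exact (Subgroup.zpowers_le.2 (show s ∈ St v from hv)) (hz j)
    · intro hv
      have h3 : Subgroup.closure (Set.range M) ≤ St v := by
        rw [Subgroup.closure_le]
        rintro _ ⟨j, rfl⟩
        exact hv j
      exact h3 hs
  rcases fix_pair hG h1.1 h1.2 hm hsm with ⟨b, hb, hb1, hb2⟩ | ⟨hq, e, he, hee, heq, het, hall⟩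
  · exact Or.inl ⟨b, (h2 b).1 hb, hb1, hb2⟩
  · exact Or.inr ⟨hq, e, (h2 e).1 he, hee, heq, het, fun v hv => hall v ((h2 v).2 hv)⟩

end Cfsg.Agent.H103.RC
end

-- part: H103/RC/KillI
section
/-!
# S3510, triality, type (i): `{long root element} ∪ {x₁}` is never a cover (helper103, box iK)

`x₁` induces the triality automorphism `ρ`, `Sp u w` a special pair, `u`, `w` independent.

* `exists_std` : a vector `n ≠ 0` with `n² = 0` is moved by a linear octonion automorphism to `(0, a, b, c; 0, 0, 0, 0)`;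
* `exists_s` : for such `n` there is `s ∈ E Q`, commuting with all `sg (n, w)`, with `Ψ(s) (ρ Ψ(s) ρ⁻¹)⁻¹ = Ψ(bG (1 - n))`;
* `comm_bG_rG` : `[bG (1 - u), rG (1 + w)] = (sg (u, w))⁻¹`;
* `sg_mem_cmm` : `σ (sg h) ∈ [U, x₁]`, `U` the centraliser of `σ (sg h)`;
* `kill_i` : no cover.
-/

set_option autoImplicit false

namespace Cfsg.Agent.H103.RC

open Module QuadraticMap Cfsg.Agent.LieClassical.OrthCore Cfsg.Agent.LieClassical.OrthTrans
  Cfsg.Agent.LieClassical.OrthSimple Cfsg.Agent.ClassicalGeometry.OrthAut1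
  Cfsg.Agent.ClassicalGeometry.OrthSemi Cfsg.Agent.H198.Classes
  Cfsg.Agent.LieClassical.QuadForms Cfsg.Agent.H198.ClassesPlus
  Cfsg.Agent.ClassicalGeometry.TrialityOct Cfsg.Agent.ClassicalGeometry.Triality
  Cfsg.Agent.ClassicalGeometry.TrialitySpaces Cfsg.Agent.H198.TriBase Cfsg.Agent.H198.TriAut
  Cfsg.Agent.H206.Balance Cfsg.Agent.H198.BalVar Cfsg.Agent.H198.TriDia Cfsg.Agent.H198.TriSpec
  Cfsg.Agent.H161.TriLin Cfsg.Agent.H566.RC Cfsg.Agent.H106.RC Cfsg.Agent.H93.RC Cfsg.Agent.H380.RC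
  MulAction

universe u

section oct

variable {F : Type u} [Field F]

local notation "B" => polar (plusForm 4 F)

theorem pl_omul (x y : V8 F) : B (omul x (oconj y)) (one8 F) = B x y := by
  rw [polar8, polar8]
  simp only [omul_l0, omul_l1, omul_l2, omul_l3, omul_r0, omul_r1, omul_r2, omul_r3,
    oconj_l0, oconj_l1, oconj_l2, oconj_l3, oconj_r0, oconj_r1, oconj_r2, oconj_r3, one8, Sum.elim_inl, Sum.elim_inr,
      Matrix.cons_val_zero, Matrix.cons_val_one, Matrix.cons_val]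
  ring

theorem pl_adj (z x w : V8 F) : B z (omul x w) = B (omul z (oconj w)) x := by
  rw [polar8, polar8]
  simp only [omul_l0, omul_l1, omul_l2, omul_l3, omul_r0, omul_r1, omul_r2, omul_r3,
    oconj_l0, oconj_l1, oconj_l2, oconj_l3, oconj_r0, oconj_r1, oconj_r2, oconj_r3]
  ring

theorem pl_sq (w x : V8 F) : B w (omul x w) = plusForm 4 F w * B x (one8 F) := by
  rw [polar8, polar8, norm8]
  simp only [omul_l0, omul_l1, omul_l2, omul_l3, omul_r0, omul_r1, omul_r2, omul_r3,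
    oconj_l0, oconj_l1, oconj_l2, oconj_l3, oconj_r0, oconj_r1, oconj_r2, oconj_r3, one8, Sum.elim_inl, Sum.elim_inr,
      Matrix.cons_val_zero, Matrix.cons_val_one, Matrix.cons_val]
  ring

theorem pl_tr {n : V8 F} (hn : omul n n = 0) : B n (one8 F) = 0 := by
  have := tr_of_sq hn
  rw [polar8]
  simp only [one8, Sum.elim_inl, Sum.elim_inr, Matrix.cons_val_zero, Matrix.cons_val_one, Matrix.cons_val]
  linear_combination this

theorem oconj_of_sq {n : V8 F} (hn : omul n n = 0) : oconj n = -n := by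
  rw [oconj_eq, pl_tr hn, zero_smul, zero_sub]

/-- the standard idempotent -/
def e0 (F : Type u) [Field F] : V8 F := Sum.elim ![1, 0, 0, 0] ![0, 0, 0, 0]

/-- the standard vectors of square zero -/
def n0 (a b c : F) : V8 F := Sum.elim ![0, a, b, c] ![0, 0, 0, 0]

/-- a vector of square zero is moved into standard position -/
theorem exists_std {n : V8 F} (hn0 : n ≠ 0) (hn : omul n n = 0) :
    ∃ (τ : G8 F) (a b c : F), TriS τ τ τ ∧ H198.TriDia.IsLin τ ∧ τ.1 n = n0 a b c := by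
  have hq := norm_of_sq hn
  obtain ⟨x, hx⟩ : ∃ x, B n x = 1 := by
    obtain ⟨y, hy⟩ : ∃ y, B n y ≠ 0 := by
      by_contra hcon
      push Not at hcon
      exact hn0 (polar_plusForm_nondeg 4 n hcon)
    exact ⟨(B n y)⁻¹ • y, by rw [pl_smul, inv_mul_cancel₀ hy]⟩
  set e := omul n (oconj x) with he
  have h1 : B e (one8 F) = 1 := by rw [he, pl_omul, hx]
  have h2 : plusForm 4 F e = 0 := by rw [he, norm_omul, hq, zero_mul]
  have h3 : omul e n = n := by rw [he, omul_oconj_omul_self, hx, hq, one_smul, zero_smul, sub_zero]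
  have h4 : omul n e = 0 := by
    have e1 := oconj_omul_omul n (oconj x)
    rw [oconj_of_sq hn, hq, zero_smul] at e1
    have e2 : omul (-n) (omul n (oconj x)) = -omul n (omul n (oconj x)) := by
      have := smul_omul (-1 : F) n (omul n (oconj x))
      rwa [neg_one_smul, neg_one_smul] at this
    rw [e2] at e1
    rw [he]
    exact neg_eq_zero.1 e1
  have h1' : H161.Oct.tr (phi F e) = 1 := by
    have e1 : H161.Oct.tr (phi F e) = e (.inl 0) + e (.inr 0) := rfl
    rw [e1]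
    rw [polar8] at h1
    simp only [one8, Sum.elim_inl, Sum.elim_inr, Matrix.cons_val_zero, Matrix.cons_val_one, Matrix.cons_val] at h1
    linear_combination h1
  obtain ⟨h, hh, hhe⟩ := H161.Oct.exists_idem (K := F) (e := phi F e) h1' (by rw [nm_phi, h2])
  have he' : (mkG hh).1 e = e0 F := by
    show (phi F).symm (h (phi F e)) = e0 F
    rw [hhe, LinearEquiv.symm_apply_eq]
    apply H161.Oct.ext8 <;> simp [phi_apply, e0, H161.Oct.e1]
  have k3 : omul (e0 F) ((mkG hh).1 n) = (mkG hh).1 n := by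
    conv_rhs => rw [← h3, tri_mkG hh, he']
  have k4 : omul ((mkG hh).1 n) (e0 F) = 0 := by
    rw [← he', ← tri_mkG hh, h4]
    exact (isSS_mkP hh).map_zero
  set m := (mkG hh).1 n with hm
  refine ⟨mkG hh, m (.inl 1), m (.inl 2), m (.inl 3), tri_mkG hh, ⟨1, isSS_mkP hh⟩, ?_⟩
  have c0 := congrFun k4 (.inl 0)
  have c1 := congrFun k3 (.inr 0)
  have c2 := congrFun k3 (.inr 1)
  have c3 := congrFun k3 (.inr 2)
  have c4 := congrFun k3 (.inr 3)
  simp only [omul_l0, omul_l1, omul_l2, omul_l3, omul_r0, omul_r1, omul_r2, omul_r3, e0, Sum.elim_inl, Sum.elim_inr,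
      Matrix.cons_val_zero, Matrix.cons_val_one, Matrix.cons_val, Pi.zero_apply] at c0 c1 c2 c3 c4
  apply ext8
  · show m (.inl 0) = 0
    linear_combination c0
  · rfl
  · rfl
  · rfl
  · show m (.inr 0) = 0
    linear_combination -c1
  · show m (.inr 1) = 0
    linear_combination -c2
  · show m (.inr 2) = 0
    linear_combination -c3
  · show m (.inr 3) = 0
    linear_combination -c4

theorem n0_q (a b c : F) : plusForm 4 F (n0 a b c) = 0 := by
  rw [norm8]
  simp [n0]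

theorem n0_e0 (a b c : F) : B (n0 a b c) (e0 F) = 0 := by
  rw [polar8]
  simp [n0, e0]

/-- the Siegel element of `n0`, `e0` -/
noncomputable def s0 (a b c : F) : ↥(E (plusForm 4 F)) :=
  ⟨siegel (plusForm 4 F) (n0 a b c) (e0 F) (n0_q a b c) (n0_e0 a b c), siegel_mem_E _ _⟩

theorem s0_apply (a b c : F) (x : V8 F) : (s0 a b c : V8 F ≃ₗ[F] V8 F) x =
    x + B (n0 a b c) x • e0 F - B (e0 F) x • n0 a b c := by
  change siegel (plusForm 4 F) (n0 a b c) (e0 F) (n0_q a b c) (n0_e0 a b c) x = _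
  rw [siegel_apply]
  have : plusForm 4 F (e0 F) = 0 := by rw [norm8]; simp [e0]
  rw [this, zero_mul, zero_smul, sub_zero]

/-- the third component -/
def g0P (a b c : F) : Equiv.Perm (V8 F) where
  toFun x := x - omul (omul x (n0 a b c)) (e0 F)
  invFun x := x + omul (omul x (n0 a b c)) (e0 F)
  left_inv x := by
    (refine And.elim (fun cj1 => And.elim fun cj2 => And.elim fun cj3 => And.elim fun cj4 => And.elim fun cj5 => And.elim fun cj6 => And.elim fun cj7 cj8 => by apply ext8; exacts [cj1, cj2, cj3, cj4, cj5, cj6, cj7, cj8]) ?_; simp only [omul_l0, omul_l1, omul_l2, omul_l3, omul_r0, omul_r1, omul_r2, omul_r3, n0, e0, _root_.Cfsg.Agent.H103.RC.n0, _root_.Cfsg.Agent.H103.RC.e0, _root_.Fin.isValue, _root_.Pi.add_apply, _root_.Pi.sub_apply, _root_.Cfsg.Agent.ClassicalGeometry.TrialityOct.omul_l0, _root_.Sum.elim_inl, _root_.Matrix.cons_val_zero, _root_.MulZeroClass.mul_zero, _root_.Sum.elim_inr, _root_.Matrix.cons_val_one, _root_.Matrix.cons_val,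 _root_.add_zero, _root_.sub_self, _root_.mul_one, _root_.Cfsg.Agent.ClassicalGeometry.TrialityOct.omul_l1, _root_.MulZeroClass.zero_mul, _root_.sub_zero, _root_.Cfsg.Agent.ClassicalGeometry.TrialityOct.omul_l2, _root_.Cfsg.Agent.ClassicalGeometry.TrialityOct.omul_l3, _root_.Cfsg.Agent.ClassicalGeometry.TrialityOct.omul_r2, _root_.zero_sub, _root_.neg_sub, _root_.Cfsg.Agent.ClassicalGeometry.TrialityOct.omul_r3, _root_.Cfsg.Agent.ClassicalGeometry.TrialityOct.omul_r1, _root_.one_mul, _root_.Cfsg.Agent.ClassicalGeometry.TrialityOct.omul_r0, _root_.neg_add_rev, _root_.sub_add_cancel, and_self, and_true, true_and] <;> and_intros <;> ring)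
  right_inv x := by
    (refine And.elim (fun cj1 => And.elim fun cj2 => And.elim fun cj3 => And.elim fun cj4 => And.elim fun cj5 => And.elim fun cj6 => And.elim fun cj7 cj8 => by apply ext8; exacts [cj1, cj2, cj3, cj4, cj5, cj6, cj7, cj8]) ?_; simp only [omul_l0, omul_l1, omul_l2, omul_l3, omul_r0, omul_r1, omul_r2, omul_r3, n0, e0, _root_.Cfsg.Agent.H103.RC.n0, _root_.Cfsg.Agent.H103.RC.e0, _root_.Fin.isValue, _root_.Pi.sub_apply, _root_.Pi.add_apply, _root_.Cfsg.Agent.ClassicalGeometry.TrialityOct.omul_l0, _root_.Sum.elim_inl, _root_.Matrix.cons_val_zero, _root_.MulZeroClass.mul_zero, _root_.Sum.elim_inr, _root_.Matrix.cons_val_one, _root_.Matrix.cons_val, _root_.add_zero, _root_.sub_self, _root_.mul_one, _root_.Cfsg.Agent.ClassicalGeometry.TrialityOct.omul_l1, _root_.MulZeroClass.zero_mul, _root_.sub_zero, _root_.Cfsg.Agent.ClassicalGeometry.TrialityOct.omul_l2, _root_.Cfsg.Agent.ClassicalGeometry.TrialityOct.omul_l3, _root_.Cfsg.Agent.ClassicalGeometry.TrialityOct.omul_r2,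 _root_.zero_sub, _root_.neg_sub, _root_.Cfsg.Agent.ClassicalGeometry.TrialityOct.omul_r3, _root_.Cfsg.Agent.ClassicalGeometry.TrialityOct.omul_r1, _root_.one_mul, _root_.Cfsg.Agent.ClassicalGeometry.TrialityOct.omul_r0, _root_.neg_add_rev, _root_.add_sub_cancel_right, and_self, and_true, true_and] <;> and_intros <;> ring)

theorem isSS_g0P (a b c : F) : IsSS (plusForm 4 F) (RingEquiv.refl F) 1 (g0P a b c) := by
  refine ⟨one_ne_zero, fun x y => ?_, fun t x => ?_, fun x => ?_⟩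
  · (refine And.elim (fun cj1 => And.elim fun cj2 => And.elim fun cj3 => And.elim fun cj4 => And.elim fun cj5 => And.elim fun cj6 => And.elim fun cj7 cj8 => by apply ext8; exacts [cj1, cj2, cj3, cj4, cj5, cj6, cj7, cj8]) ?_; simp only [g0P, omul_l0, omul_l1, omul_l2, omul_l3, omul_r0, omul_r1, omul_r2, omul_r3, n0, e0, _root_.Cfsg.Agent.H103.RC.g0P, _root_.Cfsg.Agent.H103.RC.n0, _root_.Cfsg.Agent.H103.RC.e0, _root_.Fin.isValue, _root_.Equiv.coe_fn_mk, _root_.Pi.sub_apply, _root_.Pi.add_apply, _root_.Cfsg.Agent.ClassicalGeometry.TrialityOct.omul_l0, _root_.Sum.elim_inl, _root_.Matrix.cons_val_zero, _root_.MulZeroClass.mul_zero, _root_.Sum.elim_inr, _root_.Matrix.cons_val_one, _root_.Matrix.cons_val, _root_.add_zero, _root_.sub_self, _root_.mul_one, _root_.Cfsg.Agent.ClassicalGeometry.TrialityOct.omul_l1, _root_.MulZeroClass.zero_mul, _root_.sub_zero, _root_.Cfsg.Agent.ClassicalGeometry.TrialityOct.omul_l2, _root_.Cfsg.Agent.ClassicalGeometry.TrialityOct.omul_l3,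 _root_.Cfsg.Agent.ClassicalGeometry.TrialityOct.omul_r2, _root_.zero_sub, _root_.neg_sub, _root_.Cfsg.Agent.ClassicalGeometry.TrialityOct.omul_r3, _root_.Cfsg.Agent.ClassicalGeometry.TrialityOct.omul_r1, _root_.Cfsg.Agent.ClassicalGeometry.TrialityOct.omul_r0, _root_.neg_add_rev, _root_.one_mul, and_self, and_true, true_and] <;> and_intros <;> ring)
  · (refine And.elim (fun cj1 => And.elim fun cj2 => And.elim fun cj3 => And.elim fun cj4 => And.elim fun cj5 => And.elim fun cj6 => And.elim fun cj7 cj8 => by apply ext8; exacts [cj1, cj2, cj3, cj4, cj5, cj6, cj7, cj8]) ?_; simp only [g0P, omul_l0, omul_l1, omul_l2, omul_l3, omul_r0, omul_r1, omul_r2, omul_r3, n0, e0, _root_.Cfsg.Agent.H103.RC.g0P, _root_.Cfsg.Agent.H103.RC.n0, _root_.Cfsg.Agent.H103.RC.e0, _root_.Fin.isValue, _root_.Equiv.coe_fn_mk, _root_.Pi.sub_apply, _root_.Pi.smul_apply, _root_.smul_eq_mul, _root_.Cfsg.Agent.ClassicalGeometry.TrialityOct.omul_l0, _root_.Sum.elim_inl,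 _root_.Matrix.cons_val_zero, _root_.MulZeroClass.mul_zero, _root_.Sum.elim_inr, _root_.Matrix.cons_val_one, _root_.Matrix.cons_val, _root_.add_zero, _root_.sub_self, _root_.mul_one, _root_.Cfsg.Agent.ClassicalGeometry.TrialityOct.omul_l1, _root_.MulZeroClass.zero_mul, _root_.sub_zero, _root_.Cfsg.Agent.ClassicalGeometry.TrialityOct.omul_l2, _root_.Cfsg.Agent.ClassicalGeometry.TrialityOct.omul_l3, _root_.RingEquiv.refl_apply, _root_.Cfsg.Agent.ClassicalGeometry.TrialityOct.omul_r2, _root_.zero_sub, _root_.neg_sub, _root_.Cfsg.Agent.ClassicalGeometry.TrialityOct.omul_r3, _root_.Cfsg.Agent.ClassicalGeometry.TrialityOct.omul_r1, _root_.Cfsg.Agent.ClassicalGeometry.TrialityOct.omul_r0, _root_.neg_add_rev, _root_.one_mul, and_self, and_true, true_and] <;> and_intros <;> ring)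
  · rw [norm8, norm8]
    simp only [g0P, omul_l0, omul_l1, omul_l2, omul_l3, omul_r0, omul_r1, omul_r2, omul_r3, n0, e0, _root_.Cfsg.Agent.H103.RC.g0P, _root_.Cfsg.Agent.H103.RC.n0, _root_.Cfsg.Agent.H103.RC.e0, _root_.Fin.isValue, _root_.Equiv.coe_fn_mk, _root_.Pi.sub_apply, _root_.Cfsg.Agent.ClassicalGeometry.TrialityOct.omul_l0, _root_.Sum.elim_inl, _root_.Matrix.cons_val_zero, _root_.MulZeroClass.mul_zero, _root_.Sum.elim_inr, _root_.Matrix.cons_val_one, _root_.Matrix.cons_val, _root_.add_zero, _root_.sub_self, _root_.mul_one, _root_.Cfsg.Agent.ClassicalGeometry.TrialityOct.omul_l1, _root_.MulZeroClass.zero_mul, _root_.sub_zero, _root_.Cfsg.Agent.ClassicalGeometry.TrialityOct.omul_l2, _root_.Cfsg.Agent.ClassicalGeometry.TrialityOct.omul_l3, _root_.Cfsg.Agent.ClassicalGeometry.TrialityOct.omul_r0, _root_.zero_sub, _root_.neg_add_rev, _root_.Cfsg.Agent.ClassicalGeometry.TrialityOct.omul_r1, _root_.neg_sub, _root_.Cfsg.Agent.ClassicalGeometry.TrialityOct.omul_r2,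 _root_.Cfsg.Agent.ClassicalGeometry.TrialityOct.omul_r3, _root_.one_mul, _root_.RingEquiv.refl_apply]
    ring

/-- the third component as a similarity -/
def g0 (a b c : F) : G8 F := ⟨g0P a b c, _, _, isSS_g0P a b c⟩

theorem tri_s0 (a b c : F) : TriS (tg (plusForm 4 F) (s0 a b c)) (tg (plusForm 4 F) (s0 a b c)) (g0 a b c) := by
  intro x y
  rw [tg_apply, tg_apply, s0_apply, s0_apply]
  show _ = omul _ (y - omul (omul y (n0 a b c)) (e0 F))
  rw [polar8, polar8, polar8, polar8]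
  (refine And.elim (fun cj1 => And.elim fun cj2 => And.elim fun cj3 => And.elim fun cj4 => And.elim fun cj5 => And.elim fun cj6 => And.elim fun cj7 cj8 => by apply ext8; exacts [cj1, cj2, cj3, cj4, cj5, cj6, cj7, cj8]) ?_; simp only [omul_l0, omul_l1, omul_l2, omul_l3, omul_r0, omul_r1, omul_r2, omul_r3, n0, e0, _root_.Cfsg.Agent.H103.RC.n0, _root_.Fin.isValue, _root_.Sum.elim_inl, _root_.Matrix.cons_val_zero, _root_.Cfsg.Agent.ClassicalGeometry.TrialityOct.omul_r0, _root_.MulZeroClass.zero_mul, _root_.Cfsg.Agent.ClassicalGeometry.TrialityOct.omul_l0, _root_.Sum.elim_inr, _root_.MulZeroClass.mul_zero, _root_.add_zero, _root_.Matrix.cons_val_one, _root_.Cfsg.Agent.ClassicalGeometry.TrialityOct.omul_r1, _root_.Cfsg.Agent.ClassicalGeometry.TrialityOct.omul_l1, _root_.zero_add, _root_.Matrix.cons_val, _root_.Cfsg.Agent.ClassicalGeometry.TrialityOct.omul_r2, _root_.Cfsg.Agent.ClassicalGeometry.TrialityOct.omul_l2, _root_.Cfsg.Agent.ClassicalGeometry.TrialityOct.omul_r3,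 _root_.Cfsg.Agent.ClassicalGeometry.TrialityOct.omul_l3, _root_.Cfsg.Agent.H103.RC.e0, _root_.one_mul, _root_.Pi.sub_apply, _root_.Pi.add_apply, _root_.Pi.smul_apply, _root_.smul_eq_mul, _root_.mul_one, _root_.sub_zero, _root_.sub_self, _root_.zero_sub, _root_.neg_sub, _root_.neg_add_rev, and_self, and_true, true_and] <;> and_intros <;> ring)

theorem one_sub_q {n : V8 F} (hn : omul n n = 0) : plusForm 4 F (one8 F - n) = 1 := by
  have h := q_add (one8 F) (-n)
  rw [← sub_eq_add_neg] at h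
  have h1 : plusForm 4 F (-n) = plusForm 4 F n := QuadraticMap.map_neg _ n
  have h2 : B (one8 F) (-n) = 0 := by
    have := pl_smul (-1 : F) (one8 F) n
    rw [neg_one_smul] at this
    rw [this, pl_comm, pl_tr hn, mul_zero]
  rw [h, norm_one8, h1, norm_of_sq hn, h2]; ring

theorem one_add_q {n : V8 F} (hn : omul n n = 0) : plusForm 4 F (one8 F + n) = 1 := by
  rw [q_add, norm_one8, norm_of_sq hn, pl_comm, pl_tr hn]; ring

theorem ne_zero_of_eq_one {a : F} (h : a = 1) : a ≠ 0 := by rw [h]; exact one_ne_zero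

theorem n0_sq (a b c : F) : omul (n0 a b c) (n0 a b c) = 0 := by
  apply ext8 <;>
  simp [omul_l0, omul_l1, omul_l2, omul_l3, omul_r0, omul_r1, omul_r2, omul_r3, n0] <;> ring

/-- the basic identity in standard position -/
theorem s0_eq (a b c : F) : tg (plusForm 4 F) (s0 a b c) =
    bG (one8 F - n0 a b c) (ne_zero_of_eq_one (one_sub_q (n0_sq a b c))) *
      (kapG F * tg (plusForm 4 F) (s0 a b c) * kapG F) := by
  apply Subtype.ext
  apply Equiv.ext
  intro x
  simp only [Subgroup.coe_mul, Equiv.Perm.mul_apply, H198.TriBase.bG_apply, H198.TriBase.lG_apply, H198.TriBase.rG_apply,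
    H198.TriBase.kapG_apply, H93.RC.tg_apply]
  rw [s0_apply, s0_apply, polar8, polar8, polar8, polar8]
  (refine And.elim (fun cj1 => And.elim fun cj2 => And.elim fun cj3 => And.elim fun cj4 => And.elim fun cj5 => And.elim fun cj6 => And.elim fun cj7 cj8 => by apply ext8; exacts [cj1, cj2, cj3, cj4, cj5, cj6, cj7, cj8]) ?_; simp only [omul_l0, omul_l1, omul_l2, omul_l3, omul_r0, omul_r1, omul_r2, omul_r3, n0, e0, one8, oconj_l0, oconj_l1, oconj_l2, oconj_l3, oconj_r0, oconj_r1, oconj_r2, oconj_r3, _root_.Cfsg.Agent.H103.RC.n0, _root_.Fin.isValue, _root_.Sum.elim_inl, _root_.Matrix.cons_val_zero, _root_.MulZeroClass.zero_mul, _root_.Sum.elim_inr, _root_.MulZeroClass.mul_zero, _root_.add_zero, _root_.Matrix.cons_val_one, _root_.zero_add, _root_.Matrix.cons_val, _root_.Cfsg.Agent.H103.RC.e0, _root_.one_mul, _root_.Pi.sub_apply, _root_.Pi.add_apply, _root_.Pi.smul_apply, _root_.smul_eq_mul, _root_.mul_one, _root_.sub_zero, _root_.Cfsg.Agent.ClassicalGeometry.TrialityOct.one8,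 _root_.Cfsg.Agent.ClassicalGeometry.TrialityOct.oconj_r0, _root_.Cfsg.Agent.ClassicalGeometry.TrialityOct.oconj_l0, _root_.Cfsg.Agent.ClassicalGeometry.TrialityOct.oconj_r1, _root_.mul_neg, _root_.Cfsg.Agent.ClassicalGeometry.TrialityOct.oconj_l1, _root_.Cfsg.Agent.ClassicalGeometry.TrialityOct.oconj_r2, _root_.Cfsg.Agent.ClassicalGeometry.TrialityOct.oconj_l2, _root_.Cfsg.Agent.ClassicalGeometry.TrialityOct.oconj_r3, _root_.Cfsg.Agent.ClassicalGeometry.TrialityOct.oconj_l3, _root_.neg_zero, _root_.Cfsg.Agent.ClassicalGeometry.TrialityOct.omul_l0, _root_.zero_sub, _root_.neg_neg, _root_.neg_mul, _root_.Cfsg.Agent.ClassicalGeometry.TrialityOct.omul_l1, _root_.neg_sub, _root_.sub_neg_eq_add, _root_.sub_self, _root_.Cfsg.Agent.ClassicalGeometry.TrialityOct.omul_l2, _root_.Cfsg.Agent.ClassicalGeometry.TrialityOct.omul_l3, _root_.Cfsg.Agent.ClassicalGeometry.TrialityOct.omul_r2, _root_.Cfsg.Agent.ClassicalGeometry.TrialityOct.omul_r3, _root_.Cfsg.Agent.ClassicalGeometry.TrialityOct.omul_r1,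 _root_.Cfsg.Agent.ClassicalGeometry.TrialityOct.omul_r0, and_self, and_true, true_and] <;> and_intros <;> ring)

/-- `Ψ(s) (ρ Ψ(s) ρ⁻¹)⁻¹ = Ψ(bG (1 - n))` in standard position -/
theorem s0_rho (hG : _root_.Cfsg.Agent.LieClassical.OrthTrans.Good (plusForm 4 F)) (a b c : F) :
    Psi (plusForm 4 F) (tg _ (s0 a b c)) * (rho hG * Psi (plusForm 4 F) (tg _ (s0 a b c)) * (rho hG)⁻¹)⁻¹ =
      Psi (plusForm 4 F) (bG (one8 F - n0 a b c) (ne_zero_of_eq_one (one_sub_q (n0_sq a b c)))) := by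
  simp only [rho_conj hG (tri_s0 a b c), mul_inv_eq_iff_eq_mul, ← map_mul, ← s0_eq]

/-- `τ bG(a) τ⁻¹ = bG (τ a)` -/
theorem conj_bG {τ : G8 F} (hτ : TriS τ τ τ) {a : V8 F} (ha : plusForm 4 F a ≠ 0) (ha' : plusForm 4 F (τ.1 a) ≠ 0) :
    τ * bG a ha * τ⁻¹ = bG (τ.1 a) ha' := by
  rw [mul_inv_eq_iff_eq_mul]
  apply Subtype.ext
  apply Equiv.ext
  intro x
  simp only [Subgroup.coe_mul, Equiv.Perm.mul_apply, H198.TriBase.bG_apply, H198.TriBase.lG_apply, H198.TriBase.rG_apply,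
    H198.TriBase.kapG_apply, H93.RC.tg_apply]
  rw [hτ, hτ]

private theorem map_conj' {A C : Type*} [Group A] [Group C] (f : A →* C) (t m : A) :
    f (t⁻¹ * m * t) = (f t)⁻¹ * f m * f t := by rw [map_mul, map_mul, map_inv]

private theorem conj_aux {A : Type*} [Group A] {r T M C M' C' : A} (hc : r * T = T * r) (h0 : M * (r * M * r⁻¹)⁻¹ = C)
    (hM : M' = T⁻¹ * M * T) (hB : C' = T⁻¹ * C * T) : M' * (r * M' * r⁻¹)⁻¹ = C' := by
  subst hM hB h0
  have hc2 : T⁻¹ * r = r * T⁻¹ := by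
    rw [inv_mul_eq_iff_eq_mul, ← mul_assoc, ← hc, mul_assoc, mul_inv_cancel, mul_one]
  have hc3 : r * (T⁻¹ * M * T) * r⁻¹ = T⁻¹ * (r * M * r⁻¹) * T := by
    calc r * (T⁻¹ * M * T) * r⁻¹ = (r * T⁻¹) * M * (T * r⁻¹) := by group
      _ = (T⁻¹ * r) * M * (r⁻¹ * (r * T) * r⁻¹) := by rw [hc2]; group
      _ = (T⁻¹ * r) * M * (r⁻¹ * (T * r) * r⁻¹) := by rw [hc]
      _ = T⁻¹ * (r * M * r⁻¹) * T := by group
  rw [hc3]
  group

/-- for `n ≠ 0`, `n² = 0` -/
theorem exists_s (hG : _root_.Cfsg.Agent.LieClassical.OrthTrans.Good (plusForm 4 F)) {n : V8 F} (hn0 : n ≠ 0) (hn : omul n n = 0) :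
    ∃ s : ↥(E (plusForm 4 F)), (∀ (w : V8 F) (h : Sp n w), s * sg h = sg h * s) ∧
      Psi (plusForm 4 F) (tg _ s) * (rho hG * Psi (plusForm 4 F) (tg _ s) * (rho hG)⁻¹)⁻¹ =
        Psi (plusForm 4 F) (bG (one8 F - n) (ne_zero_of_eq_one (one_sub_q hn))) := by
  have hob_ := exists_std hn0 hn
  obtain ⟨τ, a, b, c, hτ, hl, hτn⟩ := hob_
  have hss := aut_ss hτ hl
  refine ⟨conjE (plusForm 4 F) τ⁻¹ (s0 a b c), ?_, ?_⟩
  · intro w h
    have h' : Sp (n0 a b c) (τ.1 w) := hτn ▸ h.map hτ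
    have e1 : conjE (plusForm 4 F) τ (sg h) = sg h' := by
      apply Subtype.ext
      apply LinearEquiv.ext
      intro x
      have hob_ := τ.1.surjective x
      obtain ⟨x, rfl⟩ := hob_
      rw [coe_conjE, conjLin_apply', sg_apply, sg_apply, hss.add, hss.sub, hss.smul, hss.smul, ← hτn,
        aut_pl hτ hl, aut_pl hτ hl]
      rfl
    have e2 : sg h = conjE (plusForm 4 F) τ⁻¹ (sg h') := by
      rw [← e1, ← MulAut.mul_apply, ← map_mul, inv_mul_cancel, map_one]; rfl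
    have e3 : s0 a b c * sg h' = sg h' * s0 a b c := by
      apply Subtype.ext
      have hp1 := n0_e0 (F := F) a b c
      have hp2 := polar_of_sp h'
      have hp3 : B (n0 a b c) (e0 F + τ.1 w) = 0 := by rw [pl_add, hp1, hp2, add_zero]
      have hp4 : B (n0 a b c) (τ.1 w + e0 F) = 0 := by rw [pl_add, hp1, hp2, add_zero]
      have m1 := siegel_mul (n0_q a b c) hp1 hp2 hp3
      have m2 := siegel_mul (n0_q a b c) hp2 hp1 hp4
      have m3 : siegel (plusForm 4 F) (n0 a b c) (e0 F + τ.1 w) (n0_q a b c) hp3 =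
          siegel (plusForm 4 F) (n0 a b c) (τ.1 w + e0 F) (n0_q a b c) hp4 := by
        congr 1
        exact add_comm _ _
      exact m1.trans (m3.trans m2.symm)
    simp only [e2, ← map_mul, ← map_mul, e3]
  · have hk : tg (plusForm 4 F) (conjE (plusForm 4 F) τ⁻¹ (s0 a b c)) = τ⁻¹ * tg _ (s0 a b c) * τ := by
      apply Subtype.ext
      apply Equiv.ext
      intro x
      rw [tg_apply, coe_conjE, conjLin_apply]
      rfl
    have hb : bG (one8 F - n) (ne_zero_of_eq_one (one_sub_q hn)) =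
        τ⁻¹ * bG (one8 F - n0 a b c) (ne_zero_of_eq_one (one_sub_q (n0_sq a b c))) * τ := by
      have e1 : τ.1 (one8 F - n) = one8 F - n0 a b c := by rw [hss.sub, aut_one hτ, hτn]
      have e2 := conj_bG hτ (ne_zero_of_eq_one (one_sub_q hn)) (ne_zero_of_eq_one (by rw [e1]; exact one_sub_q (n0_sq a b c)))
      have e3 : bG (τ.1 (one8 F - n)) (ne_zero_of_eq_one (by rw [e1]; exact one_sub_q (n0_sq a b c))) =
          bG (one8 F - n0 a b c) (ne_zero_of_eq_one (one_sub_q (n0_sq a b c))) := by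
        congr 1
      rw [← e3, ← e2]
      group
    have hc : rho hG * Psi (plusForm 4 F) τ = Psi (plusForm 4 F) τ * rho hG := rho_comm hG hτ
    have h0 := s0_rho hG a b c
    have hk' := (congrArg (Psi (plusForm 4 F)) hk).trans (map_conj' _ _ _)
    have hb' := (congrArg (Psi (plusForm 4 F)) hb).trans (map_conj' _ _ _)
    exact conj_aux hc h0 hk' hb'

/-- `κ lG(1 - w) κ = rG (1 + w)` -/
theorem kap_lG {w : V8 F} (hw : omul w w = 0) : kapG F * lG (one8 F - w) (ne_zero_of_eq_one (one_sub_q hw)) * kapG F =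
    rG (one8 F + w) (ne_zero_of_eq_one (one_add_q hw)) := by
  apply Subtype.ext
  apply Equiv.ext
  intro x
  show oconj (omul (one8 F - w) (oconj x)) = omul x (one8 F + w)
  rw [oconj_omul, oconj_oconj]
  congr 1
  have h1 : oconj (one8 F - w) = oconj (one8 F) - oconj w := by coord8
  rw [h1, oconj_one8, oconj_of_sq hw, sub_neg_eq_add]

/-- the formula of `bG (1 - u)` -/
theorem bG_formula {n : V8 F} (hn : omul n n = 0) (x : V8 F) : omul (omul (one8 F - n) x) (one8 F - n) =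
    x + B n x • one8 F - B x (one8 F) • n - B n x • n := by
  have h1 := omul_oconj_omul_self (one8 F - n) (oconj x)
  rw [oconj_oconj] at h1
  rw [h1, one_sub_q hn, one_smul, oconj_eq, pl_sub_left, pl_sub, pl_sub, pl_smul, pl_smul, pl_one_one, pl_tr hn,
    pl_comm (one8 F) x]
  module

/-- the commutator identity -/
theorem comm_bG_rG {u w : V8 F} (h : Sp u w) :
    tg (plusForm 4 F) (sg h) * (bG (one8 F - u) (ne_zero_of_eq_one (one_sub_q h.uu)) *
      rG (one8 F + w) (ne_zero_of_eq_one (one_add_q h.ww))) =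
    rG (one8 F + w) (ne_zero_of_eq_one (one_add_q h.ww)) * bG (one8 F - u) (ne_zero_of_eq_one (one_sub_q h.uu)) := by
  apply Subtype.ext
  apply Equiv.ext
  intro x
  simp only [Subgroup.coe_mul, Equiv.Perm.mul_apply, H198.TriBase.bG_apply, H198.TriBase.lG_apply, H198.TriBase.rG_apply,
    H198.TriBase.kapG_apply, H93.RC.tg_apply]
  have hq1 := norm_of_sq h.uu
  have hq2 := norm_of_sq h.ww
  have a1 : omul x (one8 F + w) = x + omul x w := by rw [omul_add, omul_one]
  have p1 : B u (omul x w) = 0 := by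
    rw [pl_adj, oconj_of_sq h.ww]
    have e : omul u (-w) = 0 := by
      have := omul_smul (-1 : F) u w
      rw [neg_one_smul, h.uw, smul_zero] at this
      exact this
    rw [e]
    have := pl_smul_left 0 (0 : V8 F) x
    rwa [zero_smul, zero_mul] at this
  have p2 : B w (omul x w) = 0 := by rw [pl_sq, hq2, zero_mul]
  have p3 : B (omul x w) (one8 F) = - B w x := by
    have e := pl_omul x (oconj w)
    rw [oconj_oconj, oconj_of_sq h.ww] at e
    rw [e, pl_comm x (-w)]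
    have := pl_smul_left (-1 : F) w x
    rw [neg_one_smul] at this
    rw [this]; ring
  have p4 : B u u = 0 := by rw [pl_self, hq1, mul_zero]
  have p5 : B w w = 0 := by rw [pl_self, hq2, mul_zero]
  have p6 : B w u = 0 := by rw [pl_comm]; exact polar_of_sp h
  have p7 : B u (one8 F) = 0 := pl_tr h.uu
  have p8 : B w (one8 F) = 0 := pl_tr h.ww
  rw [a1, bG_formula h.uu, bG_formula h.uu, sg_apply]
  have a2 : omul (x + B u x • one8 F - B x (one8 F) • u - B u x • u) (one8 F + w) =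
      x + B u x • one8 F - B x (one8 F) • u - B u x • u + (omul x w + B u x • w) := by
    rw [omul_add, omul_one]
    congr 1
    rw [sub_eq_add_neg, sub_eq_add_neg, add_omul, add_omul, add_omul, smul_omul, one_omul, ← neg_smul, ← neg_smul,
      smul_omul, smul_omul, h.uw, smul_zero, smul_zero, add_zero, add_zero]
  rw [a2]
  simp only [pl_add, pl_add_left, pl_sub, pl_sub_left, pl_smul, pl_smul_left, p1, p2, p3, p4, p5, p6, p7, p8]
  module

end oct

section kill

variable {F : Type u} [Field F] {G Ω : Type*} [Group G] [MulAction G Ω] {N : Subgroup G} {σ : P8 F →* G}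

theorem sp_symm {u w : V8 F} (h : Sp u w) : Sp w u := ⟨h.wu, h.uw, h.ww, h.uu⟩

theorem sg_symm {u w : V8 F} (h : Sp u w) : sg (sp_symm h) = (sg h)⁻¹ := by
  rw [eq_inv_iff_mul_eq_one]
  apply Subtype.ext
  apply LinearEquiv.ext
  intro x
  show (sg (sp_symm h) : V8 F ≃ₗ[F] V8 F) ((sg h : V8 F ≃ₗ[F] V8 F) x) = x
  rw [sg_apply, sg_apply]
  have p4 : polar (plusForm 4 F) u u = 0 := by rw [pl_self, norm_of_sq h.uu, mul_zero]
  have p5 : polar (plusForm 4 F) w w = 0 := by rw [pl_self, norm_of_sq h.ww, mul_zero]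
  have p6 : polar (plusForm 4 F) u w = 0 := polar_of_sp h
  have p7 : polar (plusForm 4 F) w u = 0 := by rw [pl_comm]; exact polar_of_sp h
  simp only [pl_add, pl_sub, pl_smul, p4, p5, p6, p7]
  module

theorem gen_cm {K : Type*} [Group K] {a b y : K} (h : y * (a * b) = b * a) : a * b * a⁻¹ * b⁻¹ = y⁻¹ := by
  have h1 : a * b = y⁻¹ * (b * a) := by rw [← h, inv_mul_cancel_left]
  rw [h1]
  group

/-- the two elements -/
theorem exists_two (hG : _root_.Cfsg.Agent.LieClassical.OrthTrans.Good (plusForm 4 F)) (hE : Env G Ω N) (hσ : Rp (plusForm 4 F) N σ) {x : G}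
    (hx : La σ x (rho hG)) {u w : V8 F} (h : Sp u w) (hu : u ≠ 0) (hw : w ≠ 0) :
    ∃ t₁ t₂ : G, t₁ ∈ N ∧ t₂ ∈ N ∧
      t₁ * σ ((sg h : ↥(E (plusForm 4 F))) : P8 F) = σ ((sg h : ↥(E (plusForm 4 F))) : P8 F) * t₁ ∧
      t₂ * σ ((sg h : ↥(E (plusForm 4 F))) : P8 F) = σ ((sg h : ↥(E (plusForm 4 F))) : P8 F) * t₂ ∧
      ∀ U : Subgroup G, t₁ ∈ U → t₂ ∈ U → σ ((sg h : ↥(E (plusForm 4 F))) : P8 F) ∈ cmm U x := by
  have hob_ := exists_s hG hu h.uu
  obtain ⟨s₁, hs₁, hk₁⟩ := hob_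
  have hob_ := exists_s hG hw h.ww
  obtain ⟨s₂, hs₂, hk₂⟩ := hob_
  have hmem : ∀ a : P8 F, σ a ∈ N := fun a => by rw [← hσ.range]; exact ⟨a, rfl⟩
  have hn := hE.norm
  set y := σ ((sg h : ↥(E (plusForm 4 F))) : P8 F) with hy
  -- `x` commutes with `y`
  have hxy : x * y * x⁻¹ = y := by
    rw [hy, hx, H208.SgAut.rho_sg hG h]
  have hc1 : σ (s₁ : P8 F) * y = y * σ (s₁ : P8 F) := by
    rw [hy, ← map_mul, ← map_mul, ← QuotientGroup.mk_mul, hs₁ w h, QuotientGroup.mk_mul]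
  have hc2' : σ (s₂ : P8 F) * y = y * σ (s₂ : P8 F) := by
    have h1 := hs₂ u (sp_symm h)
    rw [sg_symm h] at h1
    have h2 : s₂ * sg h = sg h * s₂ := by
      have h3 : Commute s₂ (sg h)⁻¹ := h1
      exact (Commute.inv_right_iff.1 h3)
    rw [hy, ← map_mul, ← map_mul, ← QuotientGroup.mk_mul, h2, QuotientGroup.mk_mul]
  have hc2 : (x * σ (s₂ : P8 F) * x⁻¹) * y = y * (x * σ (s₂ : P8 F) * x⁻¹) := by
    conv_lhs => rw [← hxy]
    conv_rhs => rw [← hxy]
    calc x * σ (s₂ : P8 F) * x⁻¹ * (x * y * x⁻¹) = x * (σ (s₂ : P8 F) * y) * x⁻¹ := by group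
      _ = x * (y * σ (s₂ : P8 F)) * x⁻¹ := by rw [hc2']
      _ = _ := by group
  refine ⟨σ (s₁ : P8 F), x * σ (s₂ : P8 F) * x⁻¹, hmem _, hn.conj_mem _ (hmem _) x, hc1, hc2, ?_⟩
  intro U h1 h2
  -- the automorphisms
  have l₁ : La σ (σ (s₁ : P8 F)) (Psi (plusForm 4 F) (tg _ s₁)) := La.lf.2 (Lf.tg s₁)
  have l₂ : La σ (σ (s₂ : P8 F)) (Psi (plusForm 4 F) (tg _ s₂)) := La.lf.2 (Lf.tg s₂)
  have ly : La σ y (Psi (plusForm 4 F) (tg _ (sg h))) := La.lf.2 (Lf.tg (sg h))
  have m₁ := l₁.mul ((hx.mul l₁).mul hx.inv).inv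
  have m₂ := l₂.mul ((hx.mul l₂).mul hx.inv).inv
  rw [hk₁] at m₁
  rw [hk₂] at m₂
  have m₃ := (hx.mul m₂).mul hx.inv
  simp only [rho_conj hG (tri_bG _ _), kap_lG h.ww] at m₃
  obtain ⟨A, hA⟩ : ∃ A, A = σ (s₁ : P8 F) * (x * σ (s₁ : P8 F) * x⁻¹)⁻¹ := ⟨_, rfl⟩
  obtain ⟨C, hC⟩ : ∃ C, C = x * (σ (s₂ : P8 F) * (x * σ (s₂ : P8 F) * x⁻¹)⁻¹) * x⁻¹ := ⟨_, rfl⟩
  simp only [← hA] at m₁
  simp only [← hC] at m₃
  have m₄ := ((m₁.mul m₃).mul m₁.inv).mul m₃.inv
  have hcm := comm_bG_rG h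
  have hcm' := congrArg (Psi (plusForm 4 F)) hcm
  simp only [MonoidHom.map_mul] at hcm'
  rw [gen_cm hcm'] at m₄
  have e : A * C * A⁻¹ * C⁻¹ = y⁻¹ := La.eq hE hσ m₄ ly.inv
  have hA' : A ∈ cmm U x := by
    have := mem_cmm (U := U) (x := x) h1
    have e1 : A = σ (s₁ : P8 F) * x * (σ (s₁ : P8 F))⁻¹ * x⁻¹ := by rw [hA]; group
    rwa [← e1] at this
  have hC' : C ∈ cmm U x := by
    have := mem_cmm (U := U) (x := x) h2
    have e1 : C = x * σ (s₂ : P8 F) * x⁻¹ * x * (x * σ (s₂ : P8 F) * x⁻¹)⁻¹ * x⁻¹ := by rw [hC]; group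
    rwa [← e1] at this
  have h3 : A * C * A⁻¹ * C⁻¹ ∈ cmm U x :=
    mul_mem (mul_mem (mul_mem hA' hC') (inv_mem hA')) (inv_mem hC')
  rw [e] at h3
  exact inv_mem_iff.1 h3

/-- the class of `sg h` is not trivial -/
theorem sg_ne_one (hG : _root_.Cfsg.Agent.LieClassical.OrthTrans.Good (plusForm 4 F)) {u w : V8 F} (h : Sp u w) (hi : LinearIndependent F ![u, w]) :
    ((sg h : ↥(E (plusForm 4 F))) : P8 F) ≠ 1 := by
  intro h1
  obtain ⟨c, hc, hc'⟩ := sign_of_mk_eq hG (g := 1) (h := sg h) (by rw [h1]; rfl)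
  have hne := LinearIndependent.pair_iff.1 hi
  have hu : u ≠ 0 := by
    rintro rfl
    have := hne 1 0 (by simp)
    exact one_ne_zero this.1
  have e1 := hc' u
  rw [sg_apply] at e1
  have p4 : polar (plusForm 4 F) u u = 0 := by rw [pl_self, norm_of_sq h.uu, mul_zero]
  have p7 : polar (plusForm 4 F) w u = 0 := by rw [pl_comm]; exact polar_of_sp h
  rw [p4, p7, zero_smul, zero_smul, sub_zero, add_zero] at e1
  have hc1 : c = 1 := by
    have e2 : (c - 1) • u = 0 := by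
      rw [sub_smul, one_smul]
      exact sub_eq_zero.2 e1.symm
    rcases smul_eq_zero.1 e2 with h2 | h2
    · exact sub_eq_zero.1 h2
    · exact absurd h2 hu
  obtain ⟨z, hz⟩ : ∃ z, polar (plusForm 4 F) u z ≠ 0 := by
    by_contra hcon
    push Not at hcon
    exact hu (polar_plusForm_nondeg 4 u hcon)
  have e3 := hc' z
  rw [sg_apply, hc1, one_smul] at e3
  have e4 : (-(polar (plusForm 4 F) w z)) • u + polar (plusForm 4 F) u z • w = 0 := by
    have e5 : z + (polar (plusForm 4 F) u z • w - polar (plusForm 4 F) w z • u) = z := e3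
    have e6 := add_eq_left.1 e5
    rw [neg_smul, neg_add_eq_sub]
    exact e6
  exact hz (hne _ _ e4).2

/-- **Box iK**: no cover `{sg h} ∪ {x₁}` -/
theorem kill_i [Nonempty Ω] (hG : _root_.Cfsg.Agent.LieClassical.OrthTrans.Good (plusForm 4 F)) (hE : Env G Ω N) (hσ : Rp (plusForm 4 F) N σ) {x : G}
    (hx : La σ x (rho hG)) {u w : V8 F} (h : Sp u w) (hi : LinearIndependent F ![u, w])
    (hcov : ∀ ω : Ω, σ ((sg h : ↥(E (plusForm 4 F))) : P8 F) • ω = ω ∨ x • ω = ω) : False := by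
  have hne := LinearIndependent.pair_iff.1 hi
  have hu : u ≠ 0 := by
    rintro rfl
    exact one_ne_zero (hne 1 0 (by simp)).1
  have hw : w ≠ 0 := by
    rintro rfl
    exact one_ne_zero (hne 0 1 (by simp)).2
  obtain ⟨t₁, t₂, -, -, h1, h2, h3⟩ := exists_two hG hE hσ hx h hu hw
  refine not_cov_one (U := Subgroup.centralizer {σ ((sg h : ↥(E (plusForm 4 F))) : P8 F)}) hE hcov ?_ ?_ (h3 _ ?_ ?_)
  · intro g hg
    exact (Subgroup.mem_centralizer_singleton_iff.1 hg)
  · intro h4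
    exact sg_ne_one hG h hi (hσ.inj (by rw [h4, map_one]))
  · exact Subgroup.mem_centralizer_singleton_iff.2 h1
  · exact Subgroup.mem_centralizer_singleton_iff.2 h2

end kill

end Cfsg.Agent.H103.RC
end

-- part: H679/RC/TriBoxC
section
/-!
# S3510, triality of `PΩ₈⁺(q)`, type (i): a long root element (helper679)

* `G2_dich` : a subgroup of `G₂(F)` normalised by `G₂(F)'` is trivial or contains `G₂(F)'`;
* `comm_le` : the same for the centraliser of `ρ`, and the long root elements `sg h` are commutators in it;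
* `box_iC` : if `x₁` induces `ρ` and every point is fixed by `x₁` or by `σ c`, `1 ≠ c` fixed by `ρ`, then every point is
  fixed by `x₁` or by a long root element `σ (sg h)`.
-/

set_option autoImplicit false
open Cfsg

namespace Cfsg.Agent.H679.RC.TriBox

open Module QuadraticMap MulAction Cfsg.Agent.LieClassical.OrthCore Cfsg.Agent.LieClassical.OrthTrans
  Cfsg.Agent.LieClassical.OrthSimple Cfsg.Agent.ClassicalGeometry.OrthAut1
  Cfsg.Agent.ClassicalGeometry.OrthSemi Cfsg.Agent.H198.Classes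
  Cfsg.Agent.LieClassical.QuadForms Cfsg.Agent.H198.ClassesPlus
  Cfsg.Agent.ClassicalGeometry.TrialityOct Cfsg.Agent.ClassicalGeometry.Triality
  Cfsg.Agent.ClassicalGeometry.TrialitySpaces Cfsg.Agent.H198.TriBase Cfsg.Agent.H198.TriAut
  Cfsg.Agent.H206.Balance Cfsg.Agent.H198.BalVar Cfsg.Agent.H198.TriDia Cfsg.Agent.H198.TriSpec
  Cfsg.Agent.H566.RC Cfsg.Agent.H106.RC

universe u

section Abs

open Subgroup

/-- a subgroup normalised by a group above `G'`, `G'` simple with trivial centraliser -/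
theorem core_dich {G : Type*} [Group G] [Finite G] (hS : IsSimpleGroup (commutator G))
    (hZ : centralizer ((commutator G : Subgroup G) : Set G) = ⊥)
    (H M : Subgroup G) (hH : commutator G ≤ H) (hn : ∀ c ∈ H, ∀ a ∈ M, c * a * c⁻¹ ∈ M) :
    M = ⊥ ∨ commutator G ≤ M := by
  have hN : (M.subgroupOf (commutator G)).Normal := by
    constructor
    intro a ha g
    rw [mem_subgroupOf] at ha ⊢
    exact hn g (hH g.2) a ha
  rcases hN.eq_bot_or_eq_top with hbot | h
  · left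
    have hinf : ∀ g ∈ M, g ∈ commutator G → g = 1 := by
      intro g hg hg'
      have h1 : (⟨g, hg'⟩ : commutator G) ∈ M.subgroupOf (commutator G) := hg
      rw [hbot, mem_bot] at h1
      exact congrArg Subtype.val h1
    rw [eq_bot_iff, ← hZ]
    intro m hm
    rw [mem_centralizer_iff]
    intro g hg
    have hn' : (commutator G).Normal := inferInstance
    have h1 : g * m * g⁻¹ * m⁻¹ = 1 := by
      apply hinf
      · exact M.mul_mem (hn g (hH hg) m hm) (M.inv_mem hm)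
      · have h2 : g * m * g⁻¹ * m⁻¹ = g * (m * g⁻¹ * m⁻¹) := by group
        rw [h2]
        exact mul_mem hg (hn'.conj_mem _ (inv_mem hg) m)
    have h2 : g * m * g⁻¹ = m := by rw [← mul_inv_eq_one, h1]
    calc g * m = g * m * g⁻¹ * g := by group
      _ = m * g := by rw [h2]
  · right
    exact subgroupOf_eq_top.1 h

/-- transport of the dichotomy -/
theorem transport_dich {A B : Type*} [Group A] [Group B] (H : Subgroup A) (f : ↥H →* B)
    (_hf : Function.Injective f) (X Y : Subgroup B) (hX : ∀ g, f g ∈ X) (hX' : ∀ p ∈ X, p ∈ f.range) (hY : Y ≤ X)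
    (hn : ∀ c ∈ X, ∀ a ∈ Y, c * a * c⁻¹ ∈ Y)
    (core : ∀ M' : Subgroup A, (∀ c ∈ H, ∀ a ∈ M', c * a * c⁻¹ ∈ M') → M' = ⊥ ∨ commutator A ≤ M')
    {c : B} (hc : c ∈ Y) (h1 : c ≠ 1) {a b d : B} (ha : a ∈ X) (hb : b ∈ X) (hd : a * b = d * (b * a)) : d ∈ Y := by
  have h2 := core ((Y.comap f).map H.subtype) (by
    rintro s hs _ ⟨a, ha, rfl⟩
    refine ⟨⟨s, hs⟩ * a * ⟨s, hs⟩⁻¹, ?_, rfl⟩
    change f (⟨s, hs⟩ * a * ⟨s, hs⟩⁻¹) ∈ Y
    rw [map_mul, map_mul, map_inv]
    exact hn _ (hX _) _ ha)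
  rcases h2 with h2 | h2
  · exfalso
    rw [Subgroup.map_eq_bot_iff_of_injective _ H.subtype_injective] at h2
    obtain ⟨g, hg⟩ := hX' c (hY hc)
    have h3 : g ∈ Y.comap f := by
      rw [Subgroup.mem_comap, hg]
      exact hc
    rw [h2, Subgroup.mem_bot] at h3
    apply h1
    rw [← hg, h3, map_one]
  · obtain ⟨g1, hg1⟩ := hX' a ha
    obtain ⟨g2, hg2⟩ := hX' b hb
    have h3 : (g1 * g2 * g1⁻¹ * g2⁻¹ : ↥H).1 ∈ (Y.comap f).map H.subtype :=
      h2 (Subgroup.commutator_mem_commutator (Subgroup.mem_top g1.1) (Subgroup.mem_top g2.1))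
    obtain ⟨e, he, he'⟩ := h3
    have h4 : e = g1 * g2 * g1⁻¹ * g2⁻¹ := Subtype.ext he'
    have h5 : f e ∈ Y := he
    rw [h4, map_mul, map_mul, map_mul, map_inv, map_inv, hg1, hg2, hd] at h5
    have h6 : d * (b * a) * a⁻¹ * b⁻¹ = d := by group
    rwa [h6] at h5

end Abs

section GTwo

open Subgroup Cfsg.Lie Cfsg.Agent.H753.GTwoCore

/-- A subgroup of `G₂(F)` normalised by a group above `G₂(F)'` is trivial or contains `G₂(F)'`. -/
theorem G2_dich {F : Type u} [Field F] [Finite F] (H M : Subgroup ↥(Cfsg.Lie.G2 F))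
    (hH : commutator ↥(Cfsg.Lie.G2 F) ≤ H) (hn : ∀ c ∈ H, ∀ a ∈ M, c * a * c⁻¹ ∈ M) :
    M = ⊥ ∨ commutator ↥(Cfsg.Lie.G2 F) ≤ M := by
  obtain ⟨e⟩ := Cfsg.Agent.H638.G2Iso.equiv (F := F)
  have hcard := Cfsg.Agent.H638.G2Iso.card_G2 (F := F)
  have hpos : 0 < Nat.card (Cfsg.Lie.G2 F) := by
    rw [hcard]
    have h1 : 1 < Nat.card F := Finite.one_lt_card
    have h2 : 1 < Nat.card F ^ 2 := Nat.one_lt_pow (by norm_num) h1
    have h3 : 1 < Nat.card F ^ 6 := Nat.one_lt_pow (by norm_num) h1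
    have h4 : 0 < Nat.card F ^ 2 - 1 := by omega
    have h5 : 0 < Nat.card F ^ 6 - 1 := by omega
    (clear * - h1 h4 h5; positivity)
  have hfin : Finite (Cfsg.Lie.G2 F) := Nat.finite_of_card_ne_zero hpos.ne'
  rcases two_or (F := F) with h2 | hF
  · -- `|F| = 2`
    have iF : Fintype F := Fintype.ofFinite F
    have h2' : Fintype.card F = 2 := by rw [← Nat.card_eq_fintype_card, h2]
    have iK : Fintype (GaloisField 3 2) := Fintype.ofFinite _
    have hK : Fintype.card (GaloisField 3 2) = 9 := by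
      rw [← Nat.card_eq_fintype_card, GaloisField.card 3 2 (by norm_num)]
      rfl
    obtain ⟨e1⟩ := Cfsg.Agent.S1057.result h2' hK
    obtain ⟨e2⟩ := Cfsg.Agent.S1057.commutator_equiv e
    have e3 := e2.trans e1
    have hS' : IsSimpleGroup (Cfsg.PSU 3 (GaloisField 3 2) 3) :=
      Cfsg.Agent.S0283.result (q := 3) (by rw [hK]; rfl) 3 le_rfl (by norm_num)
    have hS : IsSimpleGroup (commutator (Cfsg.Lie.G2 F)) := e3.isSimpleGroup
    have hcard' : Nat.card (commutator (Cfsg.Lie.G2 F)) = 6048 := by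
      rw [Nat.card_congr e3.toEquiv]
      have h5 := Cfsg.Agent.S0280.result (F := GaloisField 3 2) (q := 3) (by rw [hK]; norm_num) 3 (by norm_num)
      simp only [Finset.prod_range_succ, Finset.prod_range_zero] at h5
      norm_num only [Nat.even_iff, _root_.one_mul, _root_.ite_true, _root_.ite_false] at h5
      omega
    have hnc : ¬ IsMulCommutative (commutator (Cfsg.Lie.G2 F)) := by
      intro h5
      let _ : CommGroup (commutator (Cfsg.Lie.G2 F)) :=
        { (inferInstance : Group (commutator (Cfsg.Lie.G2 F))) with mul_comm := h5.is_comm.comm }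
      have h6 := IsSimpleGroup.prime_card (α := commutator (Cfsg.Lie.G2 F))
      rw [hcard'] at h6
      revert h6
      norm_num
    refine core_dich hS (centralizer_eq_bot hS hnc center_eq_bot ?_) H M hH hn
    rw [hcard', hcard, h2]
    norm_num
  · -- `|F| > 2`
    obtain ⟨hS0, hnc⟩ := Cfsg.Agent.S1055.result hF
    have hS : IsSimpleGroup (Cfsg.Lie.G2 F) := e.isSimpleGroup
    have hnc' : ¬ IsMulCommutative (Cfsg.Lie.G2 F) := by
      intro h
      apply hnc
      constructor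
      constructor
      intro a b
      have h1 := h.is_comm.comm (e.symm a) (e.symm b)
      apply e.symm.injective
      rw [map_mul, map_mul, h1]
    have htop := not_comm_commutator hS hnc'
    have hS1 : IsSimpleGroup (commutator (Cfsg.Lie.G2 F)) := by
      rw [htop]
      exact Subgroup.topEquiv.isSimpleGroup
    refine core_dich hS1 ?_ H M hH hn
    rw [htop, coe_top, centralizer_univ, center_eq_bot]

end GTwo

variable {F : Type u} [Field F]

open H126.TriRigid (eU eW sp_single)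

/-- the special pair `e₁`, `-f₃` -/
theorem spC : Sp ((1 : F) • eU F 1) ((-1 : F) • eW F 3) :=
  (sp_single (by decide) (by decide) (by decide)).smul 1 (-1)

theorem sp12 : Sp (eU F 1) (eW F 2) := sp_single (by decide) (by decide) (by decide)

theorem sp23 : Sp (eU F 2) (eW F 3) := sp_single (by decide) (by decide) (by decide)

/-- the long root element is a commutator -/
theorem sg_comm : sg (sp12 (F := F)) * sg (sp23 (F := F)) =
    sg (spC (F := F)) * (sg (sp23 (F := F)) * sg (sp12 (F := F))) := by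
  apply Subtype.ext
  apply LinearEquiv.ext
  intro z
  change (sg (sp12 (F := F)) : V8 F ≃ₗ[F] V8 F) ((sg (sp23 (F := F)) : V8 F ≃ₗ[F] V8 F) z) =
    (sg (spC (F := F)) : V8 F ≃ₗ[F] V8 F) ((sg (sp23 (F := F)) : V8 F ≃ₗ[F] V8 F)
      ((sg (sp12 (F := F)) : V8 F ≃ₗ[F] V8 F) z))
  simp only [sg_apply, polar8]
  (refine And.elim (fun cj1 => And.elim fun cj2 => And.elim fun cj3 => And.elim fun cj4 => And.elim fun cj5 => And.elim fun cj6 => And.elim fun cj7 cj8 => by apply ext8; exacts [cj1, cj2, cj3, cj4, cj5, cj6, cj7, cj8]) ?_; simp <;> and_intros <;> ring)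

theorem lin_indep : LinearIndependent F ![(1 : F) • eU F 1, (-1 : F) • eW F 3] := by
  rw [LinearIndependent.pair_iff]
  intro s t h
  have h1 := congrFun h (.inl 1)
  have h2 := congrFun h (.inr 3)
  simp at h1 h2
  exact ⟨h1, h2⟩

/-- **a nontrivial subgroup of the centraliser of `ρ`, normal in it, contains the long root element** -/
theorem sg_mem [Finite F] (hG : _root_.Cfsg.Agent.LieClassical.OrthTrans.Good (plusForm 4 F)) {Y : Subgroup (P8 F)} (hY : Y ≤ Fx (rho hG))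
    (hn : ∀ t ∈ Fx (rho hG), ∀ a ∈ Y, t * a * t⁻¹ ∈ Y) {c : P8 F} (hc : c ∈ Y) (h1 : c ≠ 1) :
    ((sg (spC (F := F)) : ↥(E (plusForm 4 F))) : P8 F) ∈ Y := by
  refine transport_dich (H513.CoreFG.HH (RingEquiv.refl F)) (H513.CoreFG.pP (RingEquiv.refl F))
    (H513.CoreFG.pP_inj hG _) (Fx (rho hG)) Y (fun g => (H513.CoreFG.pP_mem hG _ g).1) ?_ hY hn
    (fun M' h2 => G2_dich _ M' (H513.CoreFG.comm_le_HH hG _) h2) hc h1
    (H208.SgAut.rho_sg hG (sp12 (F := F))) (H208.SgAut.rho_sg hG (sp23 (F := F))) ?_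
  · intro p hp
    refine H513.CoreFG.le_range hG _ hp ?_
    simp only [H39.Tri3.fG_refl, map_one]
    rfl
  · exact congrArg (fun g : ↥(E (plusForm 4 F)) => (g : P8 F)) (sg_comm (F := F))

/-- the elements of the centraliser of `ρ` fixing all the points moved by `x₁` -/
def YY {G Ω : Type*} [Group G] [MulAction G Ω] {V : Type*} [AddCommGroup V] [Module F V] {Q : QuadraticForm F V}
    (σ : P Q →* G) (Ω' : Set Ω) (C : Subgroup (P Q)) : Subgroup (P Q) where
  carrier := {c | c ∈ C ∧ ∀ ω ∈ Ω', σ c • ω = ω}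
  one_mem' := ⟨C.one_mem, fun ω _ => by rw [map_one, one_smul]⟩
  mul_mem' {a b} ha hb := ⟨C.mul_mem ha.1 hb.1, fun ω hω => by rw [map_mul, mul_smul, hb.2 ω hω, ha.2 ω hω]⟩
  inv_mem' {a} ha := ⟨C.inv_mem ha.1, fun ω hω => by rw [map_inv, inv_smul_eq_iff, ha.2 ω hω]⟩

/-- **Box iC** of the triality of type (i). -/
theorem box_iC [Finite F] {G Ω : Type*} [Group G] [MulAction G Ω] (hG : _root_.Cfsg.Agent.LieClassical.OrthTrans.Good (plusForm 4 F))
    {σ : P8 F →* G} {x1 : G} (hx : La σ x1 (rho hG)) {c : P8 F} (h1 : c ≠ 1) (hc : rho hG c = c)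
    (hcov : ∀ ω : Ω, x1 • ω = ω ∨ σ c • ω = ω) :
    ∃ (u w : V8 F) (h : Sp u w), LinearIndependent F ![u, w] ∧
      ∀ ω : Ω, x1 • ω = ω ∨ σ ((sg h : ↥(E (plusForm 4 F))) : P8 F) • ω = ω := by
  refine ⟨_, _, spC, lin_indep, ?_⟩
  set Y := YY σ {ω : Ω | x1 • ω ≠ ω} (Fx (rho hG)) with hY
  have hcY : c ∈ Y := ⟨hc, fun ω hω => (hcov ω).resolve_left hω⟩
  have h2 := sg_mem hG (Y := Y) (fun a ha => ha.1) (by
    intro t ht a ha
    refine ⟨mul_mem (mul_mem ht ha.1) (inv_mem ht), fun ω hω => ?_⟩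
    have h3 : x1 * σ t * x1⁻¹ = σ t := by
      rw [hx t]
      congr 1
    have h4 : x1 * (σ t)⁻¹ = (σ t)⁻¹ * x1 := by
      rw [mul_inv_eq_iff_eq_mul] at h3
      rw [mul_inv_eq_iff_eq_mul, mul_assoc, h3, inv_mul_cancel_left]
    have h5 : (σ t)⁻¹ • ω ∈ {ω : Ω | x1 • ω ≠ ω} := by
      intro h6
      apply hω
      have h7 : (σ t)⁻¹ • (x1 • ω) = (σ t)⁻¹ • ω := by rw [← mul_smul, ← h4, mul_smul, h6]
      exact smul_left_cancel _ h7
    rw [map_mul, map_mul, map_inv, mul_smul, mul_smul, ha.2 _ h5, smul_inv_smul]) hcY h1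
  intro ω
  by_cases h3 : x1 • ω = ω
  · exact Or.inl h3
  · exact Or.inr (h2.2 ω h3)

end Cfsg.Agent.H679.RC.TriBox
end

-- part: H237/RC/IDEl
section
/-!
# S3510, triality type (i), box iD: explicit elements of `E Q`

* `ec c`, `fc c` : root elements of the factor `L₃` (trivial on `H0`); `tor s` the torus;
* `Dc c` : root elements of `L₁` (trivial on the complement of `H0`);
* `Zc c` : the rotation `x ↦ (1 + c l₁) x (1 + c l₁)`.
-/

set_option autoImplicit false
open Cfsg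

namespace Cfsg.Agent.H237.RC.ID

open Module QuadraticMap Cfsg.Agent.LieClassical.OrthCore Cfsg.Agent.LieClassical.OrthTrans
  Cfsg.Agent.ClassicalGeometry.OrthSemi Cfsg.Agent.LieClassical.QuadForms
  Cfsg.Agent.ClassicalGeometry.TrialityOct Cfsg.Agent.ClassicalGeometry.Triality
  Cfsg.Agent.H198.TriBase Cfsg.Agent.H752.SemiNormal Cfsg.Agent.AutOrth.SemiSim

variable {F : Type*} [Field F]

/-- the orthogonal complement `⟨l₂, l₃, r₂, r₃⟩` of `H0` -/
def H1 (F : Type*) [Field F] : Submodule F (V8 F) where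
  carrier := {x | x (.inl 0) = 0 ∧ x (.inl 1) = 0 ∧ x (.inr 0) = 0 ∧ x (.inr 1) = 0}
  add_mem' := by
    rintro x y ⟨h1, h2, h3, h4⟩ ⟨k1, k2, k3, k4⟩
    exact ⟨by rw [Pi.add_apply, h1, k1, add_zero], by rw [Pi.add_apply, h2, k2, add_zero],
      by rw [Pi.add_apply, h3, k3, add_zero], by rw [Pi.add_apply, h4, k4, add_zero]⟩
  zero_mem' := ⟨rfl, rfl, rfl, rfl⟩
  smul_mem' := by
    rintro c x ⟨h1, h2, h3, h4⟩
    exact ⟨by rw [Pi.smul_apply, h1, smul_zero], by rw [Pi.smul_apply, h2, smul_zero],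
      by rw [Pi.smul_apply, h3, smul_zero], by rw [Pi.smul_apply, h4, smul_zero]⟩

/-! ### The factor `L₃` -/

theorem q_r2 : plusForm 4 F (bs (.inr 2)) = 0 := by rw [norm8]; simp
theorem q_l2 : plusForm 4 F (bs (.inl 2)) = 0 := by rw [norm8]; simp
theorem q_r0 : plusForm 4 F (bs (.inr 0)) = 0 := by rw [norm8]; simp
theorem q_l1 : plusForm 4 F (bs (.inl 1)) = 0 := by rw [norm8]; simp

theorem p_r23 (c : F) : polar (plusForm 4 F) (bs (.inr 2)) (c • bs (.inr 3)) = 0 := by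
  rw [polar8]; simp
theorem p_l23 (c : F) : polar (plusForm 4 F) (bs (.inl 2)) (c • bs (.inl 3)) = 0 := by
  rw [polar8]; simp
theorem p_r01 (c : F) : polar (plusForm 4 F) (bs (.inr 0)) (c • bs (.inr 1)) = 0 := by
  rw [polar8]; simp
theorem p_l1one (c : F) : polar (plusForm 4 F) (bs (.inl 1)) (c • one8 F) = 0 := by
  rw [polar8]; simp [one8]

/-- `l₂ ↦ l₂ + c r₃`, `l₃ ↦ l₃ - c r₂` -/
def ec (c : F) : ↥(E (plusForm 4 F)) := sg _ (bs (.inr 2)) (c • bs (.inr 3)) q_r2 (p_r23 c)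

/-- `r₂ ↦ r₂ + c l₃`, `r₃ ↦ r₃ - c l₂` -/
def fc (c : F) : ↥(E (plusForm 4 F)) := sg _ (bs (.inl 2)) (c • bs (.inl 3)) q_l2 (p_l23 c)

/-- `l₀ ↦ l₀ + c r₁`, `l₁ ↦ l₁ - c r₀` -/
def Dc (c : F) : ↥(E (plusForm 4 F)) := sg _ (bs (.inr 0)) (c • bs (.inr 1)) q_r0 (p_r01 c)

/-- `x ↦ (1 + c l₁) x (1 + c l₁)` -/
def Zc (c : F) : ↥(E (plusForm 4 F)) := sg _ (bs (.inl 1)) ((-c) • one8 F) q_l1 (p_l1one _)

theorem ec_apply (c : F) (v : V8 F) : (ec c : V8 F ≃ₗ[F] V8 F) v =
    v + (c * v (.inl 2)) • bs (.inr 3) - (c * v (.inl 3)) • bs (.inr 2) := by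
  rw [ec, sg_apply, polar8, polar8, norm8]
  (refine And.elim (fun cj1 => And.elim fun cj2 => And.elim fun cj3 => And.elim fun cj4 => And.elim fun cj5 => And.elim fun cj6 => And.elim fun cj7 cj8 => by apply ext8; exacts [cj1, cj2, cj3, cj4, cj5, cj6, cj7, cj8]) ?_; simp only [_root_.Fin.isValue, _root_.ne_eq, _root_.reduceCtorEq, _root_.not_false_eq_true, _root_.Pi.single_eq_of_ne, _root_.MulZeroClass.zero_mul, _root_.Sum.inr.injEq, _root_.Fin.reduceEq, _root_.MulZeroClass.mul_zero, _root_.add_zero, _root_.Pi.single_eq_same, _root_.mul_one, _root_.zero_add, _root_.Pi.smul_apply, _root_.smul_eq_mul, _root_.zero_smul, _root_.Pi.sub_apply, _root_.Pi.add_apply, _root_.sub_zero, _root_.Pi.zero_apply, _root_.sub_right_inj, _root_.add_right_inj, and_self, and_true, true_and] <;> and_intros <;> ring)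

theorem fc_apply (c : F) (v : V8 F) : (fc c : V8 F ≃ₗ[F] V8 F) v =
    v + (c * v (.inr 2)) • bs (.inl 3) - (c * v (.inr 3)) • bs (.inl 2) := by
  rw [fc, sg_apply, polar8, polar8, norm8]
  (refine And.elim (fun cj1 => And.elim fun cj2 => And.elim fun cj3 => And.elim fun cj4 => And.elim fun cj5 => And.elim fun cj6 => And.elim fun cj7 cj8 => by apply ext8; exacts [cj1, cj2, cj3, cj4, cj5, cj6, cj7, cj8]) ?_; simp only [_root_.Fin.isValue, _root_.ne_eq, _root_.Sum.inl.injEq, _root_.Fin.reduceEq, _root_.not_false_eq_true, _root_.Pi.single_eq_of_ne, _root_.MulZeroClass.zero_mul, _root_.reduceCtorEq, _root_.MulZeroClass.mul_zero, _root_.add_zero, _root_.Pi.single_eq_same, _root_.one_mul, _root_.zero_add, _root_.Pi.smul_apply, _root_.smul_eq_mul, _root_.mul_one, _root_.zero_smul, _root_.Pi.sub_apply, _root_.Pi.add_apply, _root_.sub_zero, _root_.Pi.zero_apply, _root_.add_right_inj, and_self, and_true, true_and] <;> and_intros <;> ring)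

theorem Dc_apply (c : F) (v : V8 F) : (Dc c : V8 F ≃ₗ[F] V8 F) v =
    v + (c * v (.inl 0)) • bs (.inr 1) - (c * v (.inl 1)) • bs (.inr 0) := by
  rw [Dc, sg_apply, polar8, polar8, norm8]
  (refine And.elim (fun cj1 => And.elim fun cj2 => And.elim fun cj3 => And.elim fun cj4 => And.elim fun cj5 => And.elim fun cj6 => And.elim fun cj7 cj8 => by apply ext8; exacts [cj1, cj2, cj3, cj4, cj5, cj6, cj7, cj8]) ?_; simp <;> and_intros <;> ring)

theorem Zc_apply (c : F) (v : V8 F) : (Zc c : V8 F ≃ₗ[F] V8 F) v =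
    omul (omul (one8 F + c • bs (.inl 1)) v) (one8 F + c • bs (.inl 1)) := by
  rw [Zc, sg_apply, polar8, polar8, norm8]
  (refine And.elim (fun cj1 => And.elim fun cj2 => And.elim fun cj3 => And.elim fun cj4 => And.elim fun cj5 => And.elim fun cj6 => And.elim fun cj7 cj8 => by apply ext8; exacts [cj1, cj2, cj3, cj4, cj5, cj6, cj7, cj8]) ?_; simp [omul_l0, omul_l1, omul_l2, omul_l3, omul_r0, omul_r1, omul_r2, omul_r3, one8] <;> and_intros <;> ring)

/-- the torus of `L₃` -/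
def tor (s : F) : ↥(E (plusForm 4 F)) := ec s⁻¹ * fc s * ec (s⁻¹ - 1) * fc (-1 : F) * ec (-1 : F)

theorem tor_apply {s : F} (hs : s ≠ 0) (v : V8 F) : (tor s : V8 F ≃ₗ[F] V8 F) v =
    Sum.elim ![v (.inl 0), v (.inl 1), s * v (.inl 2), s * v (.inl 3)]
      ![v (.inr 0), v (.inr 1), s⁻¹ * v (.inr 2), s⁻¹ * v (.inr 3)] := by
  have h : (tor s : V8 F ≃ₗ[F] V8 F) v = (ec s⁻¹ : V8 F ≃ₗ[F] V8 F) ((fc s : V8 F ≃ₗ[F] V8 F)
    ((ec (s⁻¹ - 1) : V8 F ≃ₗ[F] V8 F) ((fc (-1 : F) : V8 F ≃ₗ[F] V8 F) ((ec (-1 : F) : V8 F ≃ₗ[F] V8 F) v)))) := rfl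
  rw [h]
  simp only [ec_apply, fc_apply]
  (refine And.elim (fun cj1 => And.elim fun cj2 => And.elim fun cj3 => And.elim fun cj4 => And.elim fun cj5 => And.elim fun cj6 => And.elim fun cj7 cj8 => by apply ext8; exacts [cj1, cj2, cj3, cj4, cj5, cj6, cj7, cj8]) ?_; simp only [_root_.Fin.isValue, _root_.neg_mul, _root_.one_mul, _root_.neg_smul, _root_.sub_neg_eq_add, _root_.Pi.sub_apply, _root_.Pi.add_apply, _root_.Pi.neg_apply, _root_.Pi.smul_apply, _root_.ne_eq, _root_.Sum.inr.injEq, _root_.Fin.reduceEq, _root_.not_false_eq_true, _root_.Pi.single_eq_of_ne, _root_.smul_eq_mul, _root_.MulZeroClass.mul_zero, _root_.neg_zero, _root_.add_zero, _root_.Pi.single_eq_same, _root_.mul_one, _root_.neg_add_rev, _root_.sub_zero, _root_.neg_neg, _root_.reduceCtorEq, _root_.Sum.inl.injEq, _root_.sub_add_cancel_left, _root_.add_neg_cancel_left, _root_.mul_neg, _root_.Nat.succ_eq_add_one, _root_.Nat.reduceAdd, _root_.Sum.elim_inl, _root_.Matrix.cons_val_zero,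 _root_.Matrix.cons_val_one, _root_.Matrix.cons_val, _root_.Sum.elim_inr, and_self, and_true, true_and] <;> and_intros <;> field_simp <;> ring)

/-! ### Automorphisms -/

/-- a linear octonion automorphism -/
structure Au (M : G8 F) : Prop where
  tri : TriS M M M
  lin : IsSS (plusForm 4 F) (RingEquiv.refl F) 1 M.1

namespace Au

variable {M U : G8 F}

theorem mul (h : Au M) (x y : V8 F) : M.1 (omul x y) = omul (M.1 x) (M.1 y) := h.tri x y

theorem smul (h : Au M) (c : F) (x : V8 F) : M.1 (c • x) = c • M.1 x := h.lin.smul c x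

theorem polar (h : Au M) (x y : V8 F) :
    QuadraticMap.polar (plusForm 4 F) (M.1 x) (M.1 y) = QuadraticMap.polar (plusForm 4 F) x y := by
  rw [h.lin.polar, one_mul, RingEquiv.refl_apply]

theorem one (h : Au M) : M.1 (one8 F) = one8 F := H198.TriDia.aut_one h.tri

end Au

theorem c_l (v : V8 F) (i : Fin 4) : v (.inl i) = polar (plusForm 4 F) v (bs (.inr i)) := by
  rw [polar8]
  (revert i; simp only [_root_.Fin.forall_fin_succ, Fin.isValue, _root_.ne_eq, reduceCtorEq, _root_.not_false_eq_true, _root_.Pi.single_eq_of_ne, _root_.MulZeroClass.zero_mul, _root_.add_zero, _root_.Pi.single_eq_same, _root_.mul_one, _root_.Sum.inr.injEq, _root_.one_ne_zero, _root_.MulZeroClass.mul_zero, Fin.reduceEq, _root_.Fin.succ_ne_zero, _root_.Pi.single_eq_of_ne', _root_.zero_add, _root_.Fin.succ_zero_eq_one, _root_.Fin.succ_one_eq_two, Fin.reduceSucc, _root_.IsEmpty.forall_iff, _root_.and_self])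

theorem c_r (v : V8 F) (i : Fin 4) : v (.inr i) = polar (plusForm 4 F) v (bs (.inl i)) := by
  rw [polar8]
  (revert i; simp only [_root_.Fin.forall_fin_succ, Fin.isValue, _root_.ne_eq, reduceCtorEq, _root_.not_false_eq_true, _root_.Pi.single_eq_of_ne, _root_.MulZeroClass.mul_zero, _root_.zero_add, _root_.Pi.single_eq_same, _root_.one_mul, _root_.Sum.inl.injEq, _root_.one_ne_zero, _root_.MulZeroClass.zero_mul, _root_.add_zero, Fin.reduceEq, _root_.Fin.succ_ne_zero, _root_.Pi.single_eq_of_ne', _root_.Fin.succ_zero_eq_one, _root_.Fin.succ_one_eq_two, Fin.reduceSucc, _root_.IsEmpty.forall_iff, _root_.and_self])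

theorem l0_mul (v : V8 F) : omul (bs (.inl 0)) v = Sum.elim ![v (.inl 0), v (.inl 1), v (.inl 2), v (.inl 3)] ![0, 0, 0, 0] := by
  apply ext8 <;> simp [omul_l0, omul_l1, omul_l2, omul_l3, omul_r0, omul_r1, omul_r2, omul_r3]

theorem r0_mul (v : V8 F) : omul (bs (.inr 0)) v = Sum.elim ![0, 0, 0, 0] ![v (.inr 0), v (.inr 1), v (.inr 2), v (.inr 3)] := by
  apply ext8 <;> simp [omul_l0, omul_l1, omul_l2, omul_l3, omul_r0, omul_r1, omul_r2, omul_r3]

theorem l1_mul (v : V8 F) : omul (bs (.inl 1)) v =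
    Sum.elim ![-v (.inr 1), v (.inr 0), 0, 0] ![0, 0, v (.inl 3), -v (.inl 2)] := by
  apply ext8 <;> simp [omul_l0, omul_l1, omul_l2, omul_l3, omul_r0, omul_r1, omul_r2, omul_r3]

theorem one_eq : one8 F = bs (.inl 0) + bs (.inr 0) := by
  apply ext8 <;> simp [one8]

/-- `M` is the identity on `H0` -/
structure Fx0 (M : G8 F) : Prop extends Au M where
  l1 : M.1 (bs (.inl 1)) = bs (.inl 1)
  r1 : M.1 (bs (.inr 1)) = bs (.inr 1)
  l0 : M.1 (bs (.inl 0)) = bs (.inl 0)
  r0 : M.1 (bs (.inr 0)) = bs (.inr 0)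

/-- the plane `⟨l₂, l₃⟩` -/
def WL (F : Type*) [Field F] (v : V8 F) : Prop :=
  v (.inl 0) = 0 ∧ v (.inl 1) = 0 ∧ v (.inr 0) = 0 ∧ v (.inr 1) = 0 ∧ v (.inr 2) = 0 ∧ v (.inr 3) = 0

/-- the plane `⟨r₂, r₃⟩` -/
def WR (F : Type*) [Field F] (v : V8 F) : Prop :=
  v (.inl 0) = 0 ∧ v (.inl 1) = 0 ∧ v (.inr 0) = 0 ∧ v (.inr 1) = 0 ∧ v (.inl 2) = 0 ∧ v (.inl 3) = 0

theorem Fx0.wl {M : G8 F} (h : Fx0 M) {v : V8 F} (hv : WL F v) : WL F (M.1 v) := by
  obtain ⟨h0, h1, k0, k1, k2, k3⟩ := hv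
  have e1 : omul (bs (.inl 0)) v = v := by
    rw [l0_mul]
    apply ext8 <;> simp [h0, h1, k0, k1, k2, k3]
  have e2 : omul (bs (.inl 0)) (M.1 v) = M.1 v := by
    conv_rhs => rw [← e1]
    rw [h.mul, h.l0]
  rw [l0_mul] at e2
  have f := fun i => congrFun e2 (.inr i)
  refine ⟨?_, ?_, (f 0).symm, (f 1).symm, (f 2).symm, (f 3).symm⟩
  · rw [c_l (M.1 v) 0, ← h.r0, h.polar, ← c_l v 0, h0]
  · rw [c_l (M.1 v) 1, ← h.r1, h.polar, ← c_l v 1, h1]

theorem Fx0.wr {M : G8 F} (h : Fx0 M) {v : V8 F} (hv : WR F v) : WR F (M.1 v) := by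
  obtain ⟨h0, h1, k0, k1, k2, k3⟩ := hv
  have e1 : omul (bs (.inr 0)) v = v := by
    rw [r0_mul]
    apply ext8 <;> simp [h0, h1, k0, k1, k2, k3]
  have e2 : omul (bs (.inr 0)) (M.1 v) = M.1 v := by
    conv_rhs => rw [← e1]
    rw [h.mul, h.r0]
  rw [r0_mul] at e2
  have f := fun i => congrFun e2 (.inl i)
  refine ⟨(f 0).symm, (f 1).symm, ?_, ?_, (f 2).symm, (f 3).symm⟩
  · rw [c_r (M.1 v) 0, ← h.l0, h.polar, ← c_r v 0, k0]
  · rw [c_r (M.1 v) 1, ← h.l1, h.polar, ← c_r v 1, k1]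

/-- the three parts of a vector -/
def pH (v : V8 F) : V8 F := Sum.elim ![v (.inl 0), v (.inl 1), 0, 0] ![v (.inr 0), v (.inr 1), 0, 0]
/-- the part in `⟨l₂, l₃⟩` -/
def pL (v : V8 F) : V8 F := Sum.elim ![0, 0, v (.inl 2), v (.inl 3)] ![0, 0, 0, 0]
/-- the part in `⟨r₂, r₃⟩` -/
def pR (v : V8 F) : V8 F := Sum.elim ![0, 0, 0, 0] ![0, 0, v (.inr 2), v (.inr 3)]

theorem decomp3 (v : V8 F) : v = pH v + pL v + pR v := by
  apply ext8 <;> simp [pH, pL, pR]

theorem wl_pL (v : V8 F) : WL F (pL v) := ⟨rfl, rfl, rfl, rfl, rfl, rfl⟩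

theorem wr_pR (v : V8 F) : WR F (pR v) := ⟨rfl, rfl, rfl, rfl, rfl, rfl⟩

theorem pH_eq (v : V8 F) : pH v = v (.inl 0) • bs (.inl 0) + v (.inl 1) • bs (.inl 1) + v (.inr 0) • bs (.inr 0) +
    v (.inr 1) • bs (.inr 1) := by
  apply ext8 <;> simp [pH]

theorem Fx0.map_pH {M : G8 F} (h : Fx0 M) (v : V8 F) : M.1 (pH v) = pH v := by
  rw [pH_eq, h.lin.add, h.lin.add, h.lin.add, h.smul, h.smul, h.smul, h.smul, h.l0, h.l1, h.r0, h.r1]

theorem tor_pH {s : F} (hs : s ≠ 0) (v : V8 F) : (tor s : V8 F ≃ₗ[F] V8 F) (pH v) = pH v := by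
  rw [tor_apply hs]
  apply ext8 <;> simp [pH]

theorem tor_wl {s : F} (hs : s ≠ 0) {v : V8 F} (hv : WL F v) : (tor s : V8 F ≃ₗ[F] V8 F) v = s • v := by
  obtain ⟨h0, h1, k0, k1, k2, k3⟩ := hv
  rw [tor_apply hs]
  apply ext8 <;> simp [h0, h1, k0, k1, k2, k3]

theorem tor_wr {s : F} (hs : s ≠ 0) {v : V8 F} (hv : WR F v) : (tor s : V8 F ≃ₗ[F] V8 F) v = s⁻¹ • v := by
  obtain ⟨h0, h1, k0, k1, k2, k3⟩ := hv
  rw [tor_apply hs]
  apply ext8 <;> simp [h0, h1, k0, k1, k2, k3]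

/-- the torus commutes with `M` -/
theorem Fx0.tor_comm {M : G8 F} (h : Fx0 M) {s : F} (hs : s ≠ 0) (v : V8 F) :
    M.1 ((tor s : V8 F ≃ₗ[F] V8 F) v) = (tor s : V8 F ≃ₗ[F] V8 F) (M.1 v) := by
  have a1 : ∀ a b, M.1 ((tor s : V8 F ≃ₗ[F] V8 F) (a + b)) =
      M.1 ((tor s : V8 F ≃ₗ[F] V8 F) a) + M.1 ((tor s : V8 F ≃ₗ[F] V8 F) b) := by
    intro a b
    rw [map_add (tor s : V8 F ≃ₗ[F] V8 F), h.lin.add]
  have a2 : ∀ a b, (tor s : V8 F ≃ₗ[F] V8 F) (M.1 (a + b)) =
      (tor s : V8 F ≃ₗ[F] V8 F) (M.1 a) + (tor s : V8 F ≃ₗ[F] V8 F) (M.1 b) := by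
    intro a b
    rw [h.lin.add, map_add (tor s : V8 F ≃ₗ[F] V8 F)]
  have e1 := tor_pH hs v
  have e2 := tor_wl hs (wl_pL v)
  have e3 := tor_wr hs (wr_pR v)
  have e4 := tor_wl hs (h.wl (wl_pL v))
  have e5 := tor_wr hs (h.wr (wr_pR v))
  rw [decomp3 v, a1, a1, a2, a2, e1, e2, e3, h.smul, h.smul, h.map_pH, e1, e4, e5]

/-- the unipotent member: `U l₁ = l₁`, `U l₀ = l₀ - l₁` -/
structure Uu (U : G8 F) : Prop extends Au U where
  l1 : U.1 (bs (.inl 1)) = bs (.inl 1)
  l0 : U.1 (bs (.inl 0)) = bs (.inl 0) - bs (.inl 1)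
  H : ∀ x ∈ H0 F, U.1 x ∈ H0 F

theorem Uu.r0 {U : G8 F} (h : Uu U) : U.1 (bs (.inr 0)) = bs (.inr 0) + bs (.inl 1) := by
  have h1 := h.one
  rw [one_eq, h.lin.add, h.l0] at h1
  have : U.1 (bs (.inr 0)) = (bs (.inl 0) - bs (.inl 1) + U.1 (bs (.inr 0))) - (bs (.inl 0) - bs (.inl 1)) := by
    abel
  rw [this, h1]
  abel

theorem Uu.H1 {U : G8 F} (h : Uu U) {v : V8 F} (hv : v ∈ H1 F) : U.1 v ∈ ID.H1 F := by
  obtain ⟨h0, h1, k0, k1⟩ := hv
  have e1 : polar (plusForm 4 F) (U.1 v) (bs (.inl 1)) = 0 := by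
    rw [← h.l1, h.polar, ← c_r v 1, k1]
  have e2 : polar (plusForm 4 F) (U.1 v) (bs (.inl 0)) = 0 := by
    have : (bs (.inl 0) : V8 F) = U.1 (bs (.inl 0)) + bs (.inl 1) := by rw [h.l0]; abel
    rw [this, polar_add_right, e1, h.polar, ← c_r v 0, k0, add_zero]
  have e3 : polar (plusForm 4 F) (U.1 v) (bs (.inr 0)) = 0 := by
    have : (bs (.inr 0) : V8 F) = U.1 (bs (.inr 0)) - bs (.inl 1) := by rw [h.r0]; abel
    rw [this, polar_sub_right, e1, h.polar, ← c_l v 0, h0, sub_zero]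
  have e4 : polar (plusForm 4 F) (U.1 v) (bs (.inr 1)) = 0 := by
    have f := h.H (bs (.inr 1)) ⟨by simp, by simp, by simp, by simp⟩
    set y := U.1 (bs (.inr 1)) with hy
    have g1 : y (.inr 1) = 1 := by
      rw [c_r y 1, ← h.l1, hy, h.polar, ← c_r (bs (.inr 1)) 1]
      simp
    obtain ⟨f1, f2, f3, f4⟩ := f
    have g2 : (bs (.inr 1) : V8 F) = y - (y (.inl 0) • bs (.inl 0) + y (.inl 1) • bs (.inl 1) +
        y (.inr 0) • bs (.inr 0)) := by
      apply ext8 <;> simp [f1, f2, f3, f4, g1]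
    have g3 : polar (plusForm 4 F) (U.1 v) y = 0 := by
      rw [hy, h.polar, ← c_l v 1, h1]
    rw [g2, polar_sub_right, g3, polar_add_right, polar_add_right, polar_smul_right, polar_smul_right,
      polar_smul_right, e1, e2, e3]
    simp
  exact ⟨(c_l (U.1 v) 0).trans e3, (c_l (U.1 v) 1).trans e4, (c_r (U.1 v) 0).trans e2, (c_r (U.1 v) 1).trans e1⟩

theorem Uu.wr {U : G8 F} (h : Uu U) {v : V8 F} (hv : WR F v) : WR F (U.1 v) := by
  obtain ⟨h0, h1, k0, k1, k2, k3⟩ := hv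
  have e1 : omul (bs (.inr 0)) v = v := by
    rw [r0_mul]
    apply ext8 <;> simp [h0, h1, k0, k1, k2, k3]
  have e2 : omul (bs (.inr 0) + bs (.inl 1)) (U.1 v) = U.1 v := by
    conv_rhs => rw [← e1]
    rw [h.mul, h.r0]
  obtain ⟨f0, f1, g0, g1⟩ := h.H1 (v := v) ⟨h0, h1, k0, k1⟩
  rw [add_omul, r0_mul, l1_mul] at e2
  refine ⟨f0, f1, g0, g1, ?_, ?_⟩
  · have := congrFun e2 (.inl 2)
    simpa using this.symm
  · have := congrFun e2 (.inl 3)
    simpa using this.symm

theorem Uu.wl {U : G8 F} (h : Uu U) {v : V8 F} (hv : WL F v) :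
    (U.1 v) (.inl 0) = 0 ∧ (U.1 v) (.inl 1) = 0 ∧ (U.1 v) (.inr 0) = 0 ∧ (U.1 v) (.inr 1) = 0 ∧
      (U.1 v) (.inr 2) = -(U.1 v) (.inl 3) ∧ (U.1 v) (.inr 3) = (U.1 v) (.inl 2) := by
  obtain ⟨h0, h1, k0, k1, k2, k3⟩ := hv
  have e1 : omul (bs (.inl 0)) v = v := by
    rw [l0_mul]
    apply ext8 <;> simp [h0, h1, k0, k1, k2, k3]
  have e2 : omul (bs (.inl 0) - bs (.inl 1)) (U.1 v) = U.1 v := by
    conv_rhs => rw [← e1]
    rw [h.mul, h.l0]
  obtain ⟨f0, f1, g0, g1⟩ := h.H1 (v := v) ⟨h0, h1, k0, k1⟩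
  have e3 : omul (bs (.inl 0) - bs (.inl 1)) (U.1 v) =
      omul (bs (.inl 0)) (U.1 v) - omul (bs (.inl 1)) (U.1 v) := by
    rw [sub_eq_add_neg, add_omul, ← neg_one_smul F (bs (.inl 1)), smul_omul, neg_one_smul, ← sub_eq_add_neg]
  rw [e3, l0_mul, l1_mul] at e2
  refine ⟨f0, f1, g0, g1, ?_, ?_⟩
  · have := congrFun e2 (.inr 2)
    simpa using this.symm
  · have := congrFun e2 (.inr 3)
    simpa using this.symm

/-- the commutator of the torus with `U` -/
theorem Uu.tor_comm {U : G8 F} (h : Uu U) {s : F} (hs : s ≠ 0) (v : V8 F) :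
    (tor s : V8 F ≃ₗ[F] V8 F) (U.1 v) =
      (ec (s⁻¹ * s⁻¹ - 1) : V8 F ≃ₗ[F] V8 F) (U.1 ((tor s : V8 F ≃ₗ[F] V8 F) v)) := by
  have a0 : (tor s : V8 F ≃ₗ[F] V8 F) (U.1 (pH v)) =
      (ec (s⁻¹ * s⁻¹ - 1) : V8 F ≃ₗ[F] V8 F) (U.1 ((tor s : V8 F ≃ₗ[F] V8 F) (pH v))) := by
    rw [tor_pH hs]
    have f := h.H (pH v) ⟨rfl, rfl, rfl, rfl⟩
    obtain ⟨f1, f2, f3, f4⟩ := f
    rw [tor_apply hs, ec_apply, f1, f2, f3, f4]
    apply ext8 <;> simp [f1, f2, f3, f4]
  have a1 : (tor s : V8 F ≃ₗ[F] V8 F) (U.1 (pL v)) =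
      (ec (s⁻¹ * s⁻¹ - 1) : V8 F ≃ₗ[F] V8 F) (U.1 ((tor s : V8 F ≃ₗ[F] V8 F) (pL v))) := by
    rw [tor_wl hs (wl_pL v), h.smul, map_smul]
    obtain ⟨f0, f1, g0, g1, g2, g3⟩ := h.wl (wl_pL v)
    rw [tor_apply hs, ec_apply]
    apply ext8 <;> simp only [f0, f1, g0, g1, g2, g3, _root_.Nat.succ_eq_add_one, _root_.Nat.reduceAdd, _root_.Fin.isValue, _root_.mul_neg, _root_.Sum.elim_inl, _root_.Matrix.cons_val_zero, _root_.Pi.smul_apply, _root_.Pi.sub_apply, _root_.Pi.add_apply, _root_.ne_eq, _root_.reduceCtorEq, _root_.not_false_eq_true, _root_.Pi.single_eq_of_ne, _root_.smul_eq_mul, _root_.MulZeroClass.mul_zero, _root_.add_zero, _root_.sub_self, _root_.Matrix.cons_val_one, _root_.Matrix.cons_val, _root_.sub_zero, _root_.Sum.elim_inr, _root_.Sum.inr.injEq, _root_.Fin.reduceEq, _root_.Pi.single_eq_same, _root_.mul_one] <;> field_simp <;> ring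
  have a2 : (tor s : V8 F ≃ₗ[F] V8 F) (U.1 (pR v)) =
      (ec (s⁻¹ * s⁻¹ - 1) : V8 F ≃ₗ[F] V8 F) (U.1 ((tor s : V8 F ≃ₗ[F] V8 F) (pR v))) := by
    rw [tor_wr hs (wr_pR v), h.smul, map_smul, tor_wr hs (h.wr (wr_pR v))]
    obtain ⟨f0, f1, g0, g1, g2, g3⟩ := h.wr (wr_pR v)
    rw [ec_apply, g2, g3]
    simp
  have b1 : ∀ a b, (tor s : V8 F ≃ₗ[F] V8 F) (U.1 (a + b)) =
      (tor s : V8 F ≃ₗ[F] V8 F) (U.1 a) + (tor s : V8 F ≃ₗ[F] V8 F) (U.1 b) := by
    intro a b
    rw [h.lin.add, map_add (tor s : V8 F ≃ₗ[F] V8 F)]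
  have b2 : ∀ a b, (ec (s⁻¹ * s⁻¹ - 1) : V8 F ≃ₗ[F] V8 F) (U.1 ((tor s : V8 F ≃ₗ[F] V8 F) (a + b))) =
      (ec (s⁻¹ * s⁻¹ - 1) : V8 F ≃ₗ[F] V8 F) (U.1 ((tor s : V8 F ≃ₗ[F] V8 F) a)) +
      (ec (s⁻¹ * s⁻¹ - 1) : V8 F ≃ₗ[F] V8 F) (U.1 ((tor s : V8 F ≃ₗ[F] V8 F) b)) := by
    intro a b
    rw [map_add (tor s : V8 F ≃ₗ[F] V8 F), h.lin.add, map_add (ec (s⁻¹ * s⁻¹ - 1) : V8 F ≃ₗ[F] V8 F)]
  rw [decomp3 v, b1, b1, b2, b2, a0, a1, a2]

end Cfsg.Agent.H237.RC.ID
end

-- part: H237/RC/IDMain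
section
/-!
# S3510, triality type (i), box iD: the chain in normal form
-/

set_option autoImplicit false
open Cfsg

namespace Cfsg.Agent.H237.RC.ID

open Module QuadraticMap MulAction Cfsg.Agent.LieClassical.OrthCore Cfsg.Agent.LieClassical.OrthTrans
  Cfsg.Agent.LieClassical.OrthSimple Cfsg.Agent.ClassicalGeometry.OrthAut1
  Cfsg.Agent.ClassicalGeometry.OrthSemi Cfsg.Agent.LieClassical.QuadForms
  Cfsg.Agent.ClassicalGeometry.TrialityOct Cfsg.Agent.ClassicalGeometry.Triality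
  Cfsg.Agent.H198.TriBase Cfsg.Agent.H198.TriAut Cfsg.Agent.H752.SemiNormal Cfsg.Agent.AutOrth.SemiSim
  Cfsg.Agent.H106.RC Cfsg.Agent.H93.RC Cfsg.Agent.H566.RC

section conj

variable {F : Type*} [Field F] {M U : G8 F}

theorem conjE_apply' (M : G8 F) (t : ↥(E (plusForm 4 F))) (v : V8 F) :
    (conjE _ M t : V8 F ≃ₗ[F] V8 F) (M.1 v) = M.1 ((t : V8 F ≃ₗ[F] V8 F) v) := conjLin_apply' M t.1 v

theorem coe_mul_apply (g h : ↥(E (plusForm 4 F))) (v : V8 F) :
    ((g * h : ↥(E (plusForm 4 F))) : V8 F ≃ₗ[F] V8 F) v = (g : V8 F ≃ₗ[F] V8 F) ((h : V8 F ≃ₗ[F] V8 F) v) := rfl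

theorem coe_inv_apply (g : ↥(E (plusForm 4 F))) (v : V8 F) :
    ((g⁻¹ : ↥(E (plusForm 4 F))) : V8 F ≃ₗ[F] V8 F) ((g : V8 F ≃ₗ[F] V8 F) v) = v :=
  (g : V8 F ≃ₗ[F] V8 F).symm_apply_apply v

/-- `t` commutes with `M` -/
theorem conjE_eq {M : G8 F} {t : ↥(E (plusForm 4 F))}
    (h : ∀ v, M.1 ((t : V8 F ≃ₗ[F] V8 F) v) = (t : V8 F ≃ₗ[F] V8 F) (M.1 v)) : _root_.Cfsg.Agent.ClassicalGeometry.OrthSemi.conjE _ M t = t := by
  refine ext_E fun v => ?_
  have hob_ := M.1.surjective v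
  obtain ⟨v, rfl⟩ := hob_
  rw [conjE_apply', h]

theorem conjE_sg {M : G8 F} (h : Au M) {u w : V8 F} (hu : plusForm 4 F u = 0) (hw : polar (plusForm 4 F) u w = 0)
    (h1 : M.1 u = u) (h2 : M.1 w = w) : _root_.Cfsg.Agent.ClassicalGeometry.OrthSemi.conjE _ M (sg _ u w hu hw) = sg _ u w hu hw := by
  refine conjE_eq fun v => ?_
  have e1 : polar (plusForm 4 F) u v = polar (plusForm 4 F) u (M.1 v) := by
    conv_rhs => rw [← h1]
    rw [h.polar]
  have e2 : polar (plusForm 4 F) w v = polar (plusForm 4 F) w (M.1 v) := by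
    conv_rhs => rw [← h2]
    rw [h.polar]
  rw [sg_apply, sg_apply, h.lin.sub, h.lin.sub, h.lin.add, h.smul, h.smul, h.smul, h1, h2, e1, e2]

theorem Fx0.conj_Dc (h : Fx0 M) (c : F) : _root_.Cfsg.Agent.ClassicalGeometry.OrthSemi.conjE _ M (Dc c) = Dc c :=
  conjE_sg h.toAu _ _ h.r0 (by rw [h.smul, h.r1])

theorem Fx0.conj_Zc (h : Fx0 M) (c : F) : _root_.Cfsg.Agent.ClassicalGeometry.OrthSemi.conjE _ M (Zc c) = Zc c :=
  conjE_sg h.toAu _ _ h.l1 (by rw [h.smul, h.one])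

theorem Uu.conj_Zc (h : Uu U) (c : F) : _root_.Cfsg.Agent.ClassicalGeometry.OrthSemi.conjE _ U (Zc c) = Zc c :=
  conjE_sg h.toAu _ _ h.l1 (by rw [h.smul, h.one])

theorem Fx0.conj_tor (h : Fx0 M) {s : F} (hs : s ≠ 0) : _root_.Cfsg.Agent.ClassicalGeometry.OrthSemi.conjE _ M (tor s) = tor s :=
  conjE_eq fun v => h.tor_comm hs v

theorem Uu.conj_tor (h : Uu U) {s : F} (hs : s ≠ 0) :
    tor s * _root_.Cfsg.Agent.ClassicalGeometry.OrthSemi.conjE _ U (tor s)⁻¹ = ec (s⁻¹ * s⁻¹ - 1) := by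
  refine ext_E fun v => ?_
  have hob_ := U.1.surjective v
  obtain ⟨w, rfl⟩ := hob_
  rw [coe_mul_apply, conjE_apply']
  obtain ⟨v, rfl⟩ := (tor s : V8 F ≃ₗ[F] V8 F).surjective w
  rw [coe_inv_apply, h.tor_comm hs]

theorem Zc_mul (c d : F) : Zc c * Zc d = Zc (c + d) := by
  rw [Zc, Zc, sg_mul q_l1 (p_l1one _) (p_l1one _) (by rw [← add_smul]; exact p_l1one _), Zc]
  exact sg_congr _ _ _ _ rfl (by rw [← add_smul]; congr 1; ring)

theorem Zc_inv (c : F) : (Zc c)⁻¹ = Zc (-c) := by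
  rw [inv_eq_iff_mul_eq_one, Zc_mul, add_neg_cancel, Zc]
  exact (sg_congr _ _ q_l1 (by simp) rfl (by simp)).trans (sg_zero _ _)

theorem Dc_inv (c : F) : (Dc c)⁻¹ = Dc (-c) := by
  rw [inv_eq_iff_mul_eq_one, Dc, Dc, sg_mul q_r0 (p_r01 _) (p_r01 _) (by rw [← add_smul]; exact p_r01 _)]
  exact (sg_congr _ _ q_r0 (by simp) rfl (by rw [← add_smul]; simp)).trans (sg_zero _ _)

theorem tor_Zc {s : F} (hs : s ≠ 0) (c : F) : tor s * Zc c = Zc c * tor s := by
  refine ext_E fun v => ?_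
  rw [coe_mul_apply, coe_mul_apply, tor_apply hs, tor_apply hs, Zc_apply, Zc_apply]
  (refine And.elim (fun cj1 => And.elim fun cj2 => And.elim fun cj3 => And.elim fun cj4 => And.elim fun cj5 => And.elim fun cj6 => And.elim fun cj7 cj8 => by apply ext8; exacts [cj1, cj2, cj3, cj4, cj5, cj6, cj7, cj8]) ?_; simp only [omul_l0, omul_l1, omul_l2, omul_l3, omul_r0, omul_r1, omul_r2, omul_r3, one8, _root_.Nat.succ_eq_add_one, _root_.Nat.reduceAdd, _root_.Cfsg.Agent.ClassicalGeometry.TrialityOct.one8, _root_.Fin.isValue, _root_.Cfsg.Agent.ClassicalGeometry.TrialityOct.omul_l0, _root_.Pi.add_apply, _root_.Sum.elim_inl, _root_.Matrix.cons_val_zero, _root_.Pi.smul_apply, _root_.ne_eq, _root_.Sum.inl.injEq, _root_.zero_ne_one, _root_.not_false_eq_true, _root_.Pi.single_eq_of_ne, _root_.smul_eq_mul, _root_.MulZeroClass.mul_zero, _root_.add_zero, _root_.one_mul, _root_.Matrix.cons_val_one, _root_.Pi.single_eq_same, _root_.mul_one, _root_.zero_add,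 _root_.Matrix.cons_val, _root_.Fin.reduceEq, _root_.MulZeroClass.zero_mul, _root_.Cfsg.Agent.ClassicalGeometry.TrialityOct.omul_l1, _root_.Sum.elim_inr, _root_.reduceCtorEq, _root_.sub_self, _root_.sub_zero, _root_.Cfsg.Agent.ClassicalGeometry.TrialityOct.omul_l2, _root_.Cfsg.Agent.ClassicalGeometry.TrialityOct.omul_l3, _root_.Cfsg.Agent.ClassicalGeometry.TrialityOct.omul_r2, _root_.zero_sub, _root_.sub_neg_eq_add, _root_.Cfsg.Agent.ClassicalGeometry.TrialityOct.omul_r3, _root_.Cfsg.Agent.ClassicalGeometry.TrialityOct.omul_r1, _root_.Cfsg.Agent.ClassicalGeometry.TrialityOct.omul_r0, and_self, and_true, true_and] <;> and_intros <;> ring)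

theorem Dc_ec (c d : F) : Dc c * ec d = ec d * Dc c := by
  refine ext_E fun v => ?_
  rw [coe_mul_apply, coe_mul_apply, Dc_apply, Dc_apply, ec_apply, ec_apply]
  (refine And.elim (fun cj1 => And.elim fun cj2 => And.elim fun cj3 => And.elim fun cj4 => And.elim fun cj5 => And.elim fun cj6 => And.elim fun cj7 cj8 => by apply ext8; exacts [cj1, cj2, cj3, cj4, cj5, cj6, cj7, cj8]) ?_; simp only [_root_.Fin.isValue, _root_.Pi.sub_apply, _root_.Pi.add_apply, _root_.Pi.smul_apply, _root_.ne_eq, _root_.reduceCtorEq, _root_.not_false_eq_true, _root_.Pi.single_eq_of_ne, _root_.smul_eq_mul, _root_.MulZeroClass.mul_zero, _root_.add_zero, _root_.sub_zero, _root_.Sum.inr.injEq, _root_.Fin.reduceEq, _root_.zero_ne_one, _root_.Pi.single_eq_same, _root_.mul_one, _root_.one_ne_zero, and_self, and_true, true_and])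

/-- the commutator -/
def La0 (F : Type*) [Field F] : ↥(E (plusForm 4 F)) := Dc 1 * Zc 3 * (Dc 1)⁻¹ * (Zc 3)⁻¹

seal _root_.Finset.sum in
theorem La0_apply (v : V8 F) : (La0 F : V8 F ≃ₗ[F] V8 F) v =
    Sum.elim ![4 * v (.inl 0) + 9 * v (.inr 1), 4 * v (.inl 1) - 9 * v (.inr 0), v (.inl 2), v (.inl 3)]
      ![7 * v (.inr 0) - 3 * v (.inl 1), 3 * v (.inl 0) + 7 * v (.inr 1), v (.inr 2), v (.inr 3)] := by
  have h : (La0 F : V8 F ≃ₗ[F] V8 F) v = (Dc (1 : F) : V8 F ≃ₗ[F] V8 F) ((Zc (3 : F) : V8 F ≃ₗ[F] V8 F)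
    ((((Dc (1 : F))⁻¹ : ↥(E (plusForm 4 F))) : V8 F ≃ₗ[F] V8 F)
      ((((Zc (3 : F))⁻¹ : ↥(E (plusForm 4 F))) : V8 F ≃ₗ[F] V8 F) v))) := rfl
  rw [h, Dc_inv, Zc_inv]
  simp only [Dc_apply, Zc_apply]
  (refine And.elim (fun cj1 => And.elim fun cj2 => And.elim fun cj3 => And.elim fun cj4 => And.elim fun cj5 => And.elim fun cj6 => And.elim fun cj7 cj8 => by apply ext8; exacts [cj1, cj2, cj3, cj4, cj5, cj6, cj7, cj8]) ?_; simp only [omul_l0, omul_l1, omul_l2, omul_l3, omul_r0, omul_r1, omul_r2, omul_r3, one8, _root_.Cfsg.Agent.ClassicalGeometry.TrialityOct.one8, _root_.Fin.isValue, _root_.neg_smul, _root_.Cfsg.Agent.ClassicalGeometry.TrialityOct.omul_l0, _root_.Pi.add_apply, _root_.Sum.elim_inl, _root_.Matrix.cons_val_zero, _root_.Pi.neg_apply, _root_.Pi.smul_apply, _root_.ne_eq, _root_.Sum.inl.injEq, _root_.zero_ne_one, _root_.not_false_eq_true, _root_.Pi.single_eq_of_ne, _root_.smul_eq_mul, _root_.MulZeroClass.mul_zero, _root_.neg_zero,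 _root_.add_zero, _root_.one_mul, _root_.Matrix.cons_val_one, _root_.Pi.single_eq_same, _root_.mul_one, _root_.zero_add, _root_.neg_mul, _root_.Matrix.cons_val, _root_.Fin.reduceEq, _root_.MulZeroClass.zero_mul, _root_.sub_neg_eq_add, _root_.Cfsg.Agent.ClassicalGeometry.TrialityOct.omul_l1, _root_.mul_neg, _root_.Sum.elim_inr, _root_.reduceCtorEq, _root_.sub_self, _root_.sub_zero, _root_.Cfsg.Agent.ClassicalGeometry.TrialityOct.omul_l2, _root_.Cfsg.Agent.ClassicalGeometry.TrialityOct.omul_l3, _root_.neg_add_rev, _root_.Cfsg.Agent.ClassicalGeometry.TrialityOct.omul_r2, _root_.Cfsg.Agent.ClassicalGeometry.TrialityOct.omul_r3, _root_.neg_neg, _root_.Pi.sub_apply, _root_.Cfsg.Agent.ClassicalGeometry.TrialityOct.omul_r1, _root_.Cfsg.Agent.ClassicalGeometry.TrialityOct.omul_r0, _root_.Sum.inr.injEq, _root_.one_ne_zero, _root_.zero_sub, _root_.Nat.succ_eq_add_one, _root_.Nat.reduceAdd, and_self, and_true, true_and] <;> and_intros <;> ring)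

/-- the matrix of `La0` on `⟨l₀, r₁⟩` -/
def gm (F : Type*) [Field F] : Matrix (Fin 2) (Fin 2) F := !![4, 9; 3, 7]

theorem La0_pow_apply (m : ℕ) (v : V8 F) :
    (gm F ^ m).mulVec ![v (.inl 0), v (.inr 1)] =
      ![((La0 F ^ m : ↥(E (plusForm 4 F))) : V8 F ≃ₗ[F] V8 F) v (.inl 0),
        ((La0 F ^ m : ↥(E (plusForm 4 F))) : V8 F ≃ₗ[F] V8 F) v (.inr 1)] := by
  induction m generalizing v with
  | zero =>
    rw [pow_zero, pow_zero, Matrix.one_mulVec]
    rfl
  | succ m ih =>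
    rw [pow_succ, pow_succ, coe_mul_apply, ← ih, ← Matrix.mulVec_mulVec]
    congr 1
    rw [La0_apply]
    ext i
    (revert i; simp only [gm, Matrix.mulVec, dotProduct, Fin.sum_univ_two, _root_.Fin.forall_fin_succ, _root_.Matrix.of_apply, _root_.Matrix.cons_val', _root_.Matrix.cons_val_fin_one, Fin.isValue, _root_.Matrix.cons_val_zero, _root_.Matrix.cons_val_one, _root_.Nat.succ_eq_add_one, Nat.reduceAdd, _root_.Sum.elim_inl, _root_.Sum.elim_inr, _root_.Matrix.cons_val_succ, _root_.implies_true, _root_.and_self])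

theorem La0_not_p {p : ℕ} [Fact p.Prime] [CharP F p] (h3 : (3 : F) ≠ 0) (k : ℕ)
    (h : La0 F ^ p ^ k = 1) : False := by
  have h1 : gm F ^ p ^ k = 1 := by
    have e : ∀ a b : F, (gm F ^ p ^ k).mulVec ![a, b] = ![a, b] := by
      intro a b
      have := La0_pow_apply (p ^ k) (Sum.elim ![a, 0, 0, 0] ![0, b, 0, 0] : V8 F)
      rw [h] at this
      simpa only [_root_.Matrix.mulVec_fin_two, _root_.Nat.succ_eq_add_one, _root_.Nat.reduceAdd, _root_.Fin.isValue, _root_.Matrix.cons_val_zero, _root_.Matrix.cons_val_one, _root_.Matrix.cons_val_fin_one, _root_.Matrix.vecCons_inj, _root_.and_true, _root_.Sum.elim_inl, _root_.Sum.elim_inr, _root_.OneMemClass.coe_one, _root_.LinearEquiv.coe_one, _root_.id_eq] using this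
    have e0 := e 1 0
    have e1 := e 0 1
    ext i j
    have f0 := congrFun e0 i
    have f1 := congrFun e1 i
    simp only [Matrix.mulVec, dotProduct, Fin.sum_univ_two] at f0 f1
    fin_cases j
    · fin_cases i <;> simpa only [_root_.Fin.zero_eta, _root_.Fin.isValue, _root_.Matrix.one_apply_eq, _root_.Matrix.cons_val_zero, _root_.mul_one, _root_.Matrix.cons_val_one, _root_.Matrix.cons_val_fin_one, _root_.MulZeroClass.mul_zero, _root_.add_zero, _root_.Nat.succ_eq_add_one, _root_.Nat.reduceAdd, _root_.Fin.mk_one, _root_.ne_eq, _root_.one_ne_zero, _root_.not_false_eq_true, _root_.Matrix.one_apply_ne] using f0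
    · fin_cases i <;> simpa using f1
  have h2 : (gm F - 1) ^ p ^ k = 0 := by
    rw [sub_pow_char_pow_of_commute (p := p) (h := Commute.one_right (gm F)), h1, one_pow, sub_self]
  have h4 : (gm F - 1).det = 0 := by
    have := congrArg Matrix.det h2
    rw [Matrix.det_pow, Matrix.det_zero] at this
    exact pow_eq_zero_iff (pow_ne_zero _ (Fact.out : p.Prime).ne_zero) |>.1 this
  have h5 : (gm F - 1).det = -(3 * 3) := by
    rw [Matrix.det_fin_two]
    simp [gm]
    norm_num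
  rw [h5, neg_eq_zero] at h4
  exact h3 (mul_self_eq_zero.1 h4)

end conj

section grp

variable {F : Type} [Field F] {G Ω : Type} [Group G] [MulAction G Ω] {N : Subgroup G} {σ : P8 F →* G}

/-- the lifts of elements of `N` -/
theorem conj_of_eq {M : G8 F} {t : ↥(E (plusForm 4 F))} (h : ∀ v, M.1 v = (t : V8 F ≃ₗ[F] V8 F) v) :
    La σ (up σ t) (Psi _ M) := by
  rw [La.lf]
  have h1 : M = tg _ t := Subtype.ext (Equiv.ext h)
  rw [h1]
  exact Lf.tg t

theorem norm_b (F : Type*) [Field F] : plusForm 4 F (one8 F + (1 : F) • bs (.inl 1)) = 1 := by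
  rw [norm8]; simp [one8]

theorem norm_b_ne (F : Type*) [Field F] : plusForm 4 F (one8 F + (1 : F) • bs (.inl 1)) ≠ 0 := by
  rw [norm_b]; exact one_ne_zero

/-- the identities `b ρ(b) = l`, `ρ(b) b = l` -/
theorem bG_mul (a : V8 F) (ha : plusForm 4 F a ≠ 0) (h1 : plusForm 4 F a = 1) :
    bG a ha * (kapG F * lG a ha * kapG F) = lG a ha := by
  apply Subtype.ext
  ext1 x
  simp only [Subgroup.coe_mul, Equiv.Perm.mul_apply, H198.TriBase.bG_apply, H198.TriBase.lG_apply, H198.TriBase.rG_apply,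
    H198.TriBase.kapG_apply, H93.RC.tg_apply]
  rw [oconj_omul, oconj_oconj]
  have e : omul (omul a (omul x (oconj a))) a = plusForm 4 F a • omul a x := by coord8
  rw [e, h1, one_smul]

theorem mul_bG (a : V8 F) (ha : plusForm 4 F a ≠ 0) (h1 : plusForm 4 F a = 1) :
    (kapG F * lG a ha * kapG F) * bG a ha = lG a ha := by
  apply Subtype.ext
  ext1 x
  simp only [Subgroup.coe_mul, Equiv.Perm.mul_apply, H198.TriBase.bG_apply, H198.TriBase.lG_apply, H198.TriBase.rG_apply,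
    H198.TriBase.kapG_apply, H93.RC.tg_apply]
  rw [oconj_omul, oconj_oconj]
  have e : omul (omul (omul a x) a) (oconj a) = plusForm 4 F a • omul a x := by coord8
  rw [e, h1, one_smul]

/-- **Step 1**: `x₁` is replaced by `Zc 3`. -/
theorem step1 {ι : Type} [DecidableEq ι] [Finite F] (hG : Good (plusForm 4 F)) (hE : Env G Ω N)
    (hσ : Rp (plusForm 4 F) N σ) {x : ι → G} (hc : ∀ i j, x i * x j = x j * x i) (hcov : Cov Ω x) {i₁ : ι}
    (h1 : La σ (x i₁) (rho hG)) (hZ : ∀ j, j ≠ i₁ → up σ (Zc 1) * x j = x j * up σ (Zc 1)) :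
    Cov Ω (Function.update x i₁ (up σ (Zc 3))) := by
  set a : V8 F := one8 F + (1 : F) • bs (.inl 1) with ha
  have hn : plusForm 4 F a = 1 := norm_b F
  have hne : plusForm 4 F a ≠ 0 := norm_b_ne F
  set b := up σ (Zc 1) with hb
  have lb : La σ b (Psi _ (bG a hne)) := conj_of_eq fun v => (Zc_apply 1 v).symm
  have lb1 : La σ (x i₁ * b * (x i₁)⁻¹) (Psi _ (kapG F * lG a hne * kapG F)) := by
    have := (h1.mul lb).mul h1.inv
    rwa [rho_conj hG (tri_bG a hne)] at this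
  have lb2 : La σ (x i₁ * (x i₁ * b * (x i₁)⁻¹) * (x i₁)⁻¹) (Psi _ (lG a hne)⁻¹) := by
    have := (h1.mul lb1).mul h1.inv
    rw [rho_conj hG (tri_lG a hne).kap] at this
    have e : kapG F * (kapG F * (lG a hne)⁻¹ * kapG F) * kapG F = (lG a hne)⁻¹ := by
      calc kapG F * (kapG F * (lG a hne)⁻¹ * kapG F) * kapG F
          = (kapG F * kapG F) * (lG a hne)⁻¹ * (kapG F * kapG F) := by group
        _ = _ := by rw [kapG_mul_kapG, one_mul, mul_one]
    (simp only [e] at this; assumption)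
  have hcomm : b * (x i₁ * b * (x i₁)⁻¹) = x i₁ * b * (x i₁)⁻¹ * b := by
    have e1 := lb.mul lb1
    have e2 := lb1.mul lb
    simp only [← map_mul, bG_mul a hne hn] at e1
    simp only [← map_mul, mul_bG a hne hn] at e2
    exact La.eq hE hσ e1 e2
  have hthree : b * (x i₁ * b * (x i₁)⁻¹) * (x i₁ * (x i₁ * b * (x i₁)⁻¹) * (x i₁)⁻¹) = 1 := by
    have e1 := (lb.mul lb1).mul lb2
    simp only [← map_mul, bG_mul a hne hn, ← map_mul, mul_inv_cancel, map_one] at e1
    exact La.eq hE hσ e1 La.one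
  have h3 := mv_cube hcov hZ (hc i₁) rfl hcomm hthree
  have e3 : b ^ 3 = up σ (Zc 3) := by
    rw [hb, ← map_pow, pow_three, Zc_mul, Zc_mul]
    norm_num
  rwa [e3] at h3

theorem comm_of_fix {y : G} {M : G8 F} (h : Lf (up σ) y M) {t : ↥(E (plusForm 4 F))} (ht : _root_.Cfsg.Agent.ClassicalGeometry.OrthSemi.conjE _ M t = t) :
    up σ t * y = y * up σ t := by
  have h1 := h t
  rw [ht, mul_inv_eq_iff_eq_mul] at h1
  exact h1.symm

theorem La0_H1 {v : V8 F} (hv : v ∈ H1 F) (k : ℕ) : ((La0 F ^ k : ↥(E (plusForm 4 F))) : V8 F ≃ₗ[F] V8 F) v = v := by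
  induction k with
  | zero => rfl
  | succ k ih =>
    rw [pow_succ, coe_mul_apply]
    have : (La0 F : V8 F ≃ₗ[F] V8 F) v = v := by
      obtain ⟨h0, h1, k0, k1⟩ := hv
      rw [La0_apply]
      apply ext8 <;> simp [h0, h1, k0, k1]
    rw [this, ih]

theorem mem_span {c : F} (hc : c ≠ 0) {v : V8 F} :
    v ∈ Submodule.span F {(bs (.inr 2) : V8 F), c • bs (.inr 3)} ↔ WR F v := by
  rw [Submodule.mem_span_pair]
  constructor
  · rintro ⟨a, b, rfl⟩
    refine ⟨?_, ?_, ?_, ?_, ?_, ?_⟩ <;> simp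
  · rintro ⟨h0, h1, k0, k1, k2, k3⟩
    refine ⟨v (.inr 2), v (.inr 3) * c⁻¹, ?_⟩
    apply ext8 <;> simp [h0, h1, k0, k1, k2, k3]
    field_simp

theorem La0_order (hG : Good (plusForm 4 F)) (hσ : Rp (plusForm 4 F) N σ) {m : ℕ}
    (h : up σ (La0 F) ^ m = 1) : La0 F ^ m = 1 := by
  rw [← map_pow] at h
  have h1 : La0 F ^ m ∈ (up σ).ker := h
  rw [hσ.rep.ker] at h1
  obtain ⟨c, hc⟩ := center_scalar hG h1
  have h2 := hc (bs (.inl 2))
  rw [La0_H1 ⟨by simp, by simp, by simp, by simp⟩] at h2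
  have h3 := congrFun h2 (.inl 2)
  have h4 : c = 1 := by simpa using h3.symm
  refine ext_E fun v => ?_
  rw [hc, h4, one_smul]
  rfl

/-- **box iD in normal form** -/
theorem box_normal [Finite F] [Finite G] [Nonempty Ω] (hG : Good (plusForm 4 F)) (hE : Env G Ω N)
    (hσ : Rp (plusForm 4 F) N σ) {p : ℕ} [CharP F p] (hp3 : (3 : F) ≠ 0)
    {ι : Type} [Finite ι] [DecidableEq ι] {x : ι → G} {r : ι → ℕ} (hr : ∀ i, (r i).Prime)
    (hx : ∀ i, x i ^ r i = 1) (hx1 : ∀ i, x i ≠ 1) (hc : ∀ i j, x i * x j = x j * x i) (hcov : Cov Ω x)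
    {i₁ i₂ : ι} (h12 : i₂ ≠ i₁) (h1 : La σ (x i₁) (rho hG)) {M : ι → G8 F}
    (hl : ∀ j, j ≠ i₁ → Lf (up σ) (x j) (M j)) (hU : Uu (M i₂))
    (hM : ∀ j, j ≠ i₁ → j ≠ i₂ → Fx0 (M j)) (hrp : ∀ j, j ≠ i₁ → j ≠ i₂ → r j ≠ p)
    {s : F} (hs : s ≠ 0) (hs2 : s * s ≠ 1) : False := by
  have hpf : Fact p.Prime := ⟨CharP.char_is_prime F p⟩
  -- step 1
  have c1 := step1 hG hE hσ hc hcov h1 (fun j hj => comm_of_fix (hl j hj) (by
    by_cases hj2 : j = i₂
    · subst hj2
      exact hU.conj_Zc 1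
    · exact (hM j hj hj2).conj_Zc 1))
  -- step 2
  have c2 := c1.mv_comm i₂ (c := up σ (tor s)) (by
    intro j hj
    by_cases hj1 : j = i₁
    · subst hj1
      rw [Function.update_self, ← map_mul, tor_Zc hs, map_mul]
    · rw [Function.update_of_ne hj1]
      exact comm_of_fix (hl j hj1) ((hM j hj1 hj).conj_tor hs))
  rw [Function.update_of_ne h12] at c2
  have e2 : up σ (tor s) * x i₂ * (up σ (tor s))⁻¹ * (x i₂)⁻¹ = up σ (ec (s⁻¹ * s⁻¹ - 1)) := by
    simp only [← hU.conj_tor hs, map_mul (up σ) (tor s) (((ClassicalGeometry.OrthSemi.conjE (plusForm 4 F)) (M i₂)) (tor s)⁻¹), ← hl i₂ h12 ((tor s)⁻¹), map_inv (up σ) (tor s)]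
    group
  rw [e2] at c2
  set c0 : F := s⁻¹ * s⁻¹ - 1 with hc0
  have hc0' : c0 ≠ 0 := by
    intro h
    apply hs2
    have : s⁻¹ * s⁻¹ = 1 := by linear_combination h
    have h3 : s * s * (s⁻¹ * s⁻¹) = 1 := by field_simp
    rwa [this, mul_one] at h3
  -- step 3
  have c3 := c2.mv_comm i₁ (c := up σ (Dc 1)) (by
    intro j hj
    by_cases hj2 : j = i₂
    · subst hj2
      rw [Function.update_self, ← map_mul, Dc_ec, map_mul]
    · rw [Function.update_of_ne hj2, Function.update_of_ne hj]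
      exact comm_of_fix (hl j hj) ((hM j hj hj2).conj_Dc 1))
  rw [Function.update_of_ne h12.symm, Function.update_self] at c3
  have e3 : up σ (Dc 1) * up σ (Zc 3) * (up σ (Dc 1))⁻¹ * (up σ (Zc 3))⁻¹ = up σ (La0 F) := by
    simp only [La0, map_mul, map_mul, map_mul, map_inv, map_inv]
  rw [e3] at c3
  -- the prime `ℓ`
  set y := up σ (La0 F) with hy
  set m := orderOf y with hm
  have hm0 : m ≠ 0 := (orderOf_pos y).ne'
  obtain ⟨l, hlp, hlm, hlne⟩ : ∃ l : ℕ, l.Prime ∧ l ∣ m ∧ l ≠ p := by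
    by_contra hcon
    push Not at hcon
    have h2 := Nat.eq_prime_pow_of_unique_prime_dvd hm0 (p := p) fun {d} hd hdm => hcon d hd hdm
    have h3 : La0 F ^ m = 1 := La0_order hG hσ (pow_orderOf_eq_one y)
    rw [h2] at h3
    exact La0_not_p hp3 _ h3
  set k := m / l with hk
  have hkl : k * l = m := Nat.div_mul_cancel hlm
  have hkm : k < m := Nat.div_lt_self (Nat.pos_of_ne_zero hm0) hlp.one_lt
  have hk0 : k ≠ 0 := by
    rintro h
    rw [h, zero_mul] at hkl
    exact hm0 hkl.symm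
  -- the long root rule
  have hq3 : polar (plusForm 4 F) (bs (.inr 2)) (c0 • bs (.inr 3)) = 0 := p_r23 c0
  refine H297.RC.box_LR hG hE hσ.rep (p := p) (ι := Option {j // j ≠ i₁ ∧ j ≠ i₂})
    (y := fun o => Option.elim o (y ^ k) fun j => x j)
    (M := fun o => Option.elim o (tg _ (La0 F ^ k)) fun j => M j)
    (r := fun o => Option.elim o l fun j => r j) ?_ ?_ ?_ ?_ ?_ ?_ q_r2 (w := c0 • bs (.inr 3)) ?_ hq3 ?_ ?_ ?_ ?_
  · rintro (_ | j)
    · change Lf (up σ) (y ^ k) (tg _ (La0 F ^ k))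
      rw [hy, ← map_pow]
      exact Lf.tg _
    · exact hl j j.2.1
  · rintro (_ | j)
    · exact hlp
    · exact hr j
  · rintro (_ | j)
    · exact hlne
    · exact hrp j j.2.1 j.2.2
  · rintro (_ | j)
    · change (y ^ k) ^ l = 1
      rw [← pow_mul, hkl]
      exact pow_orderOf_eq_one y
    · exact hx j
  · rintro (_ | j)
    · exact pow_ne_one_of_lt_orderOf hk0 hkm
    · exact hx1 j
  · have key : ∀ j : {j // j ≠ i₁ ∧ j ≠ i₂}, y ^ k * x j = x j * y ^ k := by
      intro j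
      have h2 : _root_.Cfsg.Agent.ClassicalGeometry.OrthSemi.conjE _ (M j) (La0 F) = La0 F := by
        simp only [La0, map_mul, map_mul, map_mul, map_inv, map_inv, (hM j j.2.1 j.2.2).conj_Dc,
          (hM j j.2.1 j.2.2).conj_Zc]
      have h3 : Commute y (x j) := comm_of_fix (hl j j.2.1) h2
      exact (h3.pow_left k).eq
    rintro (_ | i) (_ | j)
    · rfl
    · exact key j
    · exact (key i).symm
    · exact hc i j
  · rw [norm8]; simp
  · intro h
    have := congrFun h (.inr 2)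
    simp at this
  · intro a h
    have := congrFun h (.inr 3)
    simp at this
    exact hc0' this
  · rintro (_ | j) v hv
    · change ((La0 F ^ k : ↥(E (plusForm 4 F))) : V8 F ≃ₗ[F] V8 F) v ∈ _
      rw [mem_span hc0'] at hv
      obtain ⟨h0, h1, k0, k1, -, -⟩ := id hv
      rw [La0_H1 ⟨h0, h1, k0, k1⟩]
      exact (mem_span hc0').2 hv
    · rw [mem_span hc0'] at hv ⊢
      exact (hM j j.2.1 j.2.2).wr hv
  · intro ω
    obtain ⟨i, hi⟩ := c3 ω
    by_cases hi1 : i = i₁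
    · subst hi1
      rw [Function.update_self] at hi
      right
      refine ⟨none, ?_⟩
      change y ^ k • ω = ω
      have : y ∈ stabilizer G ω := hi
      exact (stabilizer G ω).pow_mem this k
    · rw [Function.update_of_ne hi1] at hi
      by_cases hi2 : i = i₂
      · subst hi2
        rw [Function.update_self] at hi
        left
        exact hi
      · rw [Function.update_of_ne hi2, Function.update_of_ne hi1] at hi
        right
        exact ⟨some ⟨i, hi1, hi2⟩, hi⟩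

end grp

end Cfsg.Agent.H237.RC.ID
end

-- part: H237/RC/IDSmall
section
/-!
# S3510, triality type (i), box iD: the field has at least four elements
-/

set_option autoImplicit false
open Cfsg

namespace Cfsg.Agent.H237.RC.ID

open Module QuadraticMap Cfsg.Agent.LieClassical.OrthCore Cfsg.Agent.LieClassical.OrthTrans
  Cfsg.Agent.ClassicalGeometry.OrthSemi Cfsg.Agent.LieClassical.QuadForms
  Cfsg.Agent.ClassicalGeometry.TrialityOct Cfsg.Agent.ClassicalGeometry.Triality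
  Cfsg.Agent.H198.TriBase Cfsg.Agent.H752.SemiNormal

variable {F : Type*} [Field F]

theorem fix_of_small (hF : Nat.card F = 2) {M : G8 F} {r : ℕ} (hr : r.Prime) (h5 : 5 ≤ r) (hMr : M ^ r = 1)
    (P : V8 F → Prop) (hP : ∀ v, P v → P (M.1 v)) (f : {v // P v} → F × F) (hf : Function.Injective f) :
    ∀ v, P v → M.1 v = v := by
  have : Finite F := Nat.finite_of_card_ne_zero (by omega)
  have hfin : Finite {v // P v} := Finite.of_injective f hf
  have hcard : Nat.card {v // P v} ≤ 4 := by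
    have h1 := Nat.card_le_card_of_injective f hf
    rw [Nat.card_prod, hF] at h1
    exact h1
  have hPk : ∀ (k : ℕ) v, P v → P ((M ^ k).1 v) := by
    intro k
    induction k with
    | zero => intro v hv; exact hv
    | succ k ih =>
      intro v hv
      rw [pow_succ]
      exact ih _ (hP v hv)
  let s : Equiv.Perm {v // P v} := Equiv.Perm.subtypePerm M.1 fun v => ⟨fun h => by
    have h1 := hPk (r - 1) _ h
    have h2 : (M ^ (r - 1)).1 (M.1 v) = v := by
      have h3 : (M ^ (r - 1) * M).1 v = v := by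
        rw [← pow_succ, Nat.sub_add_cancel hr.one_le, hMr]
        rfl
      exact h3
    rwa [h2] at h1, hP v⟩
  have hsk : ∀ (k : ℕ) (v : {v // P v}), ((s ^ k) v : V8 F) = (M ^ k).1 v := by
    intro k
    induction k with
    | zero => intro v; rfl
    | succ k ih =>
      intro v
      rw [pow_succ, pow_succ]
      change ((s ^ k) (s v) : V8 F) = (M ^ k).1 (M.1 v)
      rw [ih]
      rfl
  have hsr : s ^ r = 1 := by
    ext1 v
    apply Subtype.ext
    rw [hsk, hMr]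
    rfl
  have hs1 : s = 1 := by
    rw [← orderOf_eq_one_iff]
    have h1 : orderOf s ∣ r := orderOf_dvd_of_pow_eq_one hsr
    rcases (Nat.dvd_prime hr).1 h1 with h2 | h2
    · exact h2
    · exfalso
      have h3 : orderOf s ∣ Nat.card (Equiv.Perm {v // P v}) := orderOf_dvd_natCard s
      rw [Nat.card_perm, h2, hr.dvd_factorial] at h3
      omega
  intro v hv
  have h1 := hsk 1 ⟨v, hv⟩
  rw [pow_one, pow_one, hs1] at h1
  exact h1.symm

theorem exists_s [Finite F] {p : ℕ} [CharP F p] (h3 : (3 : F) ≠ 0) {M : G8 F} (h : Fx0 M) {r : ℕ}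
    (hr : r.Prime) (hr3 : r ≠ 3) (hrp : r ≠ p) (hMr : M ^ r = 1) (hM1 : M ≠ 1) :
    ∃ s : F, s ≠ 0 ∧ s * s ≠ 1 := by
  by_contra hcon
  push Not at hcon
  have h2 : (2 : F) = 0 := by
    by_contra h2
    apply h3
    linear_combination hcon 2 h2
  have hp2 : p = 2 := by
    have h4 : ((2 : ℕ) : F) = 0 := by exact_mod_cast h2
    rw [CharP.cast_eq_zero_iff F p] at h4
    exact (Nat.prime_dvd_prime_iff_eq (CharP.char_is_prime F p) Nat.prime_two).1 h4
  have h5 : 5 ≤ r := by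
    have e1 : r ≠ 2 := fun h => hrp (by rw [h, hp2])
    have e4 : r ≠ 4 := by
      rintro rfl
      revert hr
      decide
    have := hr.two_le
    omega
  have hone : ∀ a : F, a = 0 ∨ a = 1 := by
    intro a
    by_cases ha : a = 0
    · exact Or.inl ha
    · right
      have e1 := hcon a ha
      have e2 : (a - 1) * (a - 1) = 0 := by linear_combination e1 - h2 * a + h2
      exact sub_eq_zero.1 (mul_self_eq_zero.1 e2)
  have hF : Nat.card F = 2 := by
    classical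
    rw [Nat.card_eq_two_iff]
    refine ⟨0, 1, zero_ne_one, ?_⟩
    ext a
    simp only [Set.mem_insert_iff, Set.mem_singleton_iff, Set.mem_univ, iff_true]
    exact hone a
  apply hM1
  have e1 : ∀ v, WL F v → M.1 v = v := fix_of_small hF hr h5 hMr (WL F) (fun v hv => h.wl hv)
    (fun v => (v.1 (.inl 2), v.1 (.inl 3))) (by
      rintro ⟨v, h0, h1, k0, k1, k2, k3⟩ ⟨w, h0', h1', k0', k1', k2', k3'⟩ e
      rw [Prod.mk.injEq] at e
      apply Subtype.ext
      exact ext8 (h0.trans h0'.symm) (h1.trans h1'.symm) e.1 e.2 (k0.trans k0'.symm) (k1.trans k1'.symm)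
        (k2.trans k2'.symm) (k3.trans k3'.symm))
  have e2 : ∀ v, WR F v → M.1 v = v := fix_of_small hF hr h5 hMr (WR F) (fun v hv => h.wr hv)
    (fun v => (v.1 (.inr 2), v.1 (.inr 3))) (by
      rintro ⟨v, h0, h1, k0, k1, k2, k3⟩ ⟨w, h0', h1', k0', k1', k2', k3'⟩ e
      rw [Prod.mk.injEq] at e
      apply Subtype.ext
      exact ext8 (h0.trans h0'.symm) (h1.trans h1'.symm) (k2.trans k2'.symm) (k3.trans k3'.symm)
        (k0.trans k0'.symm) (k1.trans k1'.symm) e.1 e.2)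
  apply Subtype.ext
  ext1 v
  change M.1 v = v
  conv_lhs => rw [decomp3 v]
  rw [h.lin.add, h.lin.add, h.map_pH, e1 _ (wl_pL v), e2 _ (wr_pR v), ← decomp3 v]

end Cfsg.Agent.H237.RC.ID
end

-- part: H237/RC/IDFin
section
/-!
# S3510, triality type (i), box iD: reduction to the normal form
-/

set_option autoImplicit false
open Cfsg

namespace Cfsg.Agent.H237.RC.ID

open Module QuadraticMap MulAction Cfsg.Agent.LieClassical.OrthCore Cfsg.Agent.LieClassical.OrthTrans
  Cfsg.Agent.LieClassical.OrthSimple Cfsg.Agent.ClassicalGeometry.OrthAut1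
  Cfsg.Agent.ClassicalGeometry.OrthSemi Cfsg.Agent.LieClassical.QuadForms
  Cfsg.Agent.ClassicalGeometry.TrialityOct Cfsg.Agent.ClassicalGeometry.Triality
  Cfsg.Agent.H198.TriBase Cfsg.Agent.H198.TriAut Cfsg.Agent.H752.SemiNormal Cfsg.Agent.AutOrth.SemiSim
  Cfsg.Agent.H106.RC Cfsg.Agent.H93.RC Cfsg.Agent.H566.RC

theorem au_of {F : Type*} [Field F] {M : G8 F} (h : TriS M M M) (hl : H198.TriDia.IsLin M) : Au M := by
  obtain ⟨c, hc⟩ := hl
  have h1 := H198.TriDia.aut_mult h hc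
  subst h1
  exact ⟨h, hc⟩

theorem Au.mulG {F : Type*} [Field F] {M L : G8 F} (h : Au M) (h' : Au L) : Au (M * L) := by
  refine ⟨h.tri.mul h'.tri, ?_⟩
  have h1 := h.lin.mul h'.lin
  have e1 : (1 : F) * (RingEquiv.refl F) 1 = 1 := by simp
  rw [e1] at h1
  exact h1

theorem Au.invG {F : Type*} [Field F] {M : G8 F} (h : Au M) : Au M⁻¹ := by
  refine ⟨h.tri.inv, ?_⟩
  have h1 := h.lin.inv
  have e1 : (RingEquiv.refl F).symm (1 : F)⁻¹ = 1 := by simp
  rw [e1] at h1
  exact h1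

/-- lifts of commuting elements which are automorphisms commute -/
theorem comm_aut {F : Type} [Field F] {G : Type} [Group G] {N : Subgroup G} {σ : P8 F →* G}
    (hG : Good (plusForm 4 F)) (hσ : Rp (plusForm 4 F) N σ) {x y : G} {M L : G8 F} (h : Au M) (h' : Au L)
    (hx : Lf (up σ) x M) (hy : Lf (up σ) y L) (hxy : x * y = y * x) (v : V8 F) : M.1 (L.1 v) = L.1 (M.1 v) := by
  obtain ⟨a, ha, h1⟩ := hx.comm hG hσ.rep hy hxy
  have h2 := h1 (one8 F)
  rw [h'.one, h.one, h'.one] at h2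
  have h3 := congrFun h2 (.inl 0)
  have h4 : a = 1 := by simpa [one8] using h3.symm
  rw [h1, h4, one_smul]

variable {F G Ω : Type} [Field F] [Finite F] [Group G] [Finite G] [MulAction G Ω] [Nonempty Ω]
  {N : Subgroup G} {σ : P8 F →* G}

/-- reduction to the normal form -/
theorem box_iD_of (hG : Good (plusForm 4 F)) (hE : Env G Ω N)
    (hσ : Rp (plusForm 4 F) N σ) {p : ℕ} [CharP F p] (hp3 : p ≠ 3)
    {ι : Type} [Finite ι] [DecidableEq ι] {x : ι → G} {r : ι → ℕ} (hr : ∀ i, (r i).Prime)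
    (hx : ∀ i, x i ^ r i = 1) (hx1 : ∀ i, x i ≠ 1) (hc : ∀ i j, x i * x j = x j * x i) (hcov : Cov Ω x)
    {i₁ i₂ : ι} (h12 : i₂ ≠ i₁) (h1 : La σ (x i₁) (rho hG)) {M : ι → G8 F}
    (hl : ∀ j, j ≠ i₁ → Lf (up σ) (x j) (M j)) (hT : ∀ j, j ≠ i₁ → TriS (M j) (M j) (M j))
    (hL : ∀ j, j ≠ i₁ → H198.TriDia.IsLin (M j)) (hMr : ∀ j, j ≠ i₁ → M j ^ r j = 1)
    (hrp : ∀ j, j ≠ i₁ → j ≠ i₂ → r j ≠ p)
    (hr3 : ∀ j, j ≠ i₁ → j ≠ i₂ → r j ≠ 3) (A : Submodule F (V8 F))
    (hA : ∀ v, v ∈ A ↔ ∀ j, j ≠ i₁ → j ≠ i₂ → (M j).1 v = v) (hA4 : finrank F A = 4)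
    {φ : G8 F} (hφ : Au φ) (hφA : ∀ v, φ.1 v ∈ H0 F ↔ v ∈ A)
    (hφ0 : φ.1 ((M i₂).1 (φ⁻¹.1 (bs (.inl 0)))) = bs (.inl 0) - bs (.inl 1))
    (hφ1 : φ.1 ((M i₂).1 (φ⁻¹.1 (bs (.inl 1)))) = bs (.inl 1)) : False := by
  have h3 : (3 : F) ≠ 0 := by
    intro h
    have h1 : ((3 : ℕ) : F) = 0 := by exact_mod_cast h
    rw [CharP.cast_eq_zero_iff F p] at h1
    exact hp3 ((Nat.prime_dvd_prime_iff_eq (CharP.char_is_prime F p) Nat.prime_three).1 h1)
  have hMa : ∀ j, j ≠ i₁ → Au (M j) := fun j hj => au_of (hT j hj) (hL j hj)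
  have hinv : ∀ v, φ.1 (φ⁻¹.1 v) = v := fun v => φ.1.apply_symm_apply v
  have hinv' : ∀ v, φ⁻¹.1 (φ.1 v) = v := fun v => φ.1.symm_apply_apply v
  have hmem : ∀ v ∈ H0 F, φ⁻¹.1 v ∈ A := fun v hv => (hφA _).1 (by rwa [hinv])
  -- the new lifts
  have hap : ∀ j v, (φ * M j * φ⁻¹).1 v = φ.1 ((M j).1 (φ⁻¹.1 v)) := fun j v => rfl
  have hfx : ∀ j, j ≠ i₁ → j ≠ i₂ → ∀ v ∈ H0 F, (φ * M j * φ⁻¹).1 v = v := by
    intro j hj1 hj2 v hv
    rw [hap, (hA _).1 (hmem v hv) j hj1 hj2, hinv]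
  have hau : ∀ j, j ≠ i₁ → Au (φ * M j * φ⁻¹) := fun j hj => (hφ.mulG (hMa j hj)).mulG hφ.invG
  have hFx : ∀ j, j ≠ i₁ → j ≠ i₂ → Fx0 (φ * M j * φ⁻¹) := by
    intro j hj1 hj2
    exact ⟨hau j hj1, hfx j hj1 hj2 _ ⟨by simp, by simp, by simp, by simp⟩,
      hfx j hj1 hj2 _ ⟨by simp, by simp, by simp, by simp⟩, hfx j hj1 hj2 _ ⟨by simp, by simp, by simp, by simp⟩,
      hfx j hj1 hj2 _ ⟨by simp, by simp, by simp, by simp⟩⟩
  have hUA : ∀ v ∈ A, (M i₂).1 v ∈ A := by
    intro v hv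
    rw [hA]
    intro j hj1 hj2
    rw [comm_aut hG hσ (hMa j hj1) (hMa i₂ h12) (hl j hj1) (hl i₂ h12) (hc j i₂), (hA v).1 hv j hj1 hj2]
  have hUu : Uu (φ * M i₂ * φ⁻¹) := by
    refine ⟨hau i₂ h12, hφ1, hφ0, ?_⟩
    intro v hv
    rw [hap, hφA]
    exact hUA _ (hmem v hv)
  -- change of `σ`
  obtain ⟨σ', hσ', hch⟩ := hσ.change (Psi _ φ)
  have h1' : La σ' (x i₁) (rho hG) := by
    have := hch _ _ h1
    simp only [← H198.TriDia.rho_comm hG hφ.tri, mul_inv_cancel_right] at this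
    exact this
  have hl' : ∀ j, j ≠ i₁ → Lf (up σ') (x j) (φ * M j * φ⁻¹) := by
    intro j hj
    rw [← La.lf]
    have := hch _ _ (La.lf.2 (hl j hj))
    (simp only [← map_mul, ← map_inv, ← map_mul] at this; assumption)
  -- a member `j₀`
  obtain ⟨j₀, hj1, hj2⟩ : ∃ j, j ≠ i₁ ∧ j ≠ i₂ := by
    by_contra hcon
    push Not at hcon
    have hAt : A = ⊤ := by
      rw [eq_top_iff]
      rintro v -
      rw [hA]
      intro j hj1 hj2
      exact (hj2 (hcon j hj1)).elim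
    rw [hAt, finrank_top, Module.finrank_fintype_fun_eq_card] at hA4
    simp at hA4
  obtain ⟨s, hs, hs2⟩ := exists_s (p := p) h3 (hFx j₀ hj1 hj2) (hr j₀) (hr3 j₀ hj1 hj2) (hrp j₀ hj1 hj2)
    (by rw [conj_pow, hMr j₀ hj1, mul_one, mul_inv_cancel])
    (by
      intro h
      apply hx1 j₀
      rw [(hl' j₀ hj1).eq_one_iff hG hE hσ'.rep]
      refine ⟨1, one_ne_zero, fun v => ?_⟩
      rw [h, one_smul]
      rfl)
  exact box_normal hG hE hσ' (p := p) h3 hr hx hx1 hc hcov h12 h1' hl' hUu hFx hrp hs hs2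

end Cfsg.Agent.H237.RC.ID
end

-- part: H237/RC/IDBox
section
/-!
# S3510, triality type (i): box iD
-/

set_option autoImplicit false
open Cfsg

namespace Cfsg.Agent.H237.RC.ID

open Module QuadraticMap MulAction Cfsg.Agent.LieClassical.OrthCore Cfsg.Agent.LieClassical.OrthTrans
  Cfsg.Agent.LieClassical.OrthSimple Cfsg.Agent.ClassicalGeometry.OrthAut1
  Cfsg.Agent.ClassicalGeometry.OrthSemi Cfsg.Agent.LieClassical.QuadForms
  Cfsg.Agent.ClassicalGeometry.TrialityOct Cfsg.Agent.ClassicalGeometry.Triality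
  Cfsg.Agent.H198.TriBase Cfsg.Agent.H198.TriAut Cfsg.Agent.H752.SemiNormal Cfsg.Agent.AutOrth.SemiSim
  Cfsg.Agent.H106.RC Cfsg.Agent.H93.RC Cfsg.Agent.H566.RC

/-- **BOX iD** (`x i₁ = ρ`, `u = x i₂` of order `p ≠ 3`, the other members have a common fixed space of
dimension four on which `u` is not trivial). -/
theorem box_iD {F G Ω : Type} [Field F] [Finite F] [Group G] [Finite G] [MulAction G Ω] [Nonempty Ω]
    {N : Subgroup G} {σ : P8 F →* G} (hG : Good (plusForm 4 F)) (hE : Env G Ω N)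
    (hσ : Rp (plusForm 4 F) N σ) {p : ℕ} [CharP F p] (hp3 : p ≠ 3)
    {ι : Type} [Finite ι] [DecidableEq ι] {x : ι → G} {r : ι → ℕ} (hr : ∀ i, (r i).Prime)
    (hx : ∀ i, x i ^ r i = 1) (hx1 : ∀ i, x i ≠ 1) (hc : ∀ i j, x i * x j = x j * x i) (hcov : Cov Ω x)
    {i₁ i₂ : ι} (h12 : i₂ ≠ i₁) (h1 : La σ (x i₁) (rho hG)) {M : ι → G8 F}
    (hl : ∀ j, j ≠ i₁ → Lf (up σ) (x j) (M j)) (hT : ∀ j, j ≠ i₁ → TriS (M j) (M j) (M j))
    (hL : ∀ j, j ≠ i₁ → H198.TriDia.IsLin (M j)) (hMr : ∀ j, j ≠ i₁ → M j ^ r j = 1) (hi₂ : r i₂ = p)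
    (hrp : ∀ j, j ≠ i₁ → j ≠ i₂ → r j ≠ p) (hr3 : ∀ j, j ≠ i₁ → j ≠ i₂ → r j ≠ 3) (A : Submodule F (V8 F))
    (hA : ∀ v, v ∈ A ↔ ∀ j, j ≠ i₁ → j ≠ i₂ → (M j).1 v = v) (hA4 : finrank F A = 4)
    (hAu : ∃ v ∈ A, (M i₂).1 v ≠ v) : False := by
  have hMa : ∀ j, j ≠ i₁ → Au (M j) := fun j hj => au_of (hT j hj) (hL j hj)
  have hcc : ∀ i j, i ≠ i₁ → j ≠ i₁ → ∀ v, (M i).1 ((M j).1 v) = (M j).1 ((M i).1 v) := fun i j hi hj =>
    comm_aut hG hσ (hMa i hi) (hMa j hj) (hl i hi) (hl j hj) (hc i j)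
  have hA1 : one8 F ∈ A := (hA _).2 fun j hj _ => (hMa j hj).one
  have hAm : ∀ x ∈ A, ∀ y ∈ A, omul x y ∈ A := by
    intro x hx y hy
    rw [hA] at hx hy ⊢
    intro j hj1 hj2
    rw [(hMa j hj1).mul, hx j hj1 hj2, hy j hj1 hj2]
  have hAn : ∀ x ∈ A, (∀ y ∈ A, polar (plusForm 4 F) x y = 0) → x = 0 := by
    intro v hv h
    refine H188.RC.IDNormal.nondeg_fix (p := p) (κ := {j : ι // j ≠ i₁ ∧ j ≠ i₂}) (fun j => M j) (fun j => r j)
      (fun j => hr j) (fun j => hrp j j.2.1 j.2.2) (fun j => (hMa j j.2.1).lin) (fun j => hMr j j.2.1) ?_ v ?_ ?_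
    · intro i j
      apply Subtype.ext
      ext1 w
      exact hcc i j i.2.1 j.2.1 w
    · intro j
      exact (hA v).1 hv j j.2.1 j.2.2
    · intro y hy
      exact h y ((hA y).2 fun j h1 h2 => hy ⟨j, h1, h2⟩)
  have hUA : ∀ v ∈ A, (M i₂).1 v ∈ A := by
    intro v hv
    rw [hA]
    intro j hj1 hj2
    rw [hcc j i₂ hj1 h12, (hA v).1 hv j hj1 hj2]
  have hUp : M i₂ ^ p = 1 := by rw [← hi₂]; exact hMr i₂ h12
  obtain ⟨φ, h2, h3, h4, h5, h6⟩ := H188.RC.IDNormal.exists_normal A hA4 hA1 hAm hAn (M i₂) (hT i₂ h12)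
    (hMa i₂ h12).lin hUp hUA hAu
  exact box_iD_of hG hE hσ hp3 hr hx hx1 hc hcov h12 h1 hl hT hL hMr hrp hr3 A hA hA4 ⟨h2, h3⟩ h4 h5 h6

end Cfsg.Agent.H237.RC.ID
end

-- part: H547/RC/TriLeft
section
/-!
# S3510, triality type (i): commuting automorphisms of the octonions over `F₂`, `F₃` fixing an idempotent (helper547)
-/

set_option autoImplicit false
set_option linter.unusedVariables false

namespace Cfsg.Agent.H547.RC.TriLeft

open Module QuadraticMap Cfsg.Agent.LieClassical.OrthCore Cfsg.Agent.LieClassical.OrthTrans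
  Cfsg.Agent.LieClassical.OrthSimple Cfsg.Agent.ClassicalGeometry.OrthAut1
  Cfsg.Agent.ClassicalGeometry.OrthSemi Cfsg.Agent.H198.Classes
  Cfsg.Agent.LieClassical.QuadForms Cfsg.Agent.H198.ClassesPlus
  Cfsg.Agent.ClassicalGeometry.TrialityOct Cfsg.Agent.ClassicalGeometry.Triality
  Cfsg.Agent.ClassicalGeometry.TrialitySpaces Cfsg.Agent.H198.TriBase Cfsg.Agent.H198.TriAut
  Cfsg.Agent.H206.Balance Cfsg.Agent.H198.BalVar Cfsg.Agent.H198.TriDia Cfsg.Agent.H198.TriSpec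
  Cfsg.Agent.H752.SemiNormal

universe u

/-- counting fixed points of an element of order `p` -/
theorem cnt_mod {G X : Type*} [Group G] [MulAction G X] {S : Set X} {g : G} {p : ℕ} (hp : p.Prime) (hg : g ^ p = 1)
    (hS : ∀ v ∈ S, g • v ∈ S) (hfin : S.Finite) : S.ncard ≡ {v | v ∈ S ∧ g • v = v}.ncard [MOD p] := by
  classical
  have := Fact.mk hp
  have := hfin.to_subtype
  have := Fintype.ofFinite S
  let f : Function.End S := fun v => ⟨g • v.1, hS v.1 v.2⟩
  have h1 : ∀ (k : ℕ) (v : S), ((f ^ k) v : X) = g ^ k • (v : X) := by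
    intro k
    induction k with
    | zero => intro v; rw [pow_zero, pow_zero, one_smul]; rfl
    | succ k ih =>
      intro v
      rw [pow_succ', pow_succ']
      show g • ((f ^ k) v : X) = (g * g ^ k) • (v : X)
      rw [ih, mul_smul]
  have h2 : f ^ p ^ 1 = 1 := by
    rw [pow_one]
    funext v
    apply Subtype.ext
    rw [h1, hg, one_smul]
    rfl
  have h3 := Equiv.Perm.card_fixedPoints_modEq h2
  rw [← Nat.card_eq_fintype_card, ← Nat.card_eq_fintype_card] at h3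
  have h5 : Nat.card (Function.fixedPoints f) = {v | v ∈ S ∧ g • v = v}.ncard := by
    rw [← Nat.card_coe_set_eq]
    refine Nat.card_congr ⟨fun v => ⟨v.1.1, v.1.2, congrArg Subtype.val v.2⟩, fun v => ⟨⟨v.1, v.2.1⟩, Subtype.ext v.2.2⟩,
      fun v => rfl, fun v => rfl⟩
  rw [h5] at h3
  exact h3

theorem ari_two {r n : ℕ} (hr : r.Prime) (hr2 : r ≠ 2) (hr3 : r ≠ 3) (hn : n ∣ 8) (hn8 : n ≠ 8) (h : 8 ≡ n [MOD r]) :
    r = 7 := by
  have h2 : r ∣ 8 - n := (Nat.modEq_iff_dvd' (Nat.le_of_dvd (by norm_num) hn)).1 h.symm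
  obtain ⟨k, hk, rfl⟩ := (Nat.dvd_prime_pow Nat.prime_two).1 (show n ∣ 2 ^ 3 from hn)
  interval_cases k
  · exact (Nat.prime_dvd_prime_iff_eq hr (by norm_num)).1 h2
  · have h3 : r ∣ 2 * 3 := h2
    rcases (Nat.Prime.dvd_mul hr).1 h3 with h4 | h4
    · exact absurd ((Nat.prime_dvd_prime_iff_eq hr Nat.prime_two).1 h4) hr2
    · exact absurd ((Nat.prime_dvd_prime_iff_eq hr Nat.prime_three).1 h4) hr3
  · have h3 : r ∣ 2 ^ 2 := h2
    exact absurd ((Nat.prime_dvd_prime_iff_eq hr Nat.prime_two).1 (hr.dvd_of_dvd_pow h3)) hr2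
  · exact absurd rfl hn8

theorem ari_three {r n : ℕ} (hr : r.Prime) (hr3 : r ≠ 3) (hn : n ∣ 27) (hn27 : n ≠ 27) (h : 27 ≡ n [MOD r]) :
    r = 2 ∨ (r = 13 ∧ n = 1) := by
  have h2 : r ∣ 27 - n := (Nat.modEq_iff_dvd' (Nat.le_of_dvd (by norm_num) hn)).1 h.symm
  obtain ⟨k, hk, rfl⟩ := (Nat.dvd_prime_pow Nat.prime_three).1 (show n ∣ 3 ^ 3 from hn)
  interval_cases k
  · have h3 : r ∣ 2 * 13 := h2
    rcases (Nat.Prime.dvd_mul hr).1 h3 with h4 | h4
    · exact Or.inl ((Nat.prime_dvd_prime_iff_eq hr Nat.prime_two).1 h4)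
    · exact Or.inr ⟨(Nat.prime_dvd_prime_iff_eq hr (by norm_num)).1 h4, rfl⟩
  · have h3 : r ∣ 2 ^ 3 * 3 := h2
    rcases (Nat.Prime.dvd_mul hr).1 h3 with h4 | h4
    · exact Or.inl ((Nat.prime_dvd_prime_iff_eq hr Nat.prime_two).1 (hr.dvd_of_dvd_pow h4))
    · exact absurd ((Nat.prime_dvd_prime_iff_eq hr Nat.prime_three).1 h4) hr3
  · have h3 : r ∣ 2 * 3 ^ 2 := h2
    rcases (Nat.Prime.dvd_mul hr).1 h3 with h4 | h4
    · exact Or.inl ((Nat.prime_dvd_prime_iff_eq hr Nat.prime_two).1 h4)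
    · exact absurd ((Nat.prime_dvd_prime_iff_eq hr Nat.prime_three).1 (hr.dvd_of_dvd_pow h4)) hr3
  · exact absurd rfl hn27

variable {F : Type u} [Field F]

/-- the Peirce space of the idempotent `bs (.inl 0)` -/
def LL (F : Type u) [Field F] : AddSubgroup (V8 F) := (Us F).toAddSubgroup

theorem mem_LL {x : V8 F} : x ∈ LL F ↔ x (.inl 0) = 0 ∧ x (.inr 0) = 0 ∧ x (.inr 1) = 0 ∧ x (.inr 2) = 0 ∧
    x (.inr 3) = 0 := mem_Us

theorem mem_LL' {x : V8 F} : x ∈ LL F ↔ omul (bs (.inl 0)) x = x ∧ omul x (bs (.inl 0)) = 0 := Iff.rfl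

theorem card_LL [Finite F] : Nat.card (LL F) = Nat.card F ^ 3 := by
  let f : LL F → (Fin 3 → F) := fun x => ![x.1 (.inl 1), x.1 (.inl 2), x.1 (.inl 3)]
  have hf : Function.Bijective f := by
    constructor
    · rintro ⟨x, hx⟩ ⟨y, hy⟩ hxy
      rw [mem_LL] at hx hy
      have h1 : x (.inl 1) = y (.inl 1) := congrFun hxy 0
      have h2 : x (.inl 2) = y (.inl 2) := congrFun hxy 1
      have h3 : x (.inl 3) = y (.inl 3) := congrFun hxy 2
      apply Subtype.ext
      apply ext8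
      · show x (.inl 0) = y (.inl 0)
        rw [hx.1, hy.1]
      · exact h1
      · exact h2
      · exact h3
      · show x (.inr 0) = y (.inr 0)
        rw [hx.2.1, hy.2.1]
      · show x (.inr 1) = y (.inr 1)
        rw [hx.2.2.1, hy.2.2.1]
      · show x (.inr 2) = y (.inr 2)
        rw [hx.2.2.2.1, hy.2.2.2.1]
      · show x (.inr 3) = y (.inr 3)
        rw [hx.2.2.2.2, hy.2.2.2.2]
    · intro a
      refine ⟨⟨Sum.elim ![0, a 0, a 1, a 2] ![0, 0, 0, 0], mem_LL.2 ⟨rfl, rfl, rfl, rfl, rfl⟩⟩, ?_⟩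
      funext i
      fin_cases i <;> rfl
  rw [Nat.card_congr (Equiv.ofBijective f hf), Nat.card_fun]
  simp

variable {M : G8 F} (hT : TriS M M M) (hs : IsSS (plusForm 4 F) (RingEquiv.refl F) 1 M.1)
  (h0 : M.1 (bs (.inl 0)) = bs (.inl 0))

include hT hs h0 in
theorem stab_LL {x : V8 F} (hx : x ∈ LL F) : M.1 x ∈ LL F := by
  rw [mem_LL'] at hx ⊢
  constructor
  · have h1 := hT (bs (.inl 0)) x
    rw [hx.1, h0] at h1
    exact h1.symm
  · have h1 := hT x (bs (.inl 0))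
    rw [hx.2, h0, hs.map_zero] at h1
    exact h1.symm

/-- fixed vectors -/
def FX (hs : IsSS (plusForm 4 F) (RingEquiv.refl F) 1 M.1) : AddSubgroup (V8 F) where
  carrier := {v | M.1 v = v}
  zero_mem' := hs.map_zero
  add_mem' := fun {a b} ha hb => by
    show M.1 (a + b) = a + b
    rw [hs.add, ha, hb]
  neg_mem' := fun {a} ha => by
    show M.1 (-a) = -a
    rw [← zero_sub, hs.sub, hs.map_zero, ha]

include hT hs h0 in
theorem eq_one_of_LL (h : ∀ x ∈ LL F, M.1 x = x) : M = 1 := by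
  have hb : ∀ i : Fin 4, i ≠ 0 → bs (.inl i) ∈ LL F := by
    intro i hi
    rw [mem_LL]
    refine ⟨?_, rfl, rfl, rfl, rfl⟩
    exact Pi.single_eq_of_ne (fun h1 => hi (by simpa using h1.symm)) 1
  have h1 := eq_fG hT hs h0 (h _ (hb 1 (by decide))) (h _ (hb 2 (by decide))) (h _ (hb 3 (by decide)))
  rw [h1]
  exact Subtype.ext (Equiv.ext fun x => rfl)

theorem card_mod [Finite F] {r : ℕ} (hr : r.Prime) (hM : M ^ r = 1) {K : AddSubgroup (V8 F)} (hK : ∀ x ∈ K, M.1 x ∈ K) :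
    Nat.card K ≡ Nat.card (K ⊓ FX hs : AddSubgroup (V8 F)) [MOD r] := by
  have h1 : (M.1 : Equiv.Perm (V8 F)) ^ r = 1 := by
    rw [← Subgroup.coe_pow, hM]; rfl
  exact (cnt_mod hr h1 (S := (K : Set (V8 F))) hK (Set.toFinite _) :)

include hT h0 in
theorem card_ne [Finite F] (hM : M ≠ 1) : Nat.card (LL F ⊓ FX hs : AddSubgroup (V8 F)) ≠ Nat.card (LL F) := by
  intro h1
  apply hM
  apply eq_one_of_LL hT hs h0
  intro x hx
  have h2 : LL F ⊓ FX hs = LL F := AddSubgroup.eq_of_le_of_card_ge inf_le_left (by rw [h1])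
  rw [← h2] at hx
  exact hx.2

/-- possible prime orders -/
theorem orders [Finite F] (hF : Nat.card F ≤ 3) {M : G8 F} (hT : TriS M M M)
    (hs : IsSS (plusForm 4 F) (RingEquiv.refl F) 1 M.1) (h0 : M.1 (bs (.inl 0)) = bs (.inl 0)) {r : ℕ} (hr : r.Prime)
    (hr3 : r ≠ 3) (hrF : (r : F) ≠ 0) (hM : M ^ r = 1) (hne : M ≠ 1) :
    (Nat.card F = 2 ∧ r = 7) ∨ (Nat.card F = 3 ∧ (r = 2 ∨ (r = 13 ∧ Nat.card (LL F ⊓ FX hs : AddSubgroup (V8 F)) = 1))) := by
  have h1 := card_mod hs hr hM (K := LL F) fun x hx => stab_LL hT hs h0 hx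
  have h2 : Nat.card (LL F ⊓ FX hs : AddSubgroup (V8 F)) ∣ Nat.card (LL F) := AddSubgroup.card_dvd_of_le inf_le_left
  have h3 := card_ne hT hs h0 hne
  rw [card_LL] at h1 h2 h3
  have h4 : 1 < Nat.card F := Finite.one_lt_card
  have h5 : Nat.card F = 2 ∨ Nat.card F = 3 := by omega
  rcases h5 with h5 | h5
  · left
    rw [h5] at h1 h2 h3
    refine ⟨h5, ari_two hr ?_ hr3 h2 h3 h1⟩
    rintro rfl
    apply hrF
    have h6 : ((Nat.card F : ℕ) : F) = 0 := by
      have := Fintype.ofFinite F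
      rw [Nat.card_eq_fintype_card]
      exact Nat.cast_card_eq_zero F
    rwa [h5] at h6
  · right
    rw [h5] at h1 h2 h3
    exact ⟨h5, ari_three hr hr3 h2 h3 h1⟩

/-- orders 2 and 13 do not commute -/
theorem no_two_thirteen [Finite F] (hF : Nat.card F = 3) {u m : G8 F} (hu : TriS u u u)
    (hus : IsSS (plusForm 4 F) (RingEquiv.refl F) 1 u.1) (hu0 : u.1 (bs (.inl 0)) = bs (.inl 0)) (hu2 : u ^ 2 = 1)
    (hu1 : u ≠ 1) (hm : TriS m m m) (hms : IsSS (plusForm 4 F) (RingEquiv.refl F) 1 m.1)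
    (hm0 : m.1 (bs (.inl 0)) = bs (.inl 0)) (hm13 : m ^ 13 = 1)
    (hcard : Nat.card (LL F ⊓ FX hms : AddSubgroup (V8 F)) = 1) (hc : u * m = m * u) (h2 : (2 : F) ≠ 0) : False := by
  have h1 : ∀ x, u.1 (m.1 x) = m.1 (u.1 x) := fun x =>
    congrArg (fun g : G8 F => g.1 x) hc
  have h3 := card_mod hms (K := LL F ⊓ FX hus) (by norm_num : Nat.Prime 13) hm13 fun x hx =>
    ⟨stab_LL hm hms hm0 hx.1, by
      show u.1 (m.1 x) = m.1 x
      rw [h1, show u.1 x = x from hx.2]⟩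
  have h4 : Nat.card (LL F ⊓ FX hus ⊓ FX hms : AddSubgroup (V8 F)) = 1 := by
    have h5 : Nat.card (LL F ⊓ FX hus ⊓ FX hms : AddSubgroup (V8 F)) ∣ Nat.card (LL F ⊓ FX hms : AddSubgroup (V8 F)) :=
      AddSubgroup.card_dvd_of_le (inf_le_inf_right _ inf_le_left)
    rw [hcard] at h5
    exact Nat.dvd_one.1 h5
  have h5 : Nat.card (LL F ⊓ FX hus : AddSubgroup (V8 F)) ∣ Nat.card (LL F) := AddSubgroup.card_dvd_of_le inf_le_left
  have h6 := card_ne hu hus hu0 hu1
  rw [card_LL, hF] at h5 h6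
  rw [h4] at h3
  have h7 : Nat.card (LL F ⊓ FX hus : AddSubgroup (V8 F)) = 1 := by
    generalize Nat.card (LL F ⊓ FX hus : AddSubgroup (V8 F)) = n at h3 h5 h6
    obtain ⟨k, hk, rfl⟩ := (Nat.dvd_prime_pow Nat.prime_three).1 h5
    interval_cases k
    · rfl
    · exact absurd h3 (by decide)
    · exact absurd h3 (by decide)
    · exact absurd rfl h6
  rw [AddSubgroup.card_eq_one] at h7
  have huu : ∀ x, u.1 (u.1 x) = x := fun x => by
    have := congrArg (fun g : G8 F => g.1 x) hu2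
    rw [pow_two] at this
    exact this
  have hneg : ∀ x ∈ LL F, u.1 x = -x := by
    intro x hx
    have h8 : u.1 x + x ∈ LL F ⊓ FX hus := by
      refine ⟨(LL F).add_mem (stab_LL hu hus hu0 hx) hx, ?_⟩
      show u.1 (u.1 x + x) = u.1 x + x
      rw [hus.add, huu, add_comm]
    rw [h7, AddSubgroup.mem_bot] at h8
    exact eq_neg_of_add_eq_zero_left h8
  have hb : ∀ i : Fin 4, i ≠ 0 → bs (.inl i) ∈ LL F := by
    intro i hi
    rw [mem_LL]
    refine ⟨?_, rfl, rfl, rfl, rfl⟩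
    exact Pi.single_eq_of_ne (fun h1 => hi (by simpa using h1.symm)) 1
  have h8 := hneg _ (hb 1 (by decide))
  have h9 := hneg _ (hb 2 (by decide))
  have h10 := hneg _ (hb 3 (by decide))
  have hnn : ∀ x : V8 F, -x = (-1 : F) • x := fun x => by rw [neg_smul, one_smul]
  have h11 : u.1 (bs (.inr 3)) = bs (.inr 3) := by
    rw [bs_r3, hus.smul, hu, h8, h9, hnn, hnn (bs (.inl 2)), smul_omul, omul_smul, smul_smul, smul_smul]
    norm_num only [_root_.RingEquiv.map_neg_one, _root_.mul_neg, _root_.neg_smul, _root_.one_smul]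
  have h12 : (polar (plusForm 4 F) (bs (.inl 3)) (bs (.inr 3)) : F) = 1 := by
    rw [polar8]; simp
  have h13 := hus.polar (bs (.inl 3)) (bs (.inr 3))
  rw [h10, h11, h12, hnn, QuadraticMap.polar_smul_left, h12, RingEquiv.refl_apply, mul_one] at h13
  apply h2
  have h14 : (-1 : F) = 1 := by simpa using h13
  linear_combination -h14

/-- **`r` takes one value** (box P2 of helper566) -/
theorem sub_of_left [Finite F] (hF : Nat.card F ≤ 3) {κ : Type*} (M : κ → G8 F) (r : κ → ℕ)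
    (hT : ∀ j, TriS (M j) (M j) (M j)) (hl : ∀ j, IsLin (M j)) (hr : ∀ j, (r j).Prime) (hr3 : ∀ j, r j ≠ 3)
    (hrF : ∀ j, ((r j : ℕ) : F) ≠ 0) (hpow : ∀ j, M j ^ r j = 1) (hne : ∀ j, M j ≠ 1) (hinj : Function.Injective r)
    (hc : ∀ i j, M i * M j = M j * M i) {e : V8 F} (he : ∀ j, (M j).1 e = e) (hee : omul e e = e)
    (hQe : plusForm 4 F e = 0) (h1 : polar (plusForm 4 F) e (one8 F) = 1)
    (hfix : ∀ v, (∀ j, (M j).1 v = v) → ∃ a c : F, v = a • one8 F + c • e) : Subsingleton κ := by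
  have hse : ∀ j, IsSS (plusForm 4 F) (RingEquiv.refl F) 1 (M j).1 := fun j => Cfsg.Agent.H103.RC.aut_ss (hT j) (hl j)
  have h3 : e (.inl 0) + e (.inr 0) = 1 := by
    rw [polar8] at h1
    simpa only [one8, _root_.Fin.isValue, _root_.Sum.elim_inr, _root_.Matrix.cons_val_zero, _root_.mul_one, _root_.Sum.elim_inl, _root_.one_mul, _root_.Matrix.cons_val_one, _root_.MulZeroClass.mul_zero, _root_.MulZeroClass.zero_mul, _root_.add_zero, _root_.Matrix.cons_val] using h1
  obtain ⟨P, hP, hPs, hPe⟩ := exists_aut h3 hQe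
  have hPe' : P.1 e = bs (.inl 0) := hPe
  let W : κ → G8 F := fun j => P * M j * P⁻¹
  have hWT : ∀ j, TriS (W j) (W j) (W j) := fun j => (hP.mul (hT j)).mul hP.inv
  have hWl : ∀ j, IsLin (W j) := fun j => by
    have h4 := (hPs.mul (hse j)).mul hPs.inv
    exact ⟨_, h4⟩
  have hWs : ∀ j, IsSS (plusForm 4 F) (RingEquiv.refl F) 1 (W j).1 := fun j =>
    Cfsg.Agent.H103.RC.aut_ss (hWT j) (hWl j)
  have hW0 : ∀ j, (W j).1 (bs (.inl 0)) = bs (.inl 0) := by
    intro j
    show P.1 ((M j).1 (P.1⁻¹ (bs (.inl 0)))) = bs (.inl 0)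
    have h4 : P.1⁻¹ (bs (.inl 0)) = e := by rw [← hPe', inv_apply]
    rw [h4, he, hPe']
  have hWpow : ∀ j, W j ^ r j = 1 := fun j => by
    show (P * M j * P⁻¹) ^ r j = 1
    rw [conj_pow, hpow, mul_one, mul_inv_cancel]
  have hWne : ∀ j, W j ≠ 1 := fun j h4 => hne j (by
    have h5 : P * M j * P⁻¹ = 1 := h4
    rw [mul_inv_eq_one] at h5
    exact mul_eq_left.1 h5)
  have hWc : ∀ i j, W i * W j = W j * W i := fun i j => by
    show P * M i * P⁻¹ * (P * M j * P⁻¹) = P * M j * P⁻¹ * (P * M i * P⁻¹)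
    have h4 : ∀ a b : G8 F, P * a * P⁻¹ * (P * b * P⁻¹) = P * (a * b) * P⁻¹ := fun a b => by group
    rw [h4, h4, hc]
  have hord := fun j => orders hF (hWT j) (hWs j) (hW0 j) (hr j) (hr3 j) (hrF j) (hWpow j) (hWne j)
  have no213 : ∀ i j, r i = 2 → r j = 13 → False := by
    intro i j hi hj
    rcases hord j with h4 | ⟨hF3, h4 | ⟨-, h4⟩⟩
    · omega
    · omega
    · have h5 := hWpow i
      have h6 := hWpow j
      rw [hi] at h5
      rw [hj] at h6
      exact no_two_thirteen hF3 (hWT i) (hWs i) (hW0 i) h5 (hWne i) (hWT j) (hWs j) (hW0 j) h6 h4 (hWc i j) (by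
        have h7 := hrF i
        rw [hi] at h7
        exact_mod_cast h7)
  constructor
  intro i j
  apply hinj
  rcases hord i with ⟨h4, h5⟩ | ⟨h4, h5 | ⟨h5, -⟩⟩ <;> rcases hord j with ⟨h6, h7⟩ | ⟨h6, h7 | ⟨h7, -⟩⟩
  · omega
  · omega
  · omega
  · omega
  · omega
  · exact (no213 i j h5 h7).elim
  · omega
  · exact (no213 j i h7 h5).elim
  · omega

end Cfsg.Agent.H547.RC.TriLeft
end

-- part: H692/RC/AutE
section
/-!
# Linear octonion automorphisms lie in `E Q` (helper692, for the triality row of S3510)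

* `mem_E_of_aut` : a linear octonion automorphism over a finite field lies in `E Q` and its class is fixed by `rho`;
* `tri_of_dia_one` : the automorphisms of the para-octonion product are octonion automorphisms.
-/

set_option autoImplicit false

namespace Cfsg.Agent.H692.RC

open Module QuadraticMap Cfsg.Agent.LieClassical.OrthCore Cfsg.Agent.LieClassical.OrthTrans
  Cfsg.Agent.LieClassical.OrthSimple Cfsg.Agent.ClassicalGeometry.OrthAut1
  Cfsg.Agent.ClassicalGeometry.OrthSemi Cfsg.Agent.H198.Classes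
  Cfsg.Agent.LieClassical.QuadForms Cfsg.Agent.H198.ClassesPlus
  Cfsg.Agent.ClassicalGeometry.TrialityOct Cfsg.Agent.ClassicalGeometry.Triality
  Cfsg.Agent.ClassicalGeometry.TrialitySpaces Cfsg.Agent.H198.TriBase Cfsg.Agent.H198.TriAut
  Cfsg.Agent.H198.TriDia Cfsg.Agent.H198.TriTC

universe u

variable {F : Type u} [Field F]

section general

variable {V : Type*} [AddCommGroup V] [Module F V] {Q : QuadraticForm F V}

/-- reflections whose norms differ by a square agree modulo `E Q` -/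
theorem refl_pair_mem (hG : Good Q) {a b : V} (ha : Q a ≠ 0) (hb : Q b ≠ 0) {d : F}
    (h : Q b = d ^ 2 * Q a) : refl Q a ha * refl Q b hb ∈ E Q := by
  have hd : d ≠ 0 := by
    rintro rfl
    rw [zero_pow two_ne_zero, zero_mul] at h
    exact hb h
  have h1 : Q (d⁻¹ • b) = Q a := by
    rw [QuadraticMap.map_smul, h, smul_eq_mul]
    field_simp
  have h2 : Q (d⁻¹ • b) ≠ 0 := by rw [h1]; exact ha
  rw [← refl_smul hb (inv_ne_zero hd) h2]
  exact hG.refl_mul_refl_mem h2 ha h1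

theorem sq_of_isSquare {x y : F} (hx : x ≠ 0) (h : IsSquare (x * y)) : ∃ d : F, y = d ^ 2 * x := by
  obtain ⟨s, hs⟩ := h
  refine ⟨s / x, ?_⟩
  have h1 : y = s * s / x := by rw [← hs]; field_simp
  rw [h1]
  field_simp

theorem three [Finite F] {x y z : F} : IsSquare (x * y) ∨ IsSquare (y * z) ∨ IsSquare (x * z) := by
  by_cases h2 : (2 : F) = 0
  · obtain ⟨c, hc⟩ := ClassicalGeometry.OrthDickson.exists_sq_of_two h2 (x * y)
    exact Or.inl ⟨c, hc.symm⟩
  · by_cases hx : IsSquare x <;> by_cases hy : IsSquare y <;> by_cases hz : IsSquare z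
    · exact Or.inl (hx.mul hy)
    · exact Or.inl (hx.mul hy)
    · exact Or.inr (Or.inr (hx.mul hz))
    · exact Or.inr (Or.inl (ClassicalGeometry.Universal.isSquare_mul_of_not h2 hy hz))
    · exact Or.inr (Or.inl (hy.mul hz))
    · exact Or.inr (Or.inr (ClassicalGeometry.Universal.isSquare_mul_of_not h2 hx hz))
    · exact Or.inl (ClassicalGeometry.Universal.isSquare_mul_of_not h2 hx hy)
    · exact Or.inl (ClassicalGeometry.Universal.isSquare_mul_of_not h2 hx hy)

/-- representatives of `O Q` modulo `E Q` -/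
def Rp (Q : QuadraticForm F V) (x : V ≃ₗ[F] V) : Prop :=
  ∃ e ∈ E Q, x = e ∨ (∃ a, ∃ ha : Q a ≠ 0, x = e * refl Q a ha) ∨
    ∃ a b, ∃ (ha : Q a ≠ 0) (hb : Q b ≠ 0), x = e * (refl Q a ha * refl Q b hb)

theorem Rp.refl_mul [Finite F] (hG : Good Q) {v : V} (hv : Q v ≠ 0) {x : V ≃ₗ[F] V} (h : Rp Q x) :
    Rp Q (refl Q v hv * x) := by
  have hc : ∀ e ∈ E Q, refl Q v hv * e * (refl Q v hv)⁻¹ ∈ E Q := fun e he => conj_mem_E (refl_mem_O hv) he
  obtain ⟨e, he, rfl | ⟨a, ha, rfl⟩ | ⟨a, b, ha, hb, rfl⟩⟩ := h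
  · exact ⟨_, hc x he, Or.inr (Or.inl ⟨v, hv, by group⟩)⟩
  · exact ⟨_, hc e he, Or.inr (Or.inr ⟨v, a, hv, ha, by group⟩)⟩
  · rcases three (x := Q v) (y := Q a) (z := Q b) with h | h | h
    · obtain ⟨d, hd⟩ := sq_of_isSquare hv h
      have h1 := refl_pair_mem hG hv ha hd
      exact ⟨_, mul_mem (hc e he) h1, Or.inr (Or.inl ⟨b, hb, by group⟩)⟩
    · obtain ⟨d, hd⟩ := sq_of_isSquare ha h
      have h1 := refl_pair_mem hG ha hb hd
      exact ⟨_, hc _ (mul_mem he h1), Or.inr (Or.inl ⟨v, hv, by group⟩)⟩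
    · obtain ⟨d, hd⟩ := sq_of_isSquare hv h
      have h1 := refl_pair_mem hG hv hb hd
      have h2 : refl Q a ha * (refl Q v hv * refl Q b hb) * (refl Q a ha)⁻¹ ∈ E Q :=
        conj_mem_E (refl_mem_O ha) h1
      have hva : Q (refl Q v hv a) ≠ 0 := by rw [mem_O.1 (refl_mem_O hv)]; exact ha
      have h3 := refl_conj (refl_mem_O hv) ha hva
      have h4 : refl Q (refl Q v hv a) hva * (refl Q v hv * refl Q b hb) * (refl Q (refl Q v hv a) hva)⁻¹ ∈ E Q :=
        conj_mem_E (refl_mem_O hva) h1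
      refine ⟨_, mul_mem (hc e he) h4, Or.inr (Or.inl ⟨_, hva, ?_⟩)⟩
      rw [← h3]
      group

theorem Rp.mul_left (_hG : Good Q) {g x : V ≃ₗ[F] V} (hg : g ∈ E Q) (h : Rp Q x) : Rp Q (g * x) := by
  obtain ⟨e, he, rfl | ⟨a, ha, rfl⟩ | ⟨a, b, ha, hb, rfl⟩⟩ := h
  · exact ⟨_, mul_mem hg he, Or.inl rfl⟩
  · exact ⟨_, mul_mem hg he, Or.inr (Or.inl ⟨a, ha, by group⟩)⟩
  · exact ⟨_, mul_mem hg he, Or.inr (Or.inr ⟨a, b, ha, hb, by group⟩)⟩

theorem rp_of_mem_O [Finite F] (hG : Good Q) {x : V ≃ₗ[F] V} (hx : x ∈ O Q) : Rp Q x := by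
  have : FiniteDimensional F V := Module.finite_of_finrank_pos (by have := hG.dim; omega)
  rw [O_eq_closure hG.nondeg] at hx
  induction hx using Subgroup.closure_induction_left with
  | one => exact ⟨1, one_mem _, Or.inl rfl⟩
  | mul_left g hg y hy ih =>
    rcases hg with ⟨v, hv, rfl⟩ | hg
    · exact ih.refl_mul hG hv
    · exact ih.mul_left hG (Subgroup.subset_closure hg)
  | inv_mul_cancel g hg y hy ih =>
    rcases hg with ⟨v, hv, rfl⟩ | hg
    · rw [refl_inv]
      exact ih.refl_mul hG hv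
    · exact ih.mul_left hG (inv_mem (Subgroup.subset_closure hg))

end general

/-- uniqueness of the second member of a triple -/
theorem second_unique (hG : Good (plusForm 4 F)) {M A B A' B' : G8 F} (h : TriS M A B) (h' : TriS M A' B') :
    ∃ c : Fˣ, ∀ v, A.1 v = A'.1 ((c : F) • v) := by
  have h1 : Psi (plusForm 4 F) (kapG F * A * kapG F) = Psi (plusForm 4 F) (kapG F * A' * kapG F) := by
    simp only [← rho_conj hG h, ← rho_conj hG h']
  obtain ⟨c, hc⟩ := smul_of_Psi_eq hG h1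
  refine ⟨c, fun v => ?_⟩
  have h2 := hc (oconj v)
  change oconj (A.1 (oconj (oconj v))) = oconj (A'.1 (oconj ((c : F) • oconj v))) at h2
  rw [oconj_oconj, oconj_smul, oconj_oconj] at h2
  have h3 := congrArg oconj h2
  rwa [oconj_oconj, oconj_oconj] at h3

/-- **P1.** A linear octonion automorphism (finite field) lies in `E Q`. -/
theorem exists_E [Finite F] (hG : Good (plusForm 4 F)) {M : G8 F} (hT : TriS M M M) (hl : IsLin M) :
    ∃ g : ↥(E (plusForm 4 F)), H93.RC.tg (plusForm 4 F) g = M := by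
  obtain ⟨c, hc⟩ := hl
  obtain rfl := aut_mult hT hc
  obtain ⟨x, hx⟩ := exists_gamO hc
  have hk : kp F M = 1 := (mem_T1_iff hG).1 ⟨_, _, hT⟩
  obtain ⟨e, he, h | ⟨a, ha, h⟩ | ⟨a, b, ha, hb, h⟩⟩ := rp_of_mem_O hG x.2
  · refine ⟨⟨e, he⟩, ?_⟩
    rw [← hx]
    apply Subtype.ext
    ext1 v
    change e v = (x : V8 F ≃ₗ[F] V8 F) v
    rw [h]
  · exfalso
    have h1 : x = ⟨e, E_le_O he⟩ * ⟨refl _ a ha, refl_mem_O ha⟩ := Subtype.ext h
    rw [← hx, h1, map_mul, map_mul, kp_refl ha, kappa_of_E hG _ he] at hk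
    exact absurd hk (by decide)
  · have h1 : x = ⟨e, E_le_O he⟩ * (⟨refl _ a ha, refl_mem_O ha⟩ * ⟨refl _ b hb, refl_mem_O hb⟩) :=
      Subtype.ext h
    obtain ⟨e₁, e₂, ht⟩ := exists_triple hG he
    have hte := triS_of_triE ht
    set α : Fˣ := Units.mk0 (-(plusForm 4 F a)⁻¹) (neg_ne_zero.2 (inv_ne_zero ha)) with hα
    set β : Fˣ := Units.mk0 (-(plusForm 4 F b)⁻¹) (neg_ne_zero.2 (inv_ne_zero hb)) with hβ
    have k1 : TriS (scal _ α * bG a ha) (scal _ α * lG a ha) (1 * rG a ha) := (tri_scal α).mul (tri_bG a ha)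
    have k2 := ((tri_scal β).mul (tri_bG b hb)).kap
    have k3 := hte.mul (k1.mul k2)
    have k4 : gamO _ ⟨e, E_le_O he⟩ * (scal _ α * bG a ha * (kapG F * (scal _ β * bG b hb) * kapG F)) = M := by
      simp only [← hx, h1, map_mul, map_mul, gamO_refl, gamO_refl, ← hα, ← hβ]
      simp only [mul_assoc]
    rw [k4] at k3
    obtain ⟨c, hc'⟩ := second_unique hG k3 hT
    have e1 := congrArg (plusForm 4 F) (hc' (one8 F))
    have e2 : plusForm 4 F (M.1 ((c : F) • one8 F)) = (c : F) ^ 2 := by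
      rw [hc.form, QuadraticMap.map_smul, norm_one8]
      simp
      ring
    rw [e2] at e1
    have e3 : plusForm 4 F ((gamO _ ⟨e₁, E_le_O ht.1.2.1⟩ * (scal _ α * lG a ha *
        (kapG F * (1 * rG b hb) * kapG F))).1 (one8 F)) =
        (α : F) ^ 2 * plusForm 4 F a * plusForm 4 F b := by
      simp only [Subgroup.coe_mul, Equiv.Perm.mul_apply, H198.TriBase.bG_apply, H198.TriBase.lG_apply, H198.TriBase.rG_apply,
        H198.TriBase.kapG_apply, one_mul]
      change plusForm 4 F (e₁ ((α : F) • omul a (oconj (omul (oconj (one8 F)) b)))) = _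
      rw [mem_O.1 (E_le_O ht.1.2.1), QuadraticMap.map_smul, norm_omul, norm_oconj, norm_omul, norm_oconj,
        norm_one8, smul_eq_mul]
      ring
    have e4 : (α : F) ^ 2 * plusForm 4 F a * plusForm 4 F b = (c : F) ^ 2 := by
      rw [← e3]
      exact e1
    have e5 : plusForm 4 F b = (c : F) ^ 2 * plusForm 4 F a := by
      rw [← e4, hα]
      change _ = (-(plusForm 4 F a)⁻¹) ^ 2 * _ * _ * _
      field_simp
    have e6 := refl_pair_mem hG ha hb e5
    refine ⟨⟨e * (refl _ a ha * refl _ b hb), mul_mem he e6⟩, ?_⟩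
    rw [← hx]
    apply Subtype.ext
    ext1 v
    change (e * (refl _ a ha * refl _ b hb)) v = (x : V8 F ≃ₗ[F] V8 F) v
    rw [h]

theorem rho_fix (hG : Good (plusForm 4 F)) {M : G8 F} (hT : TriS M M M) {g : ↥(E (plusForm 4 F))}
    (hg : H93.RC.tg (plusForm 4 F) g = M) : rho hG (g : P8 F) = (g : P8 F) := by
  have hgM : ∀ v, (g : V8 F ≃ₗ[F] V8 F) v = M.1 v := fun v => by rw [← hg]; rfl
  have hob_ := exists_triple hG g.2
  obtain ⟨g₁, g₂, h⟩ := hob_
  have h1 : TriE (g : V8 F ≃ₗ[F] V8 F) (⟨g₁, h.1.2.1⟩ : ↥(E (plusForm 4 F))) g₂ := h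
  rw [rho_mk hG h1]
  have h2 : Tri (g : V8 F ≃ₗ[F] V8 F) g g := fun x y => by
    rw [hgM, hgM, hgM]; exact hT x y
  have hob_ := h2.unique h.2
  obtain ⟨c, hc0, hc1, -⟩ := hob_
  symm
  apply mk_eq_of_smul (c := c)
  intro v
  change oconj (g₁ (oconj v)) = _
  rw [hc1, oconj_smul, hgM, hgM, aut_oconj hT, oconj_oconj]

/-- **P1.** -/
theorem mem_E_of_aut [Finite F] (hG : Good (plusForm 4 F)) {M : G8 F} (hT : TriS M M M) (hl : IsLin M) :
    ∃ g : ↥(E (plusForm 4 F)), H93.RC.tg (plusForm 4 F) g = M ∧ rho hG (g : P8 F) = (g : P8 F) := by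
  have hob_ := exists_E hG hT hl
  obtain ⟨g, hg⟩ := hob_
  exact ⟨g, hg, rho_fix hG hT hg⟩

/-- **P7.** The linear similarities which are automorphisms of the para-octonion product are octonion automorphisms. -/
theorem tri_of_dia_one {M : G8 F} (hl : IsLin M) (hd : ∀ u w, M.1 (dia 1 u w) = dia 1 (M.1 u) (M.1 w)) :
    TriS M M M := by
  obtain ⟨c, hc⟩ := hl
  let g : V8 F ≃ₗ[F] V8 F := { M.1 with
    map_add' := hc.add
    map_smul' := hc.smul }
  exact fun x y => dia_one_aut (g := g) hd x y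

end Cfsg.Agent.H692.RC
end

-- part: H566/RC/TypeI
section
/-!
# S3510, triality of `PΩ₈⁺(q)`, type (i): `x i₁` induces the triality automorphism `ρ` (helper566)
-/

set_option autoImplicit false
set_option linter.unusedSectionVars false

namespace Cfsg.Agent.H566.RC

open Module QuadraticMap Cfsg.Agent.LieClassical.OrthCore Cfsg.Agent.LieClassical.OrthTrans
  Cfsg.Agent.LieClassical.OrthSimple Cfsg.Agent.ClassicalGeometry.OrthAut1
  Cfsg.Agent.ClassicalGeometry.OrthSemi Cfsg.Agent.H198.Classes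
  Cfsg.Agent.LieClassical.QuadForms Cfsg.Agent.H198.ClassesPlus
  Cfsg.Agent.ClassicalGeometry.TrialityOct Cfsg.Agent.ClassicalGeometry.Triality
  Cfsg.Agent.ClassicalGeometry.TrialitySpaces Cfsg.Agent.H198.TriBase Cfsg.Agent.H198.TriAut
  Cfsg.Agent.H198.TriDia Cfsg.Agent.H198.TriTC Cfsg.Agent.H106.RC Cfsg.Agent.H93.RC

section

variable {F : Type} [Field F]

theorem xt_one (hG : Good (plusForm 4 F)) : xt hG 1 = rho hG := by
  simp only [xt, map_one (Psi (plusForm 4 F)), one_mul]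

theorem au_one : Au (1 : G8 F) := ⟨TriS.one, ⟨1, one_ne_zero, fun _ _ => rfl, fun _ _ => rfl, fun v => by
  rw [one_mul]; rfl⟩, one_pow 3⟩

theorem dia_one (u w : V8 F) : dia 1 u w = omul (oconj u) (oconj w) := by
  unfold dia
  rw [inv_one]
  rfl

/-- a pair for the para-octonion algebra -/
theorem kp_one {b : V8 F} (hb : plusForm 4 F b = 1) (hd : polar (plusForm 4 F) b (one8 F) ^ 2 ≠ 4) :
    Kp (1 : G8 F) (one8 F) b := by
  have h1 : plusForm 4 F (one8 F) = 1 := norm_one8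
  have hc : oconj (one8 F) = one8 F := by
    rw [oconj_eq, QuadraticMap.polar_self, h1]
    module
  have hcb : oconj b = polar (plusForm 4 F) b (one8 F) • one8 F - b := oconj_eq b
  refine ⟨by rw [hb, h1], by rw [h1]; exact one_ne_zero, ?_, ?_, ?_, ?_, ?_⟩
  · rw [polar_comm, h1]
    intro h
    exact hd (by rw [h]; ring)
  · rw [dia_one, dia_one, hc, one_omul, omul_one]
  · exact ⟨1, 0, by rw [dia_one, hc, one_omul]; module⟩
  · refine ⟨polar (plusForm 4 F) b (one8 F) ^ 2 - 1, -polar (plusForm 4 F) b (one8 F), ?_⟩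
    rw [dia_one]
    have e1 : omul (oconj b) b = one8 F := by
      have := oconj_omul_omul b (one8 F)
      rwa [omul_one, hb, one_smul] at this
    have e2 : omul (oconj b) (oconj b) = polar (plusForm 4 F) b (one8 F) • oconj b - one8 F := by
      nth_rw 2 [hcb]
      rw [sub_eq_add_neg, omul_add, omul_smul, omul_one, ← neg_one_smul F b, omul_smul, e1]
      module
    rw [e2, hcb]
    module
  · exact ⟨polar (plusForm 4 F) b (one8 F), -1, by rw [dia_one, hc, one_omul, hcb]; module⟩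

end

section main

variable {F : Type} [Field F] [Finite F] {G Ω : Type} [Group G] [Finite G] [MulAction G Ω] [Nonempty Ω]
  {N : Subgroup G} {σ : P8 F →* G}

/-- two members -/
theorem two_kill (hG : Good (plusForm 4 F)) (hE : Env G Ω N) (hσ : Rp (plusForm 4 F) N σ) {x₁ x₂ : G}
    (h1 : La σ x₁ (rho hG)) {M : G8 F} (hM : Lf (up σ) x₂ M) (hT : TriS M M M)
    (hl : Cfsg.Agent.H198.TriDia.IsLin M) (hne : x₂ ≠ 1) (hcov : ∀ ω : Ω, x₁ • ω = ω ∨ x₂ • ω = ω) : False := by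
  obtain ⟨g, hg, hrho⟩ := H692.RC.mem_E_of_aut hG hT hl
  have e : x₂ = σ (g : P8 F) := by
    have h2 : La σ (up σ g) (Psi (plusForm 4 F) M) := by
      rw [← hg]
      exact La.lf.2 (Lf.tg g)
    exact (La.lf.2 hM).eq hE hσ h2
  obtain ⟨u, w, hs, hi, hc⟩ := H679.RC.TriBox.box_iC (Ω := Ω) hG h1 (c := (g : P8 F))
    (by intro h; apply hne; rw [e, h, map_one]) hrho (by intro ω; rw [← e]; exact hcov ω)
  exact H103.RC.kill_i hG hE hσ h1 hs hi (fun ω => (hc ω).symm)

/-- KL for `ρ` -/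
theorem kill_one (hG : Good (plusForm 4 F)) (hE : Env G Ω N) (hσ : Rp (plusForm 4 F) N σ)
    (hIH : IH (Nat.card (P (plusForm 4 F))))
    {ι : Type} [Finite ι] {x : ι → G} {r : ι → ℕ} {i₁ : ι} (hx : PF x r) (h3 : r i₁ = 3) (hcov : Cov Ω x)
    (hL : La σ (x i₁) (rho hG)) {M : ι → G8 F} (hM : ∀ j, j ≠ i₁ → Lf (up σ) (x j) (M j))
    (hl : ∀ j, Cfsg.Agent.H198.TriDia.IsLin (M j)) (hT : ∀ j, TriS (M j) (M j) (M j)) {b : V8 F}
    (hb : ∀ j, j ≠ i₁ → (M j).1 b = b) (hb1 : plusForm 4 F b = 1) (hb2 : polar (plusForm 4 F) b (one8 F) ^ 2 ≠ 4)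
    (hex : ∃ j, j ≠ i₁) : False := by
  have hp : CharP F (ringChar F) := ringChar.charP F
  have k := kp_one hb1 hb2
  refine kill (p := ringChar F) hG hE hσ (fun j _ => hx.prime j) (fun j _ => hx.pow j) (fun j _ => hx.ne j)
    hx.comm hcov au_one (by rw [xt_one]; exact hL) hM (fun j _ => hl j) ?_ k (fun j _ => aut_one (hT j)) hb
    (fun i j _ _ h => hx.inj h) (fun j hj h => absurd (hx.inj (h.trans h3.symm)) hj) hex (rc_W hG au_one k hIH)
  intro j _ u w
  rw [dia_one, dia_one, hT j, aut_oconj (hT j), aut_oconj (hT j)]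

/-- **Type (i)** -/
theorem type_i (hG : Good (plusForm 4 F)) (hE : Env G Ω N) (hIH : IH (Nat.card (P (plusForm 4 F))))
    {ι : Type} [Finite ι] {x : ι → G} {r : ι → ℕ} (hx : PF x r) (hcov : Cov Ω x) {i₁ : ι} {M : ι → G8 F}
    (fr : H675.RC.Fr hG N x r σ i₁ 1 M) (hl : ∀ j, Cfsg.Agent.H198.TriDia.IsLin (M j)) : False := by
  classical
  have hT : ∀ j, TriS (M j) (M j) (M j) := fun j => H692.RC.tri_of_dia_one (hl j) (fr.ex j)
  have hL : La σ (x i₁) (rho hG) := by
    have := fr.la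
    rwa [xt_one] at this
  have hσ := fr.rp
  have hch : CharP F (ringChar F) := ringChar.charP F
  have hpp : (ringChar F).Prime := CharP.char_is_prime F _
  have hpf : Fact (ringChar F).Prime := ⟨hpp⟩
  have hrF : ∀ j, ((r j : ℕ) : F) = 0 ↔ r j = ringChar F := by
    intro j
    rw [CharP.cast_eq_zero_iff F (ringChar F), Nat.prime_dvd_prime_iff_eq hpp (hx.prime j)]
    exact eq_comm
  have hr3 : ∀ j, j ≠ i₁ → r j ≠ 3 := fun j hj h => hj (hx.inj (h.trans fr.three.symm))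
  -- two members
  have two : ∀ j₂, j₂ ≠ i₁ → (∀ j, j = i₁ ∨ j = j₂) → False := by
    intro j₂ hj₂ hall
    refine two_kill hG hE hσ hL (fr.lf j₂ hj₂) (hT j₂) (hl j₂) (hx.ne j₂) (Ω := Ω) fun ω => ?_
    obtain ⟨j, hj⟩ := hcov ω
    rcases hall j with rfl | rfl
    · exact Or.inl hj
    · exact Or.inr hj
  by_cases hex : ∃ j, j ≠ i₁
  swap
  · push Not at hex
    refine H103.RC.kill_i hG hE hσ hL H679.RC.TriBox.spC H679.RC.TriBox.lin_indep (Ω := Ω) fun ω => ?_
    obtain ⟨j, hj⟩ := hcov ω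
    rw [hex j] at hj
    exact Or.inr hj
  by_cases hA : ∀ j, j ≠ i₁ → ((r j : ℕ) : F) ≠ 0
  · -- no member of order `p`
    rcases H103.RC.fix_pair_family hG (fun j : {j : ι // j ≠ i₁} => M j) (fun j => r j) (fun j => hT j)
      (fun j => hl j) (fun j => hx.prime j) (fun i j h => Subtype.ext (hx.inj h)) (fun j => hA j j.2)
      (fun j => fr.pow j) (fun i j => fr.comm i j) with ⟨b, hb, hb1, hb2⟩ | ⟨hF, e, he, hee, hQe, he1, hfix⟩
    · exact kill_one hG hE hσ hIH hx fr.three hcov hL fr.lf hl hT (fun j hj => hb ⟨j, hj⟩) hb1 hb2 hex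
    · have hsub := H547.RC.TriLeft.sub_of_left hF (fun j : {j : ι // j ≠ i₁} => M j) (fun j => r j) (fun j => hT j)
        (fun j => hl j) (fun j => hx.prime j) (fun j => hr3 j j.2) (fun j => hA j j.2) (fun j => fr.pow j)
        (fun j => fr.ne j j.2) (fun i j h => Subtype.ext (hx.inj h)) (fun i j => fr.comm i j) he hee hQe he1 hfix
      obtain ⟨j₂, hj₂⟩ := hex
      refine two j₂ hj₂ fun j => ?_
      by_cases hj : j = i₁
      · exact Or.inl hj
      · exact Or.inr (congrArg Subtype.val (hsub.elim ⟨j, hj⟩ ⟨j₂, hj₂⟩))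
  -- a member of order `p`
  push Not at hA
  obtain ⟨j₂, hj₂, hj₂F⟩ := hA
  have hj₂p : r j₂ = ringChar F := (hrF j₂).1 hj₂F
  have hp3 : ringChar F ≠ 3 := fun h => hr3 j₂ hj₂ (hj₂p.trans h)
  have hrp : ∀ j, j ≠ j₂ → ((r j : ℕ) : F) ≠ 0 := fun j hj h => hj (hx.inj (((hrF j).1 h).trans hj₂p.symm))
  by_cases hex' : ∃ j, j ≠ i₁ ∧ j ≠ j₂
  swap
  · push Not at hex'
    refine two j₂ hj₂ fun j => ?_
    by_cases hj : j = i₁
    · exact Or.inl hj
    · exact Or.inr (hex' j hj)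
  obtain ⟨j₃, hj₃, hj₃'⟩ := hex'
  let A : Submodule F (V8 F) := ⨅ j : {j : ι // j ≠ i₁ ∧ j ≠ j₂},
    { carrier := {v | (M j).1 v = v}
      add_mem' := by
        intro v w hv hw
        obtain ⟨c, hc⟩ := hl j
        exact (hc.add v w).trans (by rw [show (M j).1 v = v from hv, show (M j).1 w = w from hw])
      zero_mem' := by
        obtain ⟨c, hc⟩ := hl j
        exact hc.map_zero
      smul_mem' := by
        intro a v hv
        obtain ⟨c, hc⟩ := hl j
        exact (hc.smul a v).trans (by rw [show (M j).1 v = v from hv]; rfl) }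
  have hAm : ∀ v, v ∈ A ↔ ∀ j : {j : ι // j ≠ i₁ ∧ j ≠ j₂}, (M j).1 v = v := by
    intro v
    exact Submodule.mem_iInf _
  have hAm' : ∀ v, v ∈ A ↔ ∀ j, j ≠ i₁ → j ≠ j₂ → (M j).1 v = v := by
    intro v
    rw [hAm]
    exact ⟨fun h j h1 h2 => h ⟨j, h1, h2⟩, fun h j => h j j.2.1 j.2.2⟩
  -- a pair fixed by all members
  have fin : ∀ b : V8 F, b ∈ A → (M j₂).1 b = b → plusForm 4 F b = 1 → polar (plusForm 4 F) b (one8 F) ^ 2 ≠ 4 →
      False := by
    intro b hbA hb2 hb1 hbd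
    refine kill_one hG hE hσ hIH hx fr.three hcov hL fr.lf hl hT (fun j hj => ?_) hb1 hbd hex
    by_cases hj' : j = j₂
    · rw [hj']; exact hb2
    · exact (hAm' b).1 hbA j hj hj'
  rcases H547.RC.TriDim.dim_fix hG (fun j : {j : ι // j ≠ i₁ ∧ j ≠ j₂} => M j) (fun j => r j) (fun j => hT j)
      (fun j => hl j) (fun j => hx.prime j) (fun i j h => Subtype.ext (hx.inj h)) (fun j => hrp j j.2.2)
      (fun j => fr.pow j) (fun i j => fr.comm i j) ⟨⟨j₃, hj₃, hj₃'⟩, fr.ne j₃ hj₃⟩ A hAm with hd | hd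
  · obtain ⟨-, b, hb, hbU, hb1, hbd⟩ := H338.RC.TriS.box_iS (p := ringChar F) hp3
      (fun j : {j : ι // j ≠ i₁ ∧ j ≠ j₂} => M j) (fun j => hT j) (fun j => hl j) (fun j => r j)
      (fun j => hrp j j.2.2) (fun j => fr.pow j) (fun i j => fr.comm i j) (M j₂) (hT j₂) (hl j₂)
      (by have := fr.pow j₂; rwa [hj₂p] at this) (fr.ne j₂ hj₂) (fun j => fr.comm j₂ j) A hAm hd
    exact fin b ((hAm b).2 hb) hbU hb1 hbd
  · by_cases hU : ∃ v ∈ A, (M j₂).1 v ≠ v
    · exact H237.RC.ID.box_iD (p := ringChar F) hG hE hσ hp3 hx.prime hx.pow hx.ne hx.comm hcov hj₂ hL fr.lf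
        (fun j _ => hT j) (fun j _ => hl j) (fun j _ => fr.pow j) hj₂p
        (fun j _ hj' h => hrp j hj' ((hrF j).2 h)) (fun j hj _ => hr3 j hj) A hAm' hd hU
    · push Not at hU
      rcases H103.RC.fix_pair_family hG (fun j : {j : ι // j ≠ i₁ ∧ j ≠ j₂} => M j) (fun j => r j) (fun j => hT j)
        (fun j => hl j) (fun j => hx.prime j) (fun i j h => Subtype.ext (hx.inj h)) (fun j => hrp j j.2.2)
        (fun j => fr.pow j) (fun i j => fr.comm i j) with ⟨b, hb, hb1, hb2⟩ | ⟨hF, e, he, hee, hQe, he1, hfix⟩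
      · exact fin b ((hAm b).2 hb) (hU b ((hAm b).2 hb)) hb1 hb2
      · have h1 : A ≤ Submodule.span F {one8 F, e} := by
          intro v hv
          obtain ⟨a, c, h⟩ := hfix v ((hAm v).1 hv)
          rw [Submodule.mem_span_pair]
          exact ⟨a, c, h.symm⟩
        have h2 := Submodule.finrank_mono h1
        have h3 : finrank F (Submodule.span F {one8 F, e}) ≤ 2 := by
          refine (finrank_span_le_card ({one8 F, e} : Set (V8 F))).trans ?_
          rw [Set.toFinset_insert, Set.toFinset_singleton]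
          exact Finset.card_le_two
        have h4 := h2.trans h3
        rw [hd] at h4
        exact absurd h4 (by norm_num)

end main

end Cfsg.Agent.H566.RC
end

private theorem dce_16b04a2d84ef : _root_.True := by
  try have : _root_.True := by simp only [_root_.Cfsg.Agent.H237.RC.ID.Zc.eq_1]
  try have : _root_.True := by simp only [_root_.Cfsg.Agent.H237.RC.ID.pH.eq_1]
  try have : _root_.True := by simp only [_root_.Cfsg.Agent.H237.RC.ID.pR.eq_1]
  try have : _root_.True := by simp only [_root_.Cfsg.Agent.H103.RC.n0.eq_1]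
  try have : _root_.True := by simp only [_root_.Cfsg.Agent.H237.RC.ID.gm.eq_1]
  try have : _root_.True := by simp only [_root_.Cfsg.Agent.H237.RC.ID.ec.eq_1]
  try have : _root_.True := by simp only [_root_.Cfsg.Agent.H103.RC.e0.eq_1]
  try have : _root_.True := by simp only [_root_.Cfsg.Agent.H237.RC.ID.pL.eq_1]
  try have : _root_.True := by simp only [_root_.Cfsg.Agent.H237.RC.ID.La0.eq_1]
  try have : _root_.True := by simp only [_root_.Cfsg.Agent.H103.RC.g0P.eq_1]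
  try have : _root_.True := by simp only [_root_.Cfsg.Agent.H237.RC.ID.Dc.eq_1]
  try have : _root_.True := by simp only [_root_.Cfsg.Agent.H237.RC.ID.fc.eq_1]
  exact _root_.True.intro
end
end
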